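import Cfsg.Agent.Lib.Solvable.RankTwoUnipotent.Weights
import Cfsg.Prelude.Def_Transfer
import Cfsg.Agent.Lib.PGroup.Frattini
import Cfsg.Agent.Lib.TwoGroups.MacWilliams.Central

/-!
The setting: a `3'`-group `R = [R,b]` and an element `b` of order three with displacement of rank at most
two, generating a group that acts irreducibly and faithfully in characteristic three.
-/

set_option autoImplicit false

open scoped commutatorElement

namespace CfsgLib.Solvable.RankTwoUnipotent

/-- The standing hypotheses. -/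
structure Rank2 {L : Type*} [Group L] {V : Type*} [AddCommGroup V] [Module (ZMod 3) V]
    (τ : Representation (ZMod 3) L V) (R : Subgroup L) (b : L) : Prop where
  faithful : Function.Injective τ
  normal : R.Normal
  coprime : (Nat.card R).Coprime 3
  b_cube : b ^ 3 = 1
  gen : R ⊔ Subgroup.zpowers b = ⊤
  idem : ⁅R, Subgroup.zpowers b⁆ = R
  rank : Module.finrank (ZMod 3) (LinearMap.range (τ b - 1)) ≤ 2
  irred : ∀ N : Submodule (ZMod 3) V, (∀ g, ∀ v ∈ N, τ g v ∈ N) → N = ⊥ ∨ N = ⊤
  nontriv : R ≠ ⊥

namespace Rank2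

variable {L : Type*} [Group L] [Finite L] {V : Type*} [AddCommGroup V] [Module (ZMod 3) V] [Finite V]
  {τ : Representation (ZMod 3) L V} {R : Subgroup L} {b : L} (H : Rank2 τ R b)

include H

omit [Finite L] [Finite V] in
theorem le_of_comm {M : Type*} [CommGroup M] (f : L →* M) : R ≤ f.ker := by
  rw [← H.idem, Subgroup.commutator_le]
  intro x _ y _
  rw [MonoidHom.mem_ker, map_commutatorElement, commutatorElement_eq_one_iff_commute]
  exact mul_comm _ _

omit [Finite L] [Finite V] in
theorem det_eq_one {r : L} (hr : r ∈ R) : LinearMap.det (τ r) = 1 :=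
  congrArg Units.val (MonoidHom.mem_ker.mp (H.le_of_comm ((Units.map LinearMap.det).comp τ.toHomUnits) hr))

omit [Finite L] [Finite V] in
theorem eq_top_of_le {M : Subgroup L} (hR : R ≤ M) (hb : b ∈ M) : M = ⊤ := by
  rw [eq_top_iff, ← H.gen, sup_le_iff, Subgroup.zpowers_le]
  exact ⟨hR, hb⟩

omit [Finite L] [Finite V] in
/-- An element set in a normal subgroup centralized by `b` is central. -/
theorem central_of_comm {A : Subgroup L} [A.Normal] (h : ∀ a ∈ A, b * a = a * b) {a : L} (ha : a ∈ A) (g : L) :
    g * a = a * g := by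
  have hb : b ∈ Subgroup.centralizer (A : Set L) := Subgroup.mem_centralizer_iff.mpr fun x hx => (h x hx).symm
  have hR : R ≤ Subgroup.centralizer (A : Set L) := by
    rw [← H.idem]
    exact (Subgroup.commutator_mono le_rfl (Subgroup.zpowers_le.mpr hb)).trans (Subgroup.commutator_le_right _ _)
  have hg : g ∈ Subgroup.centralizer (A : Set L) := by rw [H.eq_top_of_le hR hb]; trivial
  exact (Subgroup.mem_centralizer_iff.mp hg a ha).symm

omit [Finite L] [Finite V] in
/-- A central involution acts as a scalar. -/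
theorem scalar_of_central {z : L} (h2 : z ^ 2 = 1) (hz : ∀ g, g * z = z * g) :
    (∀ v, τ z v = v) ∨ ∀ v, τ z v = -v := by
  rcases H.irred (LinearMap.ker (τ z - 1)) (fun g v hv => by
    simp only [LinearMap.mem_ker, LinearMap.sub_apply, Module.End.one_apply, sub_eq_zero] at hv ⊢
    rw [← apply_mul, ← hz g, apply_mul, hv]) with h | h
  · refine Or.inr fun v => ?_
    have h1 : v + τ z v ∈ LinearMap.ker (τ z - 1) := by
      simp only [LinearMap.mem_ker, LinearMap.sub_apply, Module.End.one_apply, map_add]
      rw [← apply_mul, ← pow_two, h2, apply_one]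
      abel
    rw [h, Submodule.mem_bot] at h1
    exact eq_neg_of_add_eq_zero_right h1
  · exact Or.inl fun v => by
      have : v ∈ LinearMap.ker (τ z - 1) := h ▸ trivial
      simpa [sub_eq_zero] using this

omit [Finite L] [Finite V] in
theorem eq_one_of_fixed {g : L} (hg : ∀ v, τ g v = v) : g = 1 :=
  H.faithful (LinearMap.ext fun v => by rw [hg, apply_one])

omit [Finite L] [Finite V] in
theorem eq_of_apply {g g' : L} (h : ∀ v, τ g v = τ g' v) : g = g' := H.faithful (LinearMap.ext h)

omit [Finite L] [Finite V] in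
theorem b_inv : b⁻¹ = b ^ 2 := inv_eq_of_mul_eq_one_right (by rw [← pow_succ', H.b_cube])

omit [Finite L] [Finite V] in
theorem exists_decomp (g : L) : ∃ r ∈ R, ∃ k : ℤ, g = r * b ^ k := by
  have hg : g ∈ R ⊔ Subgroup.zpowers b := by rw [H.gen]; trivial
  haveI := H.normal
  obtain ⟨r, hr, y, hy, rfl⟩ := Subgroup.mem_sup_of_normal_left.mp hg
  obtain ⟨k, rfl⟩ := Subgroup.mem_zpowers_iff.mp hy
  exact ⟨r, hr, k, rfl⟩

omit [Finite V] in
/-- An element of `R` whose image has order dividing three is in the kernel. -/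
theorem map_eq_one {M : Type*} [Group M] (f : L →* M) {r : L} (hr : r ∈ R) (h : f r ^ 3 = 1) : f r = 1 := by
  refine orderOf_eq_one_iff.mp (Nat.dvd_one.mp ?_)
  rw [← H.coprime]
  exact Nat.dvd_gcd ((orderOf_map_dvd f r).trans (Subgroup.orderOf_dvd_natCard R hr)) (orderOf_dvd_of_pow_eq_one h)

end Rank2

/-- A two-group with centre of order at most two containing all squares is extraspecial, unless commutative. -/
theorem isExtraspecial_of_squares {P : Type*} [Group P] [Finite P] (hP : IsPGroup 2 P)
    (hZ : Nat.card (Subgroup.center P) ≤ 2) (hsq : ∀ x : P, x ^ 2 ∈ Subgroup.center P)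
    (hna : ∃ x y : P, x * y ≠ y * x) : Cfsg.IsExtraspecial 2 P := by
  haveI : Fact (Nat.Prime 2) := ⟨Nat.prime_two⟩
  obtain ⟨x, y, hxy⟩ := hna
  have hcomm : ∀ a c : P, ⁅a, c⁆ ∈ Subgroup.center P := by
    intro a c

    rw [← QuotientGroup.eq_one_iff]
    have q2 : ∀ q : P ⧸ Subgroup.center P, q * q = 1 := by
      intro q
      obtain ⟨u, rfl⟩ := QuotientGroup.mk_surjective q
      rw [← QuotientGroup.mk_mul, ← pow_two, QuotientGroup.eq_one_iff]
      exact hsq u
    have qc : ∀ p q : P ⧸ Subgroup.center P, p * q = q * p := fun p q => by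
      have hp := inv_eq_of_mul_eq_one_right (q2 p)
      have hq := inv_eq_of_mul_eq_one_right (q2 q)
      have hpq := inv_eq_of_mul_eq_one_right (q2 (p * q))
      rw [mul_inv_rev, hp, hq] at hpq
      exact hpq.symm
    show ((⁅a, c⁆ : P) : P ⧸ Subgroup.center P) = 1
    rw [← QuotientGroup.mk'_apply, map_commutatorElement, commutatorElement_eq_one_iff_mul_comm]
    exact qc _ _
  have hne : (⁅x, y⁆ : P) ≠ 1 := fun e => hxy (commutatorElement_eq_one_iff_mul_comm.mp e)
  have hcard : Nat.card (Subgroup.center P) = 2 := by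
    refine le_antisymm hZ ?_
    rw [Nat.succ_le_iff, Finite.one_lt_card_iff_nontrivial, Subgroup.nontrivial_iff_exists_ne_one]
    exact ⟨_, hcomm x y, hne⟩
  have hcle : commutator P ≤ Subgroup.center P := by
    rw [commutator_def, Subgroup.commutator_le]
    exact fun a _ c _ => hcomm a c
  have hceq : commutator P = Subgroup.center P := by
    refine Subgroup.eq_of_le_of_card_ge hcle ?_
    rw [hcard, Nat.succ_le_iff, Finite.one_lt_card_iff_nontrivial, Subgroup.nontrivial_iff_exists_ne_one]
    exact ⟨_, Subgroup.commutator_mem_commutator (Subgroup.mem_top x) (Subgroup.mem_top y), hne⟩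
  refine ⟨⟨hP, le_antisymm (CfsgLib.TwoGroups.MacWilliams.frattini_le_of_sq hsq) ?_, hceq⟩, hcard⟩
  rw [← hceq, commutator_def, Subgroup.commutator_le]
  exact fun a _ c _ => CfsgLib.PGroup.Frattini.commutatorElement_mem_frattini hP a c

end CfsgLib.Solvable.RankTwoUnipotent
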