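import Mathlib

/-!
Automorphisms of prime order of very small groups and spaces.
-/

set_option autoImplicit false

open scoped commutatorElement

namespace CfsgLib.Solvable.RankTwoUnipotent

theorem card_modEq_fixed {X : Type*} [Finite X] {q : ℕ} [Fact q.Prime] (σ : Equiv.Perm X) (hσ : σ ^ q = 1) :
    Nat.card X ≡ Nat.card {x // σ x = x} [MOD q] := by
  have hP : IsPGroup q (Subgroup.zpowers σ) := fun g => ⟨1, by
    obtain ⟨g, hg⟩ := g
    obtain ⟨k, rfl⟩ := Subgroup.mem_zpowers_iff.mp hg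
    refine Subtype.ext ?_
    show (σ ^ k) ^ q ^ 1 = 1
    rw [pow_one, ← zpow_natCast, ← zpow_mul, mul_comm, zpow_mul, zpow_natCast, hσ, one_zpow]⟩
  refine (hP.card_modEq_card_fixedPoints X).trans ?_
  refine congrArg (· % q) (Nat.card_congr (Equiv.subtypeEquivRight fun x => ?_))
  refine ⟨fun h => h ⟨σ, Subgroup.mem_zpowers σ⟩, fun h g => ?_⟩
  obtain ⟨g, hg⟩ := g
  obtain ⟨k, rfl⟩ := Subgroup.mem_zpowers_iff.mp hg
  show (σ ^ k) x = x
  exact Equiv.Perm.zpow_apply_eq_self_of_apply_eq_self h k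

theorem dvd_sub_of_fixed {X : Type*} [Finite X] {q : ℕ} [Fact q.Prime] (σ : Equiv.Perm X) (hσ : σ ^ q = 1) :
    q ∣ Nat.card X - Nat.card {x // σ x = x} := by
  refine (Nat.modEq_iff_dvd' ?_).mp (card_modEq_fixed σ hσ).symm
  exact Nat.card_le_card_of_injective _ Subtype.val_injective

/-- A nontrivial operator of prime order `q ≥ 5` on at most `3 ^ 4` points. -/
theorem prime_of_linear {V : Type*} [AddCommGroup V] [Module (ZMod 3) V] [Finite V] {q : ℕ} [hq : Fact q.Prime]
    (hq5 : 5 ≤ q) (φ : V →ₗ[ZMod 3] V) (hφ : φ ^ q = 1) (hne : φ ≠ 1) :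
    3 ≤ Module.finrank (ZMod 3) V ∧ (Module.finrank (ZMod 3) V ≤ 4 → q = 5 ∨ q = 13) := by
  classical
  have hp1 : ∀ (n : ℕ) (v : V), (φ ^ n) v = (fun w => φ w)^[n] v := fun n v => Module.End.pow_apply φ n v
  have hinv : φ * φ ^ (q - 1) = 1 ∧ φ ^ (q - 1) * φ = 1 := by
    constructor
    · rw [← pow_succ', Nat.sub_add_cancel hq.out.one_le, hφ]
    · rw [← pow_succ, Nat.sub_add_cancel hq.out.one_le, hφ]
  let σ : Equiv.Perm V := ⟨φ, ⇑(φ ^ (q - 1)), fun v => LinearMap.congr_fun hinv.2 v, fun v => LinearMap.congr_fun hinv.1 v⟩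
  have hσ : σ ^ q = 1 := by
    ext v
    rw [Equiv.Perm.coe_pow]
    show (fun w => φ w)^[q] v = v
    rw [← hp1, hφ]; rfl
  set K := LinearMap.ker (φ - 1)
  have hK : Nat.card {x // σ x = x} = Nat.card K := Nat.card_congr (Equiv.subtypeEquivRight fun x => by
    simp [K, σ, sub_eq_zero])
  have hd := dvd_sub_of_fixed σ hσ
  rw [hK, Module.natCard_eq_pow_finrank (K := ZMod 3) (V := V), Module.natCard_eq_pow_finrank (K := ZMod 3) (V := K),
    Nat.card_zmod] at hd
  have hlt : Module.finrank (ZMod 3) K < Module.finrank (ZMod 3) V := by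
    refine Submodule.finrank_lt fun e => hne (LinearMap.ext fun v => ?_)
    have : v ∈ K := e ▸ trivial
    simpa [K, sub_eq_zero] using this
  generalize Module.finrank (ZMod 3) V = n at hd hlt ⊢
  generalize Module.finrank (ZMod 3) K = j at hd hlt
  have hcases : ∀ M : ℕ, 3 ^ n - 3 ^ j ∣ M → q ∣ M := fun M h => hd.trans h
  refine ⟨?_, fun hn => ?_⟩
  · by_contra hn
    have h24 : 3 ^ n - 3 ^ j ∣ 24 := by
      have : n ≤ 2 := by omega
      interval_cases n <;> interval_cases j <;> norm_num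
    rcases (hq.out.dvd_mul).mp ((hcases _ h24).trans (show 24 ∣ 2 ^ 3 * 3 from dvd_rfl)) with h | h
    · have := Nat.le_of_dvd (by norm_num) (hq.out.dvd_of_dvd_pow h); omega
    · have := Nat.le_of_dvd (by norm_num) h; omega
  · have hM : 3 ^ n - 3 ^ j ∣ 2 ^ 4 * 3 ^ 4 * (5 * 13) := by
      interval_cases n <;> interval_cases j <;> norm_num
    have hq' := hcases _ hM
    rcases (hq.out.dvd_mul).mp hq' with h | h
    · rcases (hq.out.dvd_mul).mp h with h | h
      · have := Nat.le_of_dvd (by norm_num) (hq.out.dvd_of_dvd_pow h); omega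
      · have := Nat.le_of_dvd (by norm_num) (hq.out.dvd_of_dvd_pow h); omega
    · rcases (hq.out.dvd_mul).mp h with h | h
      · exact Or.inl ((Nat.prime_dvd_prime_iff_eq hq.out (by norm_num)).mp h)
      · exact Or.inr ((Nat.prime_dvd_prime_iff_eq hq.out (by norm_num)).mp h)

/-- A nontrivial automorphism of prime order `q ≥ 5` of a group of order dividing `16`. -/
theorem prime_of_aut {X : Type*} [Group X] [Finite X] {q : ℕ} [hq : Fact q.Prime] (hq5 : 5 ≤ q) {n : ℕ}
    (hX : Nat.card X = 2 ^ n) (hn : n ≤ 4) (m : MulAut X) (hm : m ^ q = 1) (hne : m ≠ 1) :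
    3 ≤ n ∧ (q = 5 → n = 4 ∧ ∀ x, m x = x → x = 1) ∧ (q = 5 ∨ q = 7) := by
  classical
  let σ : Equiv.Perm X := MulAut.toPerm (M := X) m
  have hσ : σ ^ q = 1 := by rw [← map_pow, hm, map_one]
  let S : Subgroup X :=
    { carrier := {x | m x = x}
      one_mem' := map_one m
      mul_mem' := fun {a b} ha hb => by
        show m (a * b) = a * b
        rw [map_mul, ha, hb]
      inv_mem' := fun {a} ha => by
        show m a⁻¹ = a⁻¹
        rw [map_inv, ha] }
  have hK : Nat.card {x // σ x = x} = Nat.card S := rfl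
  have hd := dvd_sub_of_fixed σ hσ
  rw [hK, hX] at hd
  obtain ⟨j, hj, hjS⟩ := (Nat.dvd_prime_pow Nat.prime_two).mp (hX ▸ S.card_subgroup_dvd_card)
  have hjn : j < n := by
    refine lt_of_le_of_ne hj fun e => hne (MulEquiv.ext fun x => ?_)
    have : S = ⊤ := Subgroup.eq_top_of_card_eq S (by rw [hjS, e, hX])
    exact (this ▸ trivial : x ∈ S)
  rw [hjS] at hd
  have hM : 2 ^ n - 2 ^ j ∣ 2 ^ 3 * 3 * (5 * 7) := by
    interval_cases n <;> interval_cases j <;> norm_num
  have hq57 : q = 5 ∨ q = 7 := by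
    rcases (hq.out.dvd_mul).mp (hd.trans hM) with h | h
    · rcases (hq.out.dvd_mul).mp h with h | h
      · have := Nat.le_of_dvd (by norm_num) (hq.out.dvd_of_dvd_pow h); omega
      · have := Nat.le_of_dvd (by norm_num) h; omega
    · rcases (hq.out.dvd_mul).mp h with h | h
      · exact Or.inl ((Nat.prime_dvd_prime_iff_eq hq.out (by norm_num)).mp h)
      · exact Or.inr ((Nat.prime_dvd_prime_iff_eq hq.out (by norm_num)).mp h)
  refine ⟨?_, fun h5 => ?_, hq57⟩
  · by_contra h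
    rcases hq57 with rfl | rfl <;>
    · have : n ≤ 2 := by omega
      interval_cases n <;> interval_cases j <;> norm_num at hd
  · subst h5
    have hn4 : n = 4 ∧ j = 0 := by
      interval_cases n <;> interval_cases j <;> first | exact ⟨rfl, rfl⟩ | norm_num at hd
    refine ⟨hn4.1, fun x hx => ?_⟩
    have : S = ⊥ := Subgroup.card_eq_one.mp (by rw [hjS, hn4.2, pow_zero])
    have hxS : x ∈ S := hx
    rwa [this, Subgroup.mem_bot] at hxS

theorem cube_five : ∀ w : ZMod 5, w * (w * w) = 1 → w = 1 := by decide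

/-- A solvable group of automorphisms of a group of order at most `16` whose only odd prime is five and that
has no normal `2`-subgroup commutes with every normalizing automorphism of order three. -/
theorem commute_of_small {X : Type*} [Group X] [Finite X] {n : ℕ} (hX : Nat.card X = 2 ^ n) (hn : n ≤ 4)
    (G : Subgroup (MulAut X)) (hsol : Group.IsSolvable G)
    (h2 : ∀ N : Subgroup (MulAut X), N ≤ G → G ≤ Subgroup.normalizer (N : Set (MulAut X)) → IsPGroup 2 N → N = ⊥)
    (hp : ∀ q : ℕ, q.Prime → q ∣ Nat.card G → q = 2 ∨ q = 5) (β : MulAut X) (hβ3 : β ^ 3 = 1)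
    (hβ : β ∈ Subgroup.normalizer (G : Set (MulAut X))) : ∀ g ∈ G, β * g = g * β := by
  classical
  rcases eq_or_ne G ⊥ with hbot | hne
  · intro g hg
    rw [hbot, Subgroup.mem_bot] at hg
    rw [hg, mul_one, one_mul]
  haveI : Fact (Nat.Prime 2) := ⟨Nat.prime_two⟩
  haveI : Fact (Nat.Prime 5) := ⟨by norm_num⟩
  -- an abelian normal subgroup
  obtain ⟨i, hi⟩ := (Group.isSolvable_def (G := G)).mp hsol
  have hi0 : derivedSeries G 0 ≠ ⊥ := by
    rw [derivedSeries_zero]
    intro e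
    refine hne ((Subgroup.eq_bot_iff_forall _).mpr fun g hg => ?_)
    have : (⟨g, hg⟩ : G) ∈ (⊥ : Subgroup G) := e ▸ trivial
    exact congrArg Subtype.val (Subgroup.mem_bot.mp this)
  obtain ⟨k, hk, hk'⟩ : ∃ k, derivedSeries G k ≠ ⊥ ∧ derivedSeries G (k + 1) = ⊥ := by
    by_contra h
    push Not at h
    have : ∀ k, derivedSeries G k ≠ ⊥ := fun k => by
      induction k with
      | zero => exact hi0
      | succ k ih => exact h k ih
    exact this i hi
  set M : Subgroup (MulAut X) := (derivedSeries G k).map G.subtype with hM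
  have hMG : M ≤ G := Subgroup.map_subtype_le _
  have hMn : G ≤ Subgroup.normalizer (M : Set (MulAut X)) := fun g hg => by
    rw [Subgroup.mem_normalizer_iff]
    have key : ∀ g : G, ∀ x ∈ M, (g : MulAut X) * x * (g : MulAut X)⁻¹ ∈ M := by
      rintro g _ ⟨y, hy, rfl⟩
      exact ⟨g * y * g⁻¹, (derivedSeries_normal G k).conj_mem y hy g, rfl⟩
    exact fun x => ⟨key ⟨g, hg⟩ x, fun h => by simpa [mul_assoc] using key ⟨g, hg⟩⁻¹ _ h⟩
  have hMc : ∀ a ∈ M, ∀ c ∈ M, a * c = c * a := by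
    rintro _ ⟨a, ha, rfl⟩ _ ⟨c, hc, rfl⟩
    have h : ⁅a, c⁆ ∈ derivedSeries G (k + 1) := by
      rw [derivedSeries_succ]; exact Subgroup.commutator_mem_commutator ha hc
    rw [hk', Subgroup.mem_bot, commutatorElement_eq_one_iff_mul_comm] at h
    rw [← map_mul, ← map_mul, h]
  -- no involutions in `M`
  have hM2 : ∀ a ∈ M, a ^ 2 = 1 → a = 1 := by
    intro a ha h
    let N : Subgroup (MulAut X) :=
      { carrier := {x | x ∈ M ∧ x ^ 2 = 1}
        one_mem' := ⟨M.one_mem, one_pow 2⟩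
        mul_mem' := fun {x y} hx hy => ⟨M.mul_mem hx.1 hy.1, by
          rw [(show Commute x y from hMc x hx.1 y hy.1).mul_pow, hx.2, hy.2, one_mul]⟩
        inv_mem' := fun {x} hx => ⟨M.inv_mem hx.1, by rw [inv_pow, hx.2, inv_one]⟩ }
    have hN : N = ⊥ := h2 N (fun x hx => hMG hx.1) (fun g hg => by
      rw [Subgroup.mem_normalizer_iff]
      intro x
      have e : (g * x * g⁻¹) ^ 2 = g * x ^ 2 * g⁻¹ := conj_pow
      refine ⟨fun hx => ⟨(Subgroup.mem_normalizer_iff.mp (hMn hg) x).mp hx.1, by rw [e, hx.2]; group⟩,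
        fun hx => ⟨(Subgroup.mem_normalizer_iff.mp (hMn hg) x).mpr hx.1, ?_⟩⟩
      have h' := hx.2
      rw [e, mul_inv_eq_one, mul_eq_left] at h'
      exact h') (fun x => ⟨1, Subtype.ext x.2.2⟩)
    exact (Subgroup.eq_bot_iff_forall _).mp hN a ⟨ha, h⟩
  have hMne : M ≠ ⊥ := fun e => hk ((Subgroup.map_eq_bot_iff_of_injective _ G.subtype_injective).mp e)
  have hfpf : ∀ m ∈ G, orderOf m = 5 → n = 4 ∧ ∀ x, m x = x → x = 1 := fun m _ hm =>
    (prime_of_aut (q := 5) le_rfl hX hn m (by rw [← hm]; exact pow_orderOf_eq_one m) (fun e => by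
      rw [e, orderOf_one] at hm; norm_num at hm)).2.1 rfl
  obtain ⟨m₀, hm₀, hm5⟩ : ∃ m ∈ M, orderOf m = 5 := by
    obtain ⟨⟨a, ha⟩, hne1⟩ := M.ne_bot_iff_exists_ne_one.mp hMne
    have ha1 : a ≠ 1 := fun e => hne1 (Subtype.ext e)
    obtain ⟨q, hq, hqa⟩ := Nat.exists_prime_and_dvd (show orderOf a ≠ 1 from fun e => ha1 (orderOf_eq_one_iff.mp e))
    rcases hp q hq (hqa.trans (Subgroup.orderOf_dvd_natCard G (hMG ha))) with rfl | rfl
    · set c := orderOf a / 2
      have ho : orderOf (a ^ c) = 2 := orderOf_pow_orderOf_div (orderOf_pos a).ne' hqa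
      exact absurd (hM2 _ (M.pow_mem ha c) (ho ▸ pow_orderOf_eq_one (a ^ c))) (fun e => by
        rw [e, orderOf_one] at ho; norm_num at ho)
    · exact ⟨a ^ (orderOf a / 5), M.pow_mem ha _, orderOf_pow_orderOf_div (orderOf_pos a).ne' hqa⟩
  obtain ⟨hn4, hfree⟩ := hfpf m₀ (hMG hm₀) hm5
  -- no involution of `G` centralizes `m₀`
  have hinv : ∀ t ∈ G, t ^ 2 = 1 → t * m₀ = m₀ * t → t = 1 := by
    intro t _ ht hcomm
    by_contra htne
    obtain ⟨x, hx⟩ : ∃ x, t x ≠ x := by
      by_contra h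
      push Not at h
      exact htne (MulEquiv.ext h)
    let S : Subgroup X :=
      { carrier := {y | t y = y}
        one_mem' := map_one t
        mul_mem' := fun {a b} ha hb => by
          show t (a * b) = a * b
          rw [map_mul, ha, hb]
        inv_mem' := fun {a} ha => by
          show t a⁻¹ = a⁻¹
          rw [map_inv, ha] }
    have htt : ∀ y, t (t y) = y := fun y => by
      have := congrArg (fun f : MulAut X => f y) ht
      simpa [pow_two] using this
    have hSne : ∃ s ∈ S, s ≠ 1 := by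
      by_contra h
      push Not at h
      -- otherwise an involution without fixed points moves an odd number of points
      let σ : Equiv.Perm X := MulAut.toPerm (M := X) t
      have hσ : σ ^ 2 = 1 := by rw [← map_pow, ht, map_one]
      have h' := dvd_sub_of_fixed σ hσ
      have h1 : Nat.card {y // σ y = y} = 1 := by
        rw [Nat.card_eq_one_iff_unique]
        exact ⟨⟨fun a c => Subtype.ext ((h a a.2).trans (h c c.2).symm)⟩, ⟨⟨1, map_one t⟩⟩⟩
      rw [h1, hX, hn4] at h'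
      norm_num at h'
    have hSm : ∀ y ∈ S, m₀ y ∈ S := fun y hy => by
      show t (m₀ y) = m₀ y
      calc t (m₀ y) = (t * m₀) y := rfl
        _ = m₀ (t y) := by rw [hcomm]; rfl
        _ = m₀ y := by rw [show t y = y from hy]
    let σ : Equiv.Perm S := (MulAut.toPerm (M := X) m₀).subtypePerm (fun y => by
      refine ⟨fun hy => ?_, fun hy => hSm y hy⟩
      have hinj : m₀ (t y) = m₀ y := by
        calc m₀ (t y) = (m₀ * t) y := rfl
          _ = t (m₀ y) := by rw [← hcomm]; rfl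
          _ = m₀ y := hy
      exact m₀.injective hinj)
    have hσk : ∀ (e : ℕ) (y : S), ((σ ^ e) y : X) = (m₀ ^ e) (y : X) := fun e => by
      induction e with
      | zero => exact fun y => rfl
      | succ e ih => intro y; rw [pow_succ, pow_succ, Equiv.Perm.mul_apply, ih, MulAut.mul_apply]; rfl
    have hσ : σ ^ 5 = 1 := by
      ext y
      rw [hσk, ← hm5, pow_orderOf_eq_one]
      rfl
    have h' := dvd_sub_of_fixed σ hσ
    have h1 : Nat.card {y // σ y = y} = 1 := by
      rw [Nat.card_eq_one_iff_unique]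
      refine ⟨⟨fun a c => ?_⟩, ⟨⟨1, Subtype.ext (map_one m₀)⟩⟩⟩
      have ha := hfree _ (congrArg Subtype.val a.2)
      have hc := hfree _ (congrArg Subtype.val c.2)
      exact Subtype.ext (Subtype.ext (ha.trans hc.symm))
    rw [h1] at h'
    obtain ⟨j, hj, hjS⟩ := (Nat.dvd_prime_pow Nat.prime_two).mp (hX ▸ S.card_subgroup_dvd_card)
    rw [hjS] at h'
    have hj1 : j ≠ 0 := by
      rintro rfl
      obtain ⟨s, hs, hs1⟩ := hSne
      rw [pow_zero, Subgroup.card_eq_one] at hjS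
      exact hs1 (by rwa [hjS, Subgroup.mem_bot] at hs)
    have hj4 : j ≠ n := fun e => hx (by
      have : S = ⊤ := Subgroup.eq_top_of_card_eq S (by rw [hjS, e, hX])
      exact (this ▸ trivial : x ∈ S))
    subst hn4
    interval_cases j <;> first | omega | norm_num at h'
  -- the centralizer of `m₀` in `G`
  set C : Subgroup (MulAut X) := G ⊓ Subgroup.centralizer {m₀} with hC
  have hC5 : ∀ c ∈ C, c ≠ 1 → ∀ x, c x = x → x = 1 := by
    intro c hc hc1
    obtain ⟨q, hq, hqc⟩ := Nat.exists_prime_and_dvd (show orderOf c ≠ 1 from fun e => hc1 (orderOf_eq_one_iff.mp e))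
    obtain ⟨e, ho⟩ : ∃ e, orderOf (c ^ e) = q := ⟨_, orderOf_pow_orderOf_div (orderOf_pos c).ne' hqc⟩
    rcases hp q hq (hqc.trans (Subgroup.orderOf_dvd_natCard G hc.1)) with rfl | rfl
    · exfalso
      have h1 : c ^ e = 1 := hinv _ (G.pow_mem hc.1 e) (ho ▸ pow_orderOf_eq_one (c ^ e))
        ((Commute.pow_left (show Commute c m₀ from
          (Subgroup.mem_centralizer_singleton_iff.mp hc.2)) e).eq)
      rw [h1, orderOf_one] at ho
      norm_num at ho
    · intro x hx
      refine (hfpf _ (G.pow_mem hc.1 e) ho).2 x ?_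
      clear ho
      induction e with
      | zero => rfl
      | succ e ih => rw [pow_succ, MulAut.mul_apply, hx, ih]
  -- free action
  obtain ⟨x₀, hx₀⟩ : ∃ x : X, x ≠ 1 := by
    haveI : Nontrivial X := Finite.one_lt_card_iff_nontrivial.mp (by rw [hX, hn4]; norm_num)
    exact exists_ne 1
  have hCcard : Nat.card C ≤ 15 := by
    have h : Nat.card C ≤ Nat.card {x : X // x ≠ 1} := by
      refine Nat.card_le_card_of_injective (fun c => ⟨(c : MulAut X) x₀, fun e => hx₀ ((c : MulAut X).injective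
        (e.trans (map_one _).symm))⟩) fun c c' h => Subtype.ext ?_
      by_contra hne'
      refine hx₀ (hC5 ((c' : MulAut X)⁻¹ * c) (C.mul_mem (C.inv_mem c'.2) c.2)
        (fun e => hne' (inv_mul_eq_one.mp e).symm) x₀ ?_)
      rw [MulAut.mul_apply, show (c : MulAut X) x₀ = (c' : MulAut X) x₀ from congrArg Subtype.val h]
      exact (c' : MulAut X).symm_apply_apply x₀
    have h2' : Nat.card {x : X // x ≠ 1} < Nat.card X := by
      refine lt_of_le_of_ne (Nat.card_le_card_of_injective _ Subtype.val_injective) fun e => ?_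
      have := (Finite.equivFinOfCardEq e).symm
      have hsur : Function.Surjective (Subtype.val : {x : X // x ≠ 1} → X) :=
        (Nat.bijective_iff_injective_and_card _).mpr ⟨Subtype.val_injective, e⟩ |>.2
      obtain ⟨y, hy⟩ := hsur 1
      exact y.2 hy
    rw [hX, hn4] at h2'
    omega
  have hCp : IsPGroup 5 C := by
    rw [IsPGroup.iff_orderOf]
    intro c
    refine ⟨(orderOf c).primeFactorsList.length, ?_⟩
    refine Nat.eq_prime_pow_of_unique_prime_dvd (orderOf_pos c).ne' fun {d} hd hdc => ?_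
    rw [← Subgroup.orderOf_coe] at hdc
    rcases hp d hd (hdc.trans (Subgroup.orderOf_dvd_natCard G c.2.1)) with rfl | rfl
    · exfalso
      obtain ⟨e, ho⟩ : ∃ e, orderOf ((c : MulAut X) ^ e) = 2 :=
        ⟨_, orderOf_pow_orderOf_div (orderOf_pos (c : MulAut X)).ne' hdc⟩
      have h1 : (c : MulAut X) ^ e = 1 := hinv _ (G.pow_mem c.2.1 e) (ho ▸ pow_orderOf_eq_one _)
        ((Commute.pow_left (show Commute (c : MulAut X) m₀ from
          (Subgroup.mem_centralizer_singleton_iff.mp c.2.2)) e).eq)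
      rw [h1, orderOf_one] at ho
      norm_num at ho
    · rfl
  have hCeq : ∀ c ∈ C, c ∈ Subgroup.zpowers m₀ := by
    have hle : Subgroup.zpowers m₀ ≤ C := Subgroup.zpowers_le.mpr
      ⟨hMG hm₀, Subgroup.mem_centralizer_singleton_iff.mpr rfl⟩
    obtain ⟨k', hk'⟩ := IsPGroup.iff_card.mp hCp
    have h5 : Nat.card C = 5 := by
      have h5' : 5 ≤ Nat.card C := by
        rw [← hm5, ← Nat.card_zpowers]
        exact Subgroup.card_le_of_le hle
      rw [hk'] at hCcard h5' ⊢
      have : k' ≤ 1 := Nat.le_of_not_lt fun h => by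
        have := Nat.pow_le_pow_right (show 0 < 5 by norm_num) h
        omega
      interval_cases k' <;> omega
    have := Subgroup.eq_of_le_of_card_ge hle (by rw [h5, Nat.card_zpowers, hm5])
    exact fun c hc => this ▸ hc
  have hMC : ∀ a ∈ M, a ∈ Subgroup.zpowers m₀ := fun a ha =>
    hCeq a ⟨hMG ha, Subgroup.mem_centralizer_singleton_iff.mpr (hMc a ha m₀ hm₀)⟩
  -- conjugation by `G` on `zpowers m₀`
  have hGm : ∀ g ∈ G, ∃ z : ℤ, g * m₀ * g⁻¹ = m₀ ^ z := fun g hg => by
    obtain ⟨z, hz⟩ := Subgroup.mem_zpowers_iff.mp (hMC _ ((Subgroup.mem_normalizer_iff.mp (hMn hg) m₀).mp hm₀))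
    exact ⟨z, hz.symm⟩
  have hkey : ∀ g : MulAut X, ∀ z : ℤ, g * m₀ * g⁻¹ = m₀ ^ z → ∀ w : ℤ, g * m₀ ^ w * g⁻¹ = m₀ ^ (z * w) :=
    fun g z h w => by rw [← conj_zpow, h, zpow_mul]
  -- `β` centralizes `m₀`
  have hconjd : ∀ g : G, (β * (g : MulAut X) * β⁻¹) ∈ G := fun g =>
    (Subgroup.mem_normalizer_iff.mp hβ _).mp g.2
  have hβM : β * m₀ * β⁻¹ ∈ M := by
    let e : G ≃* G :=
      { toFun := fun g => ⟨β * g * β⁻¹, hconjd g⟩
        invFun := fun g => ⟨β⁻¹ * g * β, by
          refine (Subgroup.mem_normalizer_iff.mp hβ _).mpr ?_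
          have : β * (β⁻¹ * (g : MulAut X) * β) * β⁻¹ = g := by group
          rw [this]; exact g.2⟩
        left_inv := fun g => Subtype.ext (by show β⁻¹ * (β * (g : MulAut X) * β⁻¹) * β = g; group)
        right_inv := fun g => Subtype.ext (by show β * (β⁻¹ * (g : MulAut X) * β) * β⁻¹ = g; group)
        map_mul' := fun g h => Subtype.ext (by
          show β * ((g : MulAut X) * h) * β⁻¹ = β * g * β⁻¹ * (β * h * β⁻¹)
          group) }
    obtain ⟨y, hy, hym⟩ := hm₀
    refine ⟨e y, ?_, by rw [← hym]; rfl⟩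
    have hmap := map_derivedSeries_eq (f := e.toMonoidHom) e.surjective k
    rw [← hmap]
    exact ⟨y, hy, rfl⟩
  obtain ⟨z, hz⟩ := Subgroup.mem_zpowers_iff.mp (hMC _ hβM)
  have hβm : β * m₀ = m₀ * β := by
    have h3 : m₀ ^ (z * (z * z)) = m₀ := by
      have h1 := hkey β z hz.symm
      calc m₀ ^ (z * (z * z)) = β * (β * (β * m₀ * β⁻¹) * β⁻¹) * β⁻¹ := by rw [← hz, h1, h1]
        _ = β ^ 3 * m₀ * (β ^ 3)⁻¹ := by rw [pow_succ, pow_two]; group
        _ = m₀ := by rw [hβ3]; group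
    have hz1 : (z * (z * z) : ZMod 5) = 1 := by
      have h5 : ((z * (z * z) : ℤ) : ZMod 5) = ((1 : ℤ) : ZMod 5) := by
        rw [ZMod.intCast_eq_intCast_iff]
        have := zpow_eq_zpow_iff_modEq.mp (h3.trans (zpow_one m₀).symm)
        rwa [hm5] at this
      simpa using h5
    have hzone : (z : ZMod 5) = 1 := by
      exact cube_five _ hz1
    have hzz : m₀ ^ z = m₀ ^ (1 : ℤ) := by
      rw [zpow_eq_zpow_iff_modEq, hm5]
      have : ((z : ℤ) : ZMod 5) = ((1 : ℤ) : ZMod 5) := by simpa using hzone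
      exact (ZMod.intCast_eq_intCast_iff _ _ _).mp this
    rw [zpow_one] at hzz
    calc β * m₀ = β * m₀ * β⁻¹ * β := by group
      _ = m₀ * β := by rw [← hz, hzz]
  -- `[g, β]` centralizes `m₀`
  intro g hg
  obtain ⟨w, hw⟩ := hGm g hg
  set c := g * β * g⁻¹ * β⁻¹ with hc
  have hcG : c ∈ G := by
    rw [hc, show g * β * g⁻¹ * β⁻¹ = g * (β * g⁻¹ * β⁻¹) by group]
    exact G.mul_mem hg (hconjd ⟨g⁻¹, G.inv_mem hg⟩)
  have hgb : ∀ u : ℤ, β * m₀ ^ u = m₀ ^ u * β := fun u => (show Commute β m₀ from hβm).zpow_right u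
  have hcm : c * m₀ = m₀ * c := by
    have hgi : ∃ u : ℤ, g⁻¹ * m₀ * g = m₀ ^ u := by
      obtain ⟨u, hu⟩ := hGm g⁻¹ (G.inv_mem hg)
      exact ⟨u, by rwa [inv_inv] at hu⟩
    obtain ⟨u, hu⟩ := hgi
    calc c * m₀ = g * β * g⁻¹ * (β⁻¹ * m₀) := by rw [hc]; group
      _ = g * β * g⁻¹ * (m₀ * β⁻¹) := by rw [(show Commute β m₀ from hβm).inv_left.eq]
      _ = g * (β * (g⁻¹ * m₀ * g)) * g⁻¹ * β⁻¹ := by group
      _ = g * (m₀ ^ u * β) * g⁻¹ * β⁻¹ := by rw [hu, hgb]
      _ = m₀ * (g * β * g⁻¹ * β⁻¹) := by rw [← hu]; group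
      _ = m₀ * c := by rw [hc]
  have hcmem := hCeq c ⟨hcG, Subgroup.mem_centralizer_singleton_iff.mpr hcm⟩
  obtain ⟨u, hu⟩ := Subgroup.mem_zpowers_iff.mp hcmem
  have hcb : Commute c β := by rw [← hu]; exact (hgb u).symm
  have h3 : (c * β) ^ 3 = 1 := by
    rw [show c * β = g * β * g⁻¹ by rw [hc]; group, show (g * β * g⁻¹) ^ 3 = g * β ^ 3 * g⁻¹ from conj_pow, hβ3]
    group
  rw [hcb.mul_pow, hβ3, mul_one] at h3
  have hc1 : c = 1 := by
    obtain ⟨e, he⟩ := IsPGroup.iff_orderOf.mp hCp ⟨c, hcG, Subgroup.mem_centralizer_singleton_iff.mpr hcm⟩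
    rw [← Subgroup.orderOf_coe] at he
    have hd : orderOf c ∣ 3 := orderOf_dvd_of_pow_eq_one h3
    refine orderOf_eq_one_iff.mp ?_
    rw [show orderOf c = 5 ^ e from he] at hd ⊢
    rcases Nat.eq_zero_or_pos e with rfl | he0
    · rfl
    · exact absurd ((dvd_pow_self 5 he0.ne').trans hd) (by norm_num)
  calc β * g = (g * β * g⁻¹ * β⁻¹)⁻¹ * g * β := by group
    _ = g * β := by rw [← hc, hc1]; group

end CfsgLib.Solvable.RankTwoUnipotent
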