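import Cfsg.Agent.Lib.Solvable.RankTwoUnipotent.Weights

/-!
A four-group permuted fixed-point-freely by an element of order three with displacement of rank at most two.
-/

set_option autoImplicit false
set_option linter.unusedSectionVars false

namespace CfsgLib.Solvable.RankTwoUnipotent

variable {L : Type*} [Group L] [Finite L] {V : Type*} [AddCommGroup V] [Module (ZMod 3) V] [Finite V]

/-- The four-group data. -/
structure Four (τ : Representation (ZMod 3) L V) (Q : Subgroup L) (b : L) : Prop where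
  faithful : ∀ q ∈ Q, (∀ v, τ q v = v) → q = 1
  comm : IsMulCommutative Q
  sq : ∀ q ∈ Q, q ^ 2 = 1
  card : Nat.card Q = 4
  b_cube : b ^ 3 = 1
  norm : b ∈ Subgroup.normalizer (Q : Set L)
  fpf : ∀ q ∈ Q, b * q = q * b → q = 1
  rank : Module.finrank (ZMod 3) (LinearMap.range (τ b - 1)) ≤ 2

namespace Four

variable {τ : Representation (ZMod 3) L V} {Q : Subgroup L} {b : L} (D : Four τ Q b)

include D

theorem eq_or {q q' x : L} (hq : q ∈ Q) (hq' : q' ∈ Q) (h1 : q ≠ 1) (h2 : q' ≠ 1) (hne : q ≠ q') (hx : x ∈ Q) :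
    x = 1 ∨ x = q ∨ x = q' ∨ x = q * q' := by
  classical
  haveI := Fintype.ofFinite Q
  have hqq : q * q' ≠ 1 := fun e => hne (by
    rw [← mul_one q, ← show q' * q' = 1 from (pow_two q').symm.trans (D.sq q' hq'), ← mul_assoc, e, one_mul])
  have h4 : ({⟨1, Q.one_mem⟩, ⟨q, hq⟩, ⟨q', hq'⟩, ⟨q * q', Q.mul_mem hq hq'⟩} : Finset Q) = Finset.univ := by
    refine Finset.eq_univ_of_card _ ?_
    rw [← Nat.card_eq_fintype_card, D.card, Finset.card_insert_of_notMem (by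
      simp only [Finset.mem_insert, Finset.mem_singleton, not_or, Subtype.mk.injEq]
      exact ⟨h1.symm, h2.symm, hqq.symm⟩), Finset.card_insert_of_notMem (by
      simp only [Finset.mem_insert, Finset.mem_singleton, not_or, Subtype.mk.injEq]
      exact ⟨hne, fun e => h2 (left_eq_mul.mp e)⟩), Finset.card_pair (by
      simp only [ne_eq, Subtype.mk.injEq]
      exact fun e => h1 (right_eq_mul.mp e))]
  have hm := h4 ▸ Finset.mem_univ (⟨x, hx⟩ : Q)
  simpa only [Finset.mem_insert, Finset.mem_singleton, Subtype.mk.injEq] using hm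

theorem exists_pair {q : L} (hq : q ∈ Q) : ∃ q' ∈ Q, q' ≠ 1 ∧ q' ≠ q := by
  classical
  haveI := Fintype.ofFinite Q
  by_contra hno
  push Not at hno
  have h : (Finset.univ : Finset Q) ⊆ {⟨1, Q.one_mem⟩, ⟨q, hq⟩} := fun x _ => by
    simp only [Finset.mem_insert, Finset.mem_singleton]
    by_cases hx : (x : L) = 1
    · exact Or.inl (Subtype.ext hx)
    · exact Or.inr (Subtype.ext (hno x x.2 hx))
  have := (Finset.card_le_card h).trans Finset.card_le_two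
  rw [Finset.card_univ, ← Nat.card_eq_fintype_card, D.card] at this
  omega

theorem conj_mem {q : L} (hq : q ∈ Q) : b * q * b⁻¹ ∈ Q := (Subgroup.mem_normalizer_iff.mp D.norm q).mp hq

omit [Finite V] in
theorem wt_mul {c : Q → ZMod 3} {v : V} (hv : v ∈ wt τ Q c) (hv0 : v ≠ 0) (a a' : Q) :
    c (a * a') = c a * c a' := by
  refine smul_left_injective (ZMod 3) hv0 ?_
  show c (a * a') • v = (c a * c a') • v
  rw [← hv, Subgroup.coe_mul, apply_mul, hv a', map_smul, hv a, smul_smul, mul_comm]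

/-- The weight space of a nontrivial weight, in the group generated by `Q` and `b`. -/
theorem nontrivial_weight {c : Q → ZMod 3} (hc : wt τ Q c ≠ ⊥) (hn : ∃ a, c a ≠ 1) :
    Module.finrank (ZMod 3) (wt τ Q c) = 1 ∧
      ∃ c₂ c₃ : Q → ZMod 3, c₂ ≠ c ∧ c₃ ≠ c ∧ c₃ ≠ c₂ ∧
        (∀ v ∈ wt τ Q c, τ b v ∈ wt τ Q c₂) ∧ (∀ v ∈ wt τ Q c₂, τ b v ∈ wt τ Q c₃) ∧
        wt τ Q c₂ ≠ ⊥ ∧ wt τ Q c₃ ≠ ⊥ ∧
        LinearMap.range (τ b - 1) ≤ wt τ Q c ⊔ wt τ Q c₂ ⊔ wt τ Q c₃ ∧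
        ∀ d : Q → ZMod 3, wt τ Q d ≠ ⊥ → (∃ a, d a ≠ 1) → d = c ∨ d = c₂ ∨ d = c₃ := by
  set L₀ : Subgroup L := Q ⊔ Subgroup.zpowers b with hL0
  have hQL : Q ≤ L₀ := le_sup_left
  have hbL : b ∈ L₀ := Subgroup.mem_sup_right (Subgroup.mem_zpowers b)
  haveI : (Q.subgroupOf L₀).Normal := by
    rw [Subgroup.normal_subgroupOf_iff_le_normalizer hQL, hL0, sup_le_iff, Subgroup.zpowers_le]
    exact ⟨Subgroup.le_normalizer, D.norm⟩
  let τ₀ : Representation (ZMod 3) L₀ V := τ.comp L₀.subtype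
  let up : (Q → ZMod 3) → (Q.subgroupOf L₀ → ZMod 3) := fun d a => d ⟨((a : L₀) : L), a.2⟩
  have hup : ∀ d, wt τ₀ (Q.subgroupOf L₀) (up d) = wt τ Q d := by
    intro d
    ext v
    exact ⟨fun h a => h ⟨⟨a, hQL a.2⟩, a.2⟩, fun h a => h ⟨((a : L₀) : L), a.2⟩⟩
  have hupinj : Function.Injective up := fun d d' h => funext fun a => congrFun h ⟨⟨a, hQL a.2⟩, a.2⟩
  let cyc : (Q → ZMod 3) → (Q → ZMod 3) := fun d a =>
    d ⟨b⁻¹ * a * b, by
      have := (Subgroup.mem_normalizer_iff.mp ((Subgroup.normalizer (Q : Set L)).inv_mem D.norm) a).mp a.2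
      simpa using this⟩
  have hcyc : ∀ d, cw (⟨b, hbL⟩ : L₀) (up d) = up (cyc d) := by
    intro d
    funext a
    refine congrArg d (Subtype.ext ?_)
    show (((MulAut.conjNormal (⟨b, hbL⟩ : L₀)).symm a : L₀) : L) = b⁻¹ * ((a : L₀) : L) * b
    rw [MulAut.conjNormal_symm_apply]
    rfl
  have hmove : ∀ d, wt τ Q d ≠ ⊥ → (∃ a, d a ≠ 1) → cyc d ≠ d := by
    intro d hd hn e
    obtain ⟨v, hv, hv0⟩ := Submodule.exists_mem_ne_zero_of_ne_bot hd
    obtain ⟨a, ha⟩ := hn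
    have hinv : ∀ x : Q, d ⟨b * x * b⁻¹, D.conj_mem x.2⟩ = d x := by
      intro x
      refine (congrFun e ⟨b * x * b⁻¹, D.conj_mem x.2⟩).symm.trans (congrArg d (Subtype.ext ?_))
      show b⁻¹ * (b * (x : L) * b⁻¹) * b = x
      group
    have hd1 : d 1 = 1 := by
      refine smul_left_injective (ZMod 3) hv0 ?_
      show d 1 • v = (1 : ZMod 3) • v
      rw [← hv, Subgroup.coe_one, apply_one, one_smul]
    have ha1 : (a : L) ≠ 1 := fun h => ha (by rw [show a = 1 from Subtype.ext h, hd1])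
    set a' : Q := ⟨b * a * b⁻¹, D.conj_mem a.2⟩
    set a'' : Q := ⟨b * a' * b⁻¹, D.conj_mem a'.2⟩
    have ha' : (a' : L) ≠ 1 := fun h => ha1 (by
      have h' : b * (a : L) * b⁻¹ = 1 := h
      calc (a : L) = b⁻¹ * (b * (a : L) * b⁻¹) * b := by group
        _ = 1 := by rw [h']; group)
    have hne : (a : L) ≠ a' := fun h => ha1 (D.fpf a a.2 (by
      calc b * (a : L) = b * (a : L) * b⁻¹ * b := by group
        _ = (a' : L) * b := rfl
        _ = (a : L) * b := by rw [← h]))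
    have h2 : a'' = a * a' := by
      rcases D.eq_or a.2 a'.2 ha1 ha' hne a''.2 with h | h | h | h
      · refine absurd ?_ ha'
        have h' : b * (a' : L) * b⁻¹ = 1 := h
        calc (a' : L) = b⁻¹ * (b * (a' : L) * b⁻¹) * b := by group
          _ = 1 := by rw [h']; group
      · exfalso
        refine hne ?_
        have h' : b * (b * (a : L) * b⁻¹) * b⁻¹ = a := h
        calc (a : L) = b ^ 3 * a * (b ^ 3)⁻¹ := by rw [D.b_cube]; group
          _ = b * (b * (b * a * b⁻¹) * b⁻¹) * b⁻¹ := by rw [pow_succ, pow_two]; group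
          _ = a' := by rw [h']
      · exfalso
        refine hne ?_
        have h' : b * (a' : L) * b⁻¹ = b * a * b⁻¹ := h
        exact (mul_left_cancel (mul_right_cancel h')).symm
      · exact Subtype.ext h
    have h3 : d a'' = d a := (hinv a').trans (hinv a)
    rw [h2, wt_mul D hv hv0, hinv] at h3
    have h0 : d a ≠ 0 := fun h => hv0 (by
      have := hv a
      rw [h, zero_smul] at this
      rw [← apply_inv (τ := τ) (a : L) v, this, map_zero])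
    exact ha (mul_left_cancel₀ h0 (h3.trans (mul_one _).symm))
  obtain ⟨h1, h2, h3, h4, h5, h6⟩ := cycle (τ := τ₀) (A := Q.subgroupOf L₀) (b := ⟨b, hbL⟩)
    (Subtype.ext D.b_cube) D.rank (c := up c) (by rwa [hup]) (by
      rw [hcyc]; exact fun e => hmove c hc hn (hupinj e))
  rw [hcyc, hcyc] at h3 h4 h5 h6
  rw [hup, hup, hup] at h5
  rw [hup] at h1
  have hm : ∀ d, ∀ v ∈ wt τ Q d, τ b v ∈ wt τ Q (cyc d) := fun d v hv => by
    rw [← hup] at hv ⊢
    rw [← hcyc]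
    exact apply_mem_wt (τ := τ₀) (⟨b, hbL⟩ : L₀) hv
  have hnb : ∀ d, wt τ Q d ≠ ⊥ → wt τ Q (cyc d) ≠ ⊥ := fun d hd => by
    rw [← hup, ← hcyc]
    exact wt_cw_ne_bot _ (by rwa [hup])
  refine ⟨h1, cyc c, cyc (cyc c), hmove c hc hn, fun e => h3 (by rw [e]), fun e => h4 (by rw [e]),
    hm c, hm _, hnb c hc, hnb _ (hnb c hc), h5, fun d hd hnd => ?_⟩
  rcases h6 (up d) (by rwa [hup]) (by rw [hcyc]; exact fun e => hmove d hd hnd (hupinj e)) with h | h | h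
  exacts [Or.inl (hupinj h), Or.inr (Or.inl (hupinj h)), Or.inr (Or.inr (hupinj h))]

omit [Finite V] in
theorem le_iSup (N : Submodule (ZMod 3) V) (hN : ∀ a ∈ Q, ∀ v ∈ N, τ a v ∈ N) : N ≤ ⨆ c, N ⊓ wt τ Q c :=
  le_iSup_wt D.comm D.sq N hN

theorem exists_nontrivial {N : Submodule (ZMod 3) V} (hN : ∀ a ∈ Q, ∀ v ∈ N, τ a v ∈ N)
    (hmv : ∃ q ∈ Q, ∃ v ∈ N, τ q v ≠ v) : ∃ c : Q → ZMod 3, N ⊓ wt τ Q c ≠ ⊥ ∧ ∃ a, c a ≠ 1 := by
  by_contra hno
  push Not at hno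
  obtain ⟨q, hq, v, hv, hne⟩ := hmv
  refine hne ?_
  have h := D.le_iSup N hN hv
  clear hne hv
  induction h using Submodule.iSup_induction' with
  | mem c x hx =>
    by_cases hc : N ⊓ wt τ Q c = ⊥
    · rw [hc, Submodule.mem_bot] at hx; rw [hx, map_zero]
    · rw [hx.2 ⟨q, hq⟩, hno c hc, one_smul]
  | zero => rw [map_zero]
  | add x y _ _ hx hy => rw [map_add, hx, hy]

/-- Summary: three lines, one for each nontrivial weight. -/
theorem lines : ∃ (c₁ c₂ c₃ : Q → ZMod 3), c₂ ≠ c₁ ∧ c₃ ≠ c₁ ∧ c₃ ≠ c₂ ∧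
    Module.finrank (ZMod 3) (wt τ Q c₁) = 1 ∧ Module.finrank (ZMod 3) (wt τ Q c₂) = 1 ∧
    Module.finrank (ZMod 3) (wt τ Q c₃) = 1 ∧
    (∃ a, c₁ a ≠ 1) ∧ (∃ a, c₂ a ≠ 1) ∧ (∃ a, c₃ a ≠ 1) ∧
    (∀ v ∈ wt τ Q c₁, τ b v ∈ wt τ Q c₂) ∧ (∀ v ∈ wt τ Q c₂, τ b v ∈ wt τ Q c₃) ∧
    (∀ v ∈ wt τ Q c₃, τ b v ∈ wt τ Q c₁) ∧
    LinearMap.range (τ b - 1) ≤ wt τ Q c₁ ⊔ wt τ Q c₂ ⊔ wt τ Q c₃ ∧
    ∀ d : Q → ZMod 3, wt τ Q d ≠ ⊥ → (∃ a, d a ≠ 1) → d = c₁ ∨ d = c₂ ∨ d = c₃ := by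
  obtain ⟨q, hq, hq1, -⟩ := D.exists_pair Q.one_mem
  obtain ⟨c, hc, hn⟩ := D.exists_nontrivial (N := ⊤) (fun _ _ _ _ => trivial) ⟨q, hq, by
    by_contra hno
    push Not at hno
    exact hq1 (D.faithful q hq fun v => hno v trivial)⟩
  rw [top_inf_eq] at hc
  obtain ⟨h1, c₂, c₃, n1, n2, n3, m1, m2, b2, b3, hr, hu⟩ := D.nontrivial_weight hc hn
  have hnt : ∀ {d e : Q → ZMod 3}, (∃ a, d a ≠ 1) → wt τ Q d ≠ ⊥ →
      (∀ v ∈ wt τ Q d, τ b v ∈ wt τ Q e) → ∃ a, e a ≠ 1 := by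
    rintro d e ⟨a, ha⟩ hd hmap
    by_contra hno
    push Not at hno
    obtain ⟨v, hv, hv0⟩ := Submodule.exists_mem_ne_zero_of_ne_bot hd
    refine ha (smul_left_injective (ZMod 3) hv0 ?_)
    show d a • v = (1 : ZMod 3) • v
    have h := hmap v hv ⟨b * a * b⁻¹, D.conj_mem a.2⟩
    rw [hno, one_smul, ← apply_mul, show b * (a : L) * b⁻¹ * b = b * a by group, apply_mul] at h
    have h' := congrArg (τ b⁻¹) h
    rw [apply_inv, apply_inv] at h'
    rw [← hv, h', one_smul]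
  have hn2 := hnt hn hc m1
  have hn3 := hnt hn2 b2 m2
  obtain ⟨h1', d₂, d₃, p1, p2, p3, q1, q2, -, -, -, -⟩ := D.nontrivial_weight b2 hn2
  obtain ⟨h1'', -⟩ := D.nontrivial_weight b3 hn3
  refine ⟨c, c₂, c₃, n1, n2, n3, h1, h1', h1'', hn, hn2, hn3, m1, m2, fun v hv => ?_, hr, hu⟩
  obtain ⟨x, hx, hx0⟩ := Submodule.exists_mem_ne_zero_of_ne_bot hc
  have e : ∀ w, τ b (τ b (τ b w)) = w := fun w => by
    rw [← apply_mul, ← apply_mul, show b * b * b = b ^ 3 by rw [pow_succ, pow_two], D.b_cube, apply_one]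
  have hx3 : τ b (τ b x) ∈ wt τ Q c₃ := m2 _ (m1 x hx)
  have hx30 : τ b (τ b x) ≠ 0 := fun h => hx0 (by rw [← e x, h, map_zero])
  obtain ⟨k, rfl⟩ := eq_smul_of_finrank_one h1'' hx3 hx30 hv
  rw [map_smul, e]
  exact Submodule.smul_mem _ _ hx

theorem b_fix {v : V} (hv : ∀ q ∈ Q, τ q v = v) : τ b v = v := by
  obtain ⟨c₁, c₂, c₃, -, -, -, -, -, -, hn1, hn2, hn3, -, -, -, hr, -⟩ := D.lines
  set c₀ : Q → ZMod 3 := fun _ => 1
  have hv0 : v ∈ wt τ Q c₀ := fun a => by rw [hv a a.2, one_smul]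
  have hbv : τ b v ∈ wt τ Q c₀ := fun a => by
    have hm : b⁻¹ * a * b ∈ Q := by
      have := (Subgroup.mem_normalizer_iff.mp ((Subgroup.normalizer (Q : Set L)).inv_mem D.norm) a).mp a.2
      simpa using this
    rw [one_smul, ← apply_mul, show (a : L) * b = b * (b⁻¹ * a * b) by group, apply_mul, hv _ hm]
  have hd := iSupIndep_def.mp (iSupIndep_wt (τ := τ) (A := Q)) c₀
  rw [Submodule.disjoint_def] at hd
  refine sub_eq_zero.mp (hd _ (Submodule.sub_mem _ hbv hv0) ?_)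
  have hne : ∀ {c : Q → ZMod 3}, (∃ a, c a ≠ 1) → c ≠ c₀ := fun ⟨a, ha⟩ e => ha (congrFun e a)
  refine SetLike.le_def.mp ((sup_le_iff.mpr ⟨sup_le_iff.mpr ⟨?_, ?_⟩, ?_⟩)) (hr (sub_mem_range b v))
  · exact le_iSup₂_of_le c₁ (hne hn1) le_rfl
  · exact le_iSup₂_of_le c₂ (hne hn2) le_rfl
  · exact le_iSup₂_of_le c₃ (hne hn3) le_rfl

theorem range_le {N : Submodule (ZMod 3) V} (hN : ∀ a ∈ Q, ∀ v ∈ N, τ a v ∈ N) (hb : ∀ v ∈ N, τ b v ∈ N)
    (hmv : ∃ q ∈ Q, ∃ v ∈ N, τ q v ≠ v) : LinearMap.range (τ b - 1) ≤ N := by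
  obtain ⟨c₁, c₂, c₃, -, -, -, h1, h2, h3, -, -, -, m1, m2, m3, hr, hu⟩ := D.lines
  obtain ⟨c, hc, hn⟩ := D.exists_nontrivial hN hmv
  obtain ⟨w, ⟨hwN, hw⟩, hw0⟩ := Submodule.exists_mem_ne_zero_of_ne_bot hc
  have hcne : wt τ Q c ≠ ⊥ := fun e => hw0 (by rw [e] at hw; simpa using hw)
  have key : ∀ {c c' : Q → ZMod 3}, Module.finrank (ZMod 3) (wt τ Q c) = 1 → Module.finrank (ZMod 3) (wt τ Q c') = 1 →
      (∀ v ∈ wt τ Q c, τ b v ∈ wt τ Q c') → wt τ Q c ≤ N → wt τ Q c' ≤ N := by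
    intro c c' hc hc' hm hle
    obtain ⟨x, hx, hx0⟩ := Submodule.exists_mem_ne_zero_of_ne_bot
      (p := wt τ Q c) (fun e => by rw [e, finrank_bot] at hc; exact absurd hc (by norm_num))
    intro y hy
    obtain ⟨k, rfl⟩ := eq_smul_of_finrank_one hc' (hm x hx)
      (fun h => hx0 (by rw [← apply_inv (τ := τ) b x, h, map_zero])) hy
    exact N.smul_mem _ (hb x (hle hx))
  have hle : ∀ {d}, d = c → Module.finrank (ZMod 3) (wt τ Q d) = 1 → wt τ Q d ≤ N := by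
    rintro d rfl h y hy
    obtain ⟨k, rfl⟩ := eq_smul_of_finrank_one h hw hw0 hy
    exact N.smul_mem _ hwN
  refine hr.trans ?_
  rcases hu c hcne hn with h | h | h
  · have a := hle h.symm h1; have a2 := key h1 h2 m1 a; have a3 := key h2 h3 m2 a2
    exact sup_le (sup_le a a2) a3
  · have a2 := hle h.symm h2; have a3 := key h2 h3 m2 a2; have a := key h3 h1 m3 a3
    exact sup_le (sup_le a a2) a3
  · have a3 := hle h.symm h3; have a := key h3 h1 m3 a3; have a2 := key h1 h2 m1 a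
    exact sup_le (sup_le a a2) a3

/-- There is a vector that is an eigenvector of everything centralizing `Q`. -/
theorem exists_line : ∃ w : V, w ≠ 0 ∧ ∀ g : L, (∀ q ∈ Q, g * q = q * g) → ∃ k : ZMod 3, τ g w = k • w := by
  obtain ⟨c₁, -, -, -, -, -, h1, -⟩ := D.lines
  obtain ⟨w, hw, hw0⟩ := Submodule.exists_mem_ne_zero_of_ne_bot
    (p := wt τ Q c₁) (fun e => by rw [e, finrank_bot] at h1; exact absurd h1 (by norm_num))
  refine ⟨w, hw0, fun g hg => eq_smul_of_finrank_one h1 hw hw0 (v := w) (w := τ g w) ?_⟩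
  intro a
  rw [← apply_mul, ← hg a a.2, apply_mul, hw a, map_smul]

/-- The `-1` spaces of two involutions of `Q` are planes meeting nontrivially. -/
theorem minus_planes {q q' : L} (hq : q ∈ Q) (hq' : q' ∈ Q) (h1 : q ≠ 1) (h2 : q' ≠ 1) (hne : q ≠ q') :
    Module.finrank (ZMod 3) (LinearMap.ker (τ q + 1)) ≤ 2 ∧
      ∃ v : V, v ≠ 0 ∧ τ q v = -v ∧ τ q' v = -v := by
  classical
  obtain ⟨c₁, c₂, c₃, n1, n2, n3, d1, d2, d3, hn1, hn2, hn3, -, -, -, -, hu⟩ := D.lines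
  set Qq : Q := ⟨q, hq⟩
  set Qq' : Q := ⟨q', hq'⟩
  have hne' : ∀ {c}, Module.finrank (ZMod 3) (wt τ Q c) = 1 → wt τ Q c ≠ ⊥ :=
    fun h e => by rw [e, finrank_bot] at h; exact absurd h (by norm_num)
  have key : ∀ c, Module.finrank (ZMod 3) (wt τ Q c) = 1 → (∃ a, c a ≠ 1) →
      (c Qq = 1 ∨ c Qq = -1) ∧ (c Qq' = 1 ∨ c Qq' = -1) ∧ ¬ (c Qq = 1 ∧ c Qq' = 1) ∧
      ∀ c', Module.finrank (ZMod 3) (wt τ Q c') = 1 → c Qq = c' Qq → c Qq' = c' Qq' → c = c' := by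
    intro c hc ⟨a, ha⟩
    obtain ⟨v, hv, hv0⟩ := Submodule.exists_mem_ne_zero_of_ne_bot (hne' hc)
    have hone : ∀ {c : Q → ZMod 3} {v : V}, v ∈ wt τ Q c → v ≠ 0 → c 1 = 1 := by
      intro c v hv hv0
      refine smul_left_injective (ZMod 3) hv0 ?_
      show c 1 • v = (1 : ZMod 3) • v
      rw [← hv, Subgroup.coe_one, apply_one, one_smul]
    have hval : ∀ x : Q, x = 1 ∨ x = Qq ∨ x = Qq' ∨ x = Qq * Qq' := fun x => by
      rcases D.eq_or hq hq' h1 h2 hne x.2 with h | h | h | h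
      exacts [Or.inl (Subtype.ext h), Or.inr (Or.inl (Subtype.ext h)), Or.inr (Or.inr (Or.inl (Subtype.ext h))),
        Or.inr (Or.inr (Or.inr (Subtype.ext h)))]
    refine ⟨weight_sq hv hv0 (D.sq q hq), weight_sq hv hv0 (D.sq q' hq'), fun ⟨e1, e2⟩ => ha ?_,
      fun c' hc' e1 e2 => ?_⟩
    · rcases hval a with rfl | rfl | rfl | rfl
      exacts [hone hv hv0, e1, e2, by rw [wt_mul D hv hv0, e1, e2, one_mul]]
    · obtain ⟨v', hv', hv0'⟩ := Submodule.exists_mem_ne_zero_of_ne_bot (hne' hc')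
      funext x
      rcases hval x with rfl | rfl | rfl | rfl
      exacts [(hone hv hv0).trans (hone hv' hv0').symm, e1, e2,
        by rw [wt_mul D hv hv0, wt_mul D hv' hv0', e1, e2]]
  obtain ⟨a1, b1, x1, u1⟩ := key c₁ d1 hn1
  obtain ⟨a2, b2, x2, u2⟩ := key c₂ d2 hn2
  obtain ⟨a3, b3, x3, -⟩ := key c₃ d3 hn3
  have hn11 : (-1 : ZMod 3) ≠ 1 := by decide
  let i : Fin 3 → (Q → ZMod 3) := ![c₁, c₂, c₃]
  have hi1 : ∀ x, Module.finrank (ZMod 3) (wt τ Q (i x)) = 1 := by intro x; fin_cases x <;> assumption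
  have hin : ∀ x, ∃ a, i x a ≠ 1 := by intro x; fin_cases x <;> assumption
  let f : Fin 3 → Bool × Bool := fun x => (decide (i x Qq = 1), decide (i x Qq' = 1))
  have hinj : Function.Injective i := by
    intro x y
    fin_cases x <;> fin_cases y <;> simp [i, n1, n2, n3, n1.symm, n2.symm, n3.symm]
  have hiff : ∀ {a b : ZMod 3}, (a = 1 ∨ a = -1) → (b = 1 ∨ b = -1) → (a = 1 ↔ b = 1) → a = b := by
    intro a b; revert a b; decide
  have hf : Function.Injective f := by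
    intro x y h
    simp only [f, Prod.mk.injEq, decide_eq_decide] at h
    obtain ⟨ax, bx, -, ux⟩ := key _ (hi1 x) (hin x)
    obtain ⟨ay, by', -, -⟩ := key _ (hi1 y) (hin y)
    exact hinj (ux _ (hi1 y) (hiff ax ay h.1) (hiff bx by' h.2))
  have hf1 : ∀ x, f x ≠ (true, true) := by
    intro x h
    simp only [f, Prod.mk.injEq, decide_eq_true_eq] at h
    exact (key _ (hi1 x) (hin x)).2.2.1 h
  have hsurj : ∀ f : Fin 3 → Bool × Bool, Function.Injective f → (∀ x, f x ≠ (true, true)) →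
      (∃ x, f x = (false, true)) ∧ ∃ x, f x = (false, false) := by decide
  obtain ⟨⟨x₁, hx1⟩, x₂, hx2⟩ := hsurj f hf hf1
  simp only [f, Prod.mk.injEq, decide_eq_false_iff_not, decide_eq_true_eq] at hx1 hx2
  have hm1 : ∀ x, i x Qq ≠ 1 → i x Qq = -1 := fun x h => ((key _ (hi1 x) (hin x)).1).resolve_left h
  have hm2 : i x₂ Qq' = -1 := ((key _ (hi1 x₂) (hin x₂)).2.1).resolve_left hx2.2
  have hcase : (∃ c c', Module.finrank (ZMod 3) (wt τ Q c) = 1 ∧ Module.finrank (ZMod 3) (wt τ Q c') = 1 ∧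
      ∀ d, (d = c₁ ∨ d = c₂ ∨ d = c₃) → d Qq = -1 → d = c ∨ d = c') ∧
      ∃ c, Module.finrank (ZMod 3) (wt τ Q c) = 1 ∧ c Qq = -1 ∧ c Qq' = -1 := by
    refine ⟨⟨i x₁, i x₂, hi1 _, hi1 _, fun d hd h => ?_⟩, i x₂, hi1 _, hm1 _ hx2.1, hm2⟩
    obtain ⟨x, rfl⟩ : ∃ x, i x = d := by
      rcases hd with rfl | rfl | rfl
      exacts [⟨0, rfl⟩, ⟨1, rfl⟩, ⟨2, rfl⟩]
    obtain ⟨-, bx, -, ux⟩ := key _ (hi1 x) (hin x)
    rcases bx with e | e
    · exact Or.inl (ux _ (hi1 _) (h.trans (hm1 _ hx1.1).symm) (e.trans hx1.2.symm))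
    · exact Or.inr (ux _ (hi1 _) (h.trans (hm1 _ hx2.1).symm) (e.trans hm2.symm))
  obtain ⟨⟨c, c', hc, hc', hall⟩, c'', hc'', g1, g2⟩ := hcase
  refine ⟨?_, ?_⟩
  · have hle : LinearMap.ker (τ q + 1) ≤ wt τ Q c ⊔ wt τ Q c' := by
      refine (D.le_iSup (LinearMap.ker (τ q + 1)) fun a ha v hv => ?_).trans (iSup_le fun d => ?_)
      · simp only [LinearMap.mem_ker, LinearMap.add_apply, Module.End.one_apply] at hv ⊢
        rw [← apply_mul, show q * a = a * q from congrArg Subtype.val (D.comm.is_comm.comm Qq ⟨a, ha⟩), apply_mul,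
          ← map_add, hv, map_zero]
      · intro v hv
        by_cases hv0 : v = 0
        · rw [hv0]; exact zero_mem _
        obtain ⟨hk, hd⟩ := hv
        have hdne : wt τ Q d ≠ ⊥ := fun e => hv0 (by rw [e] at hd; simpa using hd)
        have hdq : d Qq = -1 := by
          refine smul_left_injective (ZMod 3) hv0 ?_
          show d Qq • v = (-1 : ZMod 3) • v
          have hk : τ q v + v = 0 := by simpa using hk
          rw [← hd Qq, neg_one_smul]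
          exact eq_neg_of_add_eq_zero_left hk
        rcases hall d (hu d hdne ⟨Qq, hdq ▸ hn11⟩) hdq with rfl | rfl
        exacts [Submodule.mem_sup_left hd, Submodule.mem_sup_right hd]
    refine (Submodule.finrank_mono hle).trans ((Submodule.finrank_add_le_finrank_add_finrank _ _).trans ?_)
    omega
  · obtain ⟨v, hv, hv0⟩ := Submodule.exists_mem_ne_zero_of_ne_bot (hne' hc'')
    refine ⟨v, hv0, ?_, ?_⟩
    · rw [hv Qq, g1, neg_one_smul]
    · rw [hv Qq', g2, neg_one_smul]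

theorem three_le_finrank : 3 ≤ Module.finrank (ZMod 3) V := by
  obtain ⟨c₁, c₂, c₃, n1, n2, n3, d1, d2, d3, -⟩ := D.lines
  let i : Fin 3 → (Q → ZMod 3) := ![c₁, c₂, c₃]
  have hi : Function.Injective i := by
    intro x y
    fin_cases x <;> fin_cases y <;> simp [i, n1, n2, n3, n1.symm, n2.symm, n3.symm]
  choose v hv hv0 using fun x : Fin 3 => Submodule.exists_mem_ne_zero_of_ne_bot (p := wt τ Q (i x)) (by
    intro e
    fin_cases x
    exacts [by rw [show wt τ Q c₁ = ⊥ from e, finrank_bot] at d1; omega,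
      by rw [show wt τ Q c₂ = ⊥ from e, finrank_bot] at d2; omega,
      by rw [show wt τ Q c₃ = ⊥ from e, finrank_bot] at d3; omega])
  have := (((iSupIndep_wt (τ := τ) (A := Q)).comp hi).linearIndependent _ hv hv0).fintype_card_le_finrank
  simpa using this

end Four

end CfsgLib.Solvable.RankTwoUnipotent
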