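import Cfsg.Agent.Lib.Solvable.RankTwoUnipotent.Setting
import Cfsg.Agent.Lib.Solvable.RankTwoUnipotent.FourGroup
import Cfsg.Agent.Lib.Solvable.RankTwoUnipotent.Action
import Cfsg.Prelude.Def_Solvable
import Cfsg.Agent.Lib.Solvable.Cores

/-!
The case with no noncentral normal elementary abelian `2`-subgroup: normal nilpotent subgroups are `2`-groups
and the group `F = O₂` has `[F,F]` and all squares in the scalars.
-/

set_option autoImplicit false
set_option linter.unusedSectionVars false

open scoped commutatorElement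

namespace CfsgLib.Solvable.RankTwoUnipotent

variable {L : Type*} [Group L] [Finite L] {V : Type*} [AddCommGroup V] [Module (ZMod 3) V] [Finite V]
  {τ : Representation (ZMod 3) L V} {R : Subgroup L} {b : L} {Q : Subgroup L}

/-- The standing hypotheses of the scalar case. -/
structure Scalar (τ : Representation (ZMod 3) L V) (R : Subgroup L) (b : L) (Q : Subgroup L) : Prop
    extends Rank2 τ R b where
  solvable : Group.IsSolvable L
  four : Four τ Q b
  leQ : Q ≤ R
  central : ∀ A : Subgroup L, A.Normal → A ≤ R → IsMulCommutative A → (∀ a ∈ A, a ^ 2 = 1) →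
    ∀ a ∈ A, b * a = a * b

namespace Scalar

variable (H : Scalar τ R b Q)

include H

/-- The scalar elements of `R`. -/
def zs (_ : Scalar τ R b Q) : Subgroup L where
  carrier := {g | g ∈ R ∧ ((∀ v, τ g v = v) ∨ ∀ v, τ g v = -v)}
  one_mem' := ⟨R.one_mem, Or.inl fun v => apply_one v⟩
  mul_mem' := by
    rintro g h ⟨hg, hg'⟩ ⟨hh, hh'⟩
    refine ⟨R.mul_mem hg hh, ?_⟩
    rcases hg' with hg' | hg' <;> rcases hh' with hh' | hh'
    · exact Or.inl fun v => by rw [apply_mul, hh', hg']
    · exact Or.inr fun v => by rw [apply_mul, hh', hg']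
    · exact Or.inr fun v => by rw [apply_mul, hh', hg']
    · exact Or.inl fun v => by rw [apply_mul, hh', hg', neg_neg]
  inv_mem' := by
    rintro g ⟨hg, hg'⟩
    refine ⟨R.inv_mem hg, ?_⟩
    rcases hg' with hg' | hg'
    · exact Or.inl fun v => by conv_lhs => rw [← hg' v, apply_inv]
    · refine Or.inr fun v => ?_
      conv_lhs => rw [← neg_neg v, ← hg' v, ← map_neg, apply_inv]

theorem zs_le : H.zs ≤ R := fun _ hg => hg.1

theorem zs_central {z : L} (hz : z ∈ H.zs) (g : L) : g * z = z * g :=
  H.toRank2.eq_of_apply fun v => by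
    rcases hz.2 with h | h
    · rw [apply_mul, apply_mul, h, h]
    · rw [apply_mul, apply_mul, h, h, map_neg]

theorem zs_sq {z : L} (hz : z ∈ H.zs) : z * z = 1 :=
  H.toRank2.eq_of_apply fun v => by
    rcases hz.2 with h | h
    · rw [apply_mul, h, h, apply_one]
    · rw [apply_mul, h, h, neg_neg, apply_one]

theorem zs_normal : H.zs.Normal := ⟨fun z hz g => by
  rw [H.zs_central hz g, mul_inv_cancel_right]; exact hz⟩

theorem zs_card : Nat.card H.zs ≤ 2 := by
  classical
  refine le_trans (Nat.card_le_card_of_injective (fun z : H.zs => decide (∀ v, τ (z : L) v = v)) ?_) (by simp)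
  intro z z' h
  simp only [decide_eq_decide] at h
  refine Subtype.ext (H.toRank2.eq_of_apply fun v => ?_)
  rcases z.2.2 with hz | hz <;> rcases z'.2.2 with hz' | hz'
  · rw [hz, hz']
  · rw [hz, h.mp hz v]
  · rw [h.mpr hz' v, hz']
  · rw [hz, hz']

/-- Central elements of `R` are scalar. -/
theorem mem_zs {a : L} (ha : a ∈ R) (hc : ∀ g, g * a = a * g) : a ∈ H.zs := by
  refine ⟨ha, H.toRank2.scalar_of_central ?_ hc⟩
  obtain ⟨w, hw0, hw⟩ := H.four.exists_line
  obtain ⟨k, hk⟩ := hw a fun q _ => (hc q).symm
  have hc2 : ∀ g, g * a ^ 2 = a ^ 2 * g := fun g => (show Commute g a from hc g).pow_right 2 |>.eq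
  have hfix : τ (a ^ 2) w = w := by
    have hk0 : k ≠ 0 := fun e => hw0 (by
      rw [← apply_inv (τ := τ) a w, hk, e, zero_smul, map_zero])
    rw [pow_two, apply_mul, hk, map_smul, hk, smul_smul]
    rcases zmod_three_cases k with e | e | e
    · exact absurd e hk0
    · rw [e, one_mul, one_smul]
    · rw [e, show (-1 : ZMod 3) * -1 = 1 by decide, one_smul]
  rcases H.irred (LinearMap.ker (τ (a ^ 2) - 1)) (fun g v hv => by
    simp only [LinearMap.mem_ker, LinearMap.sub_apply, Module.End.one_apply, sub_eq_zero] at hv ⊢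
    rw [← apply_mul, ← hc2 g, apply_mul, hv]) with h | h
  · refine absurd ?_ hw0
    have : w ∈ LinearMap.ker (τ (a ^ 2) - 1) := by
      simp only [LinearMap.mem_ker, LinearMap.sub_apply, Module.End.one_apply, sub_eq_zero]
      exact hfix
    rwa [h, Submodule.mem_bot] at this
  · refine H.toRank2.eq_one_of_fixed fun v => ?_
    have : v ∈ LinearMap.ker (τ (a ^ 2) - 1) := h ▸ trivial
    simpa [sub_eq_zero] using this

/-- An element of odd order of `R` on a plane. -/
theorem fixes_plane {m : L} (hm : m ∈ R) (hodd : Odd (orderOf m)) (P : Submodule (ZMod 3) V)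
    (hP : Module.finrank (ZMod 3) P ≤ 2) (hinv : ∀ v ∈ P, τ m v ∈ P) : ∀ v ∈ P, τ m v = v := by
  classical
  set φ : Module.End (ZMod 3) P := (τ m).restrict hinv with hφ
  have hpow : φ ^ orderOf m = 1 := by
    refine LinearMap.ext fun v => Subtype.ext ?_
    rw [hφ, Module.End.pow_restrict, LinearMap.restrict_apply]
    show ((τ m) ^ orderOf m) (v : V) = v
    rw [← map_pow, pow_orderOf_eq_one, apply_one]
  suffices h : φ = 1 by
    intro v hv
    exact congrArg Subtype.val (LinearMap.congr_fun h ⟨v, hv⟩)
  by_contra hne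
  have ho : orderOf φ ≠ 1 := fun e => hne (orderOf_eq_one_iff.mp e)
  obtain ⟨q, hq, hqd⟩ := Nat.exists_prime_and_dvd ho
  haveI := Fact.mk hq
  have hqm : q ∣ orderOf m := hqd.trans (orderOf_dvd_of_pow_eq_one hpow)
  have hq2 : q ≠ 2 := by
    rintro rfl
    exact (Nat.not_even_iff_odd.mpr hodd) (even_iff_two_dvd.mpr hqm)
  have hq3 : q ≠ 3 := by
    rintro rfl
    have h3 : 3 ∣ Nat.gcd (Nat.card R) 3 := Nat.dvd_gcd (hqm.trans (Subgroup.orderOf_dvd_natCard R hm)) dvd_rfl
    rw [H.coprime] at h3
    norm_num at h3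
  have hq5 : 5 ≤ q := by
    by_contra hlt
    push Not at hlt
    interval_cases q <;>
      first | (exact absurd rfl hq2) | (exact absurd rfl hq3) | (exact absurd hq (by norm_num)) | omega
  have ho' := orderOf_pow_orderOf_div (fun e => by
    rw [orderOf_eq_zero_iff'] at e
    exact e _ (orderOf_pos m) hpow) hqd
  have := (prime_of_linear hq5 (φ ^ (orderOf φ / q)) (by
    conv_lhs => arg 2; rw [← ho']
    exact pow_orderOf_eq_one _) (fun e => by rw [e, orderOf_one] at ho'; exact hq.ne_one ho'.symm)).1
  omega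

theorem odd_abelian_eq_one {M : Subgroup L} (hM : M.Normal) (hMR : M ≤ R) (hMc : IsMulCommutative M)
    (hodd : ∀ m ∈ M, Odd (orderOf m)) {m : L} (hm : m ∈ M) : m = 1 := by
  classical
  -- an element centralizing one involution of `Q` centralizes `Q`
  have hstep : ∀ q ∈ Q, q ≠ 1 → ∀ m ∈ M, q * m = m * q → ∀ r ∈ Q, m * r = r * m := by
    intro q hq hq1 m hm hqm
    obtain ⟨q', hq', hq'1, hq'q⟩ := H.four.exists_pair hq
    -- `m` fixes the `-1` space of `q`
    obtain ⟨hdim, -⟩ := H.four.minus_planes hq hq' hq1 hq'1 hq'q.symm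
    obtain ⟨hdim', v₀, hv0, hv₀', hv₀⟩ := H.four.minus_planes hq' hq hq'1 hq1 hq'q
    have hfix : ∀ v, τ q v = -v → τ m v = v := fun v hv => by
      refine H.fixes_plane (hMR hm) (hodd m hm) _ hdim (fun x hx => ?_) v (by simp [hv])
      simp only [LinearMap.mem_ker, LinearMap.add_apply, Module.End.one_apply] at hx ⊢
      rw [← apply_mul, hqm, apply_mul, ← map_add, hx, map_zero]
    -- write `m = n n'` with `n` centralizing `Q` and `n'` inverted by `q'`
    have hQq : q' * q = q * q' := congrArg Subtype.val (H.four.comm.is_comm.comm ⟨q', hq'⟩ ⟨q, hq⟩)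
    have hq'2 : q' * q' = 1 := (pow_two q').symm.trans (H.four.sq q' hq')
    have hq'i : q'⁻¹ = q' := inv_eq_of_mul_eq_one_right hq'2
    have hcM : q' * m * q' ∈ M := by
      have := hM.conj_mem m hm q'; rwa [hq'i] at this
    set x := m⁻¹ * (q' * m * q') with hx
    have hxM : x ∈ M := M.mul_mem (M.inv_mem hm) hcM
    have hmm : ∀ u ∈ M, ∀ w ∈ M, u * w = w * u := fun u hu w hw =>
      congrArg Subtype.val (hMc.is_comm.comm ⟨u, hu⟩ ⟨w, hw⟩)
    -- `x` commutes with `q` and is inverted by `q'`
    have hqi : q * (q' * m * q') = q' * m * q' * q := by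
      calc q * (q' * m * q') = q * q' * m * q' := by group
        _ = q' * (q * m) * q' := by rw [← hQq]; group
        _ = q' * m * (q * q') := by rw [hqm]; group
        _ = q' * m * q' * q := by rw [← hQq]; group
    have hqx : q * x = x * q :=
      ((show Commute q m from hqm).inv_right.mul_right hqi).eq
    have hxinv : q' * x * q' = x⁻¹ := by
      rw [hx, mul_inv_rev, inv_inv, ← hmm _ hm _ (M.inv_mem hcM), mul_inv_rev, mul_inv_rev, hq'i]
      calc q' * (m⁻¹ * (q' * m * q')) * q' = q' * m⁻¹ * q' * m * (q' * q') := by group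
        _ = q' * m⁻¹ * q' * m := by rw [hq'2, mul_one]
        _ = m * (q' * (m⁻¹ * q')) := by
            rw [← mul_assoc q', hmm _ (by
              have := M.inv_mem hcM
              rwa [mul_inv_rev, mul_inv_rev, hq'i, ← mul_assoc] at this) _ hm]
    have hxfix : ∀ v, τ q v = -v → τ x v = v := fun v hv => by
      refine H.fixes_plane (hMR hxM) (hodd x hxM) _ hdim (fun y hy => ?_) v (by simp [hv])
      simp only [LinearMap.mem_ker, LinearMap.add_apply, Module.End.one_apply] at hy ⊢
      rw [← apply_mul, hqx, apply_mul, ← map_add, hy, map_zero]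
    -- `x` moves a plane only
    set P := LinearMap.range (τ x - 1)
    have hPinv : ∀ g : L, (g * x = x * g ∨ g * x = x⁻¹ * g) → ∀ v ∈ P, τ g v ∈ P := by
      rintro g hg _ ⟨w, rfl⟩
      rcases hg with hg | hg
      · refine ⟨τ g w, ?_⟩
        simp only [LinearMap.sub_apply, Module.End.one_apply, map_sub]
        rw [← apply_mul, ← hg, apply_mul]
      · refine ⟨-(τ (x⁻¹ * g) w), ?_⟩
        simp only [LinearMap.sub_apply, Module.End.one_apply, map_sub, map_neg]
        rw [← apply_mul, ← mul_assoc, mul_inv_cancel, one_mul, ← apply_mul, hg]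
        abel
    have hPfix : ∀ v ∈ P, τ x v = v → v = 0 := by
      rintro _ ⟨w, rfl⟩ hw
      set u := (τ x - 1) w with hu
      have hn : ∀ n : ℕ, τ (x ^ n) w = w + n • u := fun n => by
        induction n with
        | zero => rw [pow_zero, apply_one, zero_smul, add_zero]
        | succ n ih =>
          rw [pow_succ', apply_mul, ih, map_add, map_nsmul, hw, succ_nsmul, hu]
          simp only [LinearMap.sub_apply, Module.End.one_apply]
          abel
      have h0 := hn (orderOf x)
      rw [pow_orderOf_eq_one, apply_one, left_eq_add] at h0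
      have hcast : ((orderOf x : ℕ) : ZMod 3) • u = 0 := by rw [Nat.cast_smul_eq_nsmul]; exact h0
      refine (smul_eq_zero.mp hcast).resolve_left ?_
      rw [ZMod.natCast_eq_zero_iff]
      intro h3
      have h3' : 3 ∣ Nat.gcd (Nat.card R) 3 := Nat.dvd_gcd (h3.trans (Subgroup.orderOf_dvd_natCard R (hMR hxM))) dvd_rfl
      rw [H.coprime] at h3'
      norm_num at h3'
    have hxe : x = 1 := by
      have hq'x : q' * x = x⁻¹ * q' := by
        rw [← hxinv, mul_assoc (q' * x), hq'2, mul_one]
      -- `P ∩ ker(q'+1)` is at most a line, and receives an injection of `P ∩ ker(q'-1)`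
      set Pm := P ⊓ LinearMap.ker (τ q' + 1) with hPm
      set Pp := P ⊓ LinearMap.ker (τ q' - 1) with hPp
      have hv0fix : τ x v₀ = v₀ := hxfix v₀ hv₀
      have hPmle : Module.finrank (ZMod 3) Pm ≤ 1 := by
        have hdisj : Pm ⊓ (ZMod 3 ∙ v₀) = ⊥ := by
          rw [eq_bot_iff]
          rintro v ⟨hvP, hvs⟩
          obtain ⟨k, rfl⟩ := Submodule.mem_span_singleton.mp hvs
          exact (Submodule.mem_bot _).mpr (hPfix _ hvP.1 (by rw [map_smul, hv0fix]))
        have hle : Pm ⊔ (ZMod 3 ∙ v₀) ≤ LinearMap.ker (τ q' + 1) :=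
          sup_le inf_le_right ((Submodule.span_singleton_le_iff_mem _ _).mpr (by simp [hv₀']))
        have h1 := Submodule.finrank_sup_add_finrank_inf_eq Pm (ZMod 3 ∙ v₀)
        rw [hdisj, finrank_bot, finrank_span_singleton hv0] at h1
        have := (Submodule.finrank_mono hle).trans hdim'
        omega
      have hPple : Module.finrank (ZMod 3) Pp ≤ Module.finrank (ZMod 3) Pm := by
        refine LinearMap.finrank_le_finrank_of_injective
          (f := ((τ x - τ x⁻¹).domRestrict Pp).codRestrict Pm fun v => ?_) ?_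
        · obtain ⟨v, hvP, hvq⟩ := v
          have hvq : τ q' v = v := by simpa [sub_eq_zero] using hvq
          refine ⟨Submodule.sub_mem _ (hPinv x (Or.inl rfl) v hvP) (hPinv x⁻¹ (Or.inl (by group)) v hvP), ?_⟩
          show τ x v - τ x⁻¹ v ∈ LinearMap.ker (τ q' + 1)
          simp only [LinearMap.mem_ker, LinearMap.add_apply, Module.End.one_apply, map_sub]
          have e : q' * x⁻¹ = x * q' := by
            rw [← hxinv, ← mul_assoc, ← mul_assoc, hq'2, one_mul]
          rw [← apply_mul q' x, ← apply_mul q' x⁻¹, hq'x, e, apply_mul x⁻¹ q', apply_mul x q', hvq]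
          abel
        · rw [← LinearMap.ker_eq_bot, LinearMap.ker_eq_bot']
          intro v hv
          have h' : τ x (v : V) = τ x⁻¹ v := sub_eq_zero.mp (congrArg Subtype.val hv)
          have h2 : τ (x * x) (v : V) = v := by rw [apply_mul, h', apply_inv']
          obtain ⟨j, hj⟩ := hodd x hxM
          have hpw : ∀ n : ℕ, τ ((x * x) ^ n) (v : V) = v := fun n => by
            induction n with
            | zero => rw [pow_zero, apply_one]
            | succ n ih => rw [pow_succ, apply_mul, h2, ih]
          refine Subtype.ext (hPfix v v.2.1 ?_)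
          have e : x = (x * x) ^ (j + 1) := by
            rw [← pow_two, ← pow_mul, show 2 * (j + 1) = orderOf x + 1 by omega, pow_add, pow_orderOf_eq_one,
              one_mul, pow_one]
          rw [e, hpw]
      have hPle : Module.finrank (ZMod 3) P ≤ 2 := by
        have hsup : P ≤ Pp ⊔ Pm := by
          intro v hv
          have hq'v : τ q' v ∈ P := hPinv q' (Or.inr hq'x) v hv
          rw [split v (τ q' v)]
          have e : τ q' (τ q' v) = v := by rw [← apply_mul, hq'2, apply_one]
          refine Submodule.add_mem_sup (Submodule.neg_mem _ ⟨P.add_mem hv hq'v, ?_⟩)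
            (Submodule.neg_mem _ ⟨P.sub_mem hv hq'v, ?_⟩)
          · simp only [SetLike.mem_coe, LinearMap.mem_ker, LinearMap.sub_apply, Module.End.one_apply, map_add, e]
            abel
          · simp only [SetLike.mem_coe, LinearMap.mem_ker, LinearMap.add_apply, Module.End.one_apply, map_sub, e]
            abel
        have := (Submodule.finrank_mono hsup).trans (Submodule.finrank_add_le_finrank_add_finrank _ _)
        omega
      have hf := H.fixes_plane (hMR hxM) (hodd x hxM) P hPle (hPinv x (Or.inl rfl))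
      refine H.toRank2.eq_one_of_fixed fun v => sub_eq_zero.mp ?_
      exact hPfix _ ⟨v, rfl⟩ (hf _ ⟨v, rfl⟩)
    -- `m` commutes with all of `Q`
    have hmq' : q' * m = m * q' := by
      have h1 : q' * m * q' = m := (inv_mul_eq_one.mp hxe).symm
      calc q' * m = q' * m * (q' * q') := by rw [hq'2, mul_one]
        _ = m * q' := by rw [← mul_assoc, h1]
    intro r hr
    rcases H.four.eq_or hq hq' hq1 hq'1 hq'q.symm hr with rfl | rfl | rfl | rfl
    · rw [mul_one, one_mul]
    · exact hqm.symm
    · exact hmq'.symm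
    · exact ((show Commute m q from hqm.symm).mul_right (show Commute m q' from hmq'.symm)).eq
  have hallM : ∀ u ∈ M, ∀ r ∈ Q, u * r = r * u := by
    intro u hu
    obtain ⟨q, hq, hq1, -⟩ := H.four.exists_pair Q.one_mem
    obtain ⟨q', hq', hq'1, hq'q⟩ := H.four.exists_pair hq
    have hqq : q * q' ≠ 1 := fun e => hq'q (by
      rw [← inv_eq_of_mul_eq_one_right e]
      exact inv_eq_of_mul_eq_one_right ((pow_two q).symm.trans (H.four.sq q hq)))
    have hmm : ∀ a ∈ M, ∀ c ∈ M, Commute a c := fun a ha c hc =>
      congrArg Subtype.val (hMc.is_comm.comm ⟨a, ha⟩ ⟨c, hc⟩)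
    have hconj : ∀ a ∈ M, ∀ r ∈ Q, r * a * r ∈ M := fun a ha r hr => by
      have := hM.conj_mem a ha r
      rwa [inv_eq_of_mul_eq_one_right ((pow_two r).symm.trans (H.four.sq r hr))] at this
    -- `a * a^r` centralizes `Q`
    have hprod : ∀ r ∈ Q, r ≠ 1 → ∀ s ∈ Q, Commute (u * (r * u * r)) s := by
      intro r hr hr1 s hs
      refine hstep r hr hr1 _ (M.mul_mem hu (hconj u hu r hr)) ?_ s hs
      have hr2 : r * r = 1 := (pow_two r).symm.trans (H.four.sq r hr)
      calc r * (u * (r * u * r)) = r * u * r * u * r := by group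
        _ = u * (r * u * r) * r := by rw [← (hmm u hu _ (hconj u hu r hr)).eq]
    have hq2 : q' * q' = 1 := (pow_two q').symm.trans (H.four.sq q' hq')
    have hqc : q * q' = q' * q := congrArg Subtype.val (H.four.comm.is_comm.comm ⟨q, hq⟩ ⟨q', hq'⟩)
    intro r hr
    set a := q * u * q
    set a' := q' * u * q'
    set a'' := q * q' * u * (q * q')
    have hc : Commute (u * a * (a' * a'')) r := by
      have e1 : a' * a'' = q' * (u * a) * q' := by
        calc a' * a'' = q' * u * q' * (q * q' * u * (q * q')) := rfl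
          _ = q' * u * q' * (q' * q * u * (q * q')) := by rw [← hqc]
          _ = q' * u * (q' * q') * q * u * q * q' := by group
          _ = q' * (u * a) * q' := by rw [hq2, mul_one]; simp only [a]; group
      rw [e1, ← (show Commute (u * a) q' from hprod q hq hq1 q' hq').eq, mul_assoc (u * a) q', hq2, mul_one]
      exact (hprod q hq hq1 r hr).mul_left (hprod q hq hq1 r hr)
    have hc3 : Commute (u * a * (u * a') * (u * a'')) r :=
      ((hprod q hq hq1 r hr).mul_left (hprod q' hq' hq'1 r hr)).mul_left
        (hprod (q * q') (Q.mul_mem hq hq') hqq r hr)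
    have e2 : u * a * (u * a') * (u * a'') = u * u * (u * a * (a' * a'')) := by
      have h1 := hmm u hu a (hconj u hu q hq)
      have h2 := hmm u hu a' (hconj u hu q' hq')
      calc u * a * (u * a') * (u * a'') = u * (a * u) * (a' * u) * a'' := by group
        _ = u * (u * a) * (u * a') * a'' := by rw [← h1.eq, ← h2.eq]
        _ = u * u * (a * u) * a' * a'' := by group
        _ = u * u * (u * a * (a' * a'')) := by rw [← h1.eq]; group
    rw [e2] at hc3
    have hu2 : Commute (u ^ 2) r := by
      have h := hc3.mul_left hc.inv_left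
      rwa [mul_inv_cancel_right, ← pow_two] at h
    obtain ⟨j, hj⟩ := hodd u hu
    have e : u = (u ^ 2) ^ (j + 1) := by
      rw [← pow_mul, show 2 * (j + 1) = orderOf u + 1 by omega, pow_add, pow_orderOf_eq_one, one_mul, pow_one]
    rw [e]
    exact (hu2.pow_left _).eq
  obtain ⟨w, hw0, hw⟩ := H.four.exists_line
  have hfixw : ∀ u ∈ M, τ u w = w := by
    intro u hu
    obtain ⟨k, hk⟩ := hw u (hallM u hu)
    have hk0 : k ≠ 0 := fun e => hw0 (by rw [← apply_inv (τ := τ) u w, hk, e, zero_smul, map_zero])
    rcases zmod_three_cases k with e | e | e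
    · exact absurd e hk0
    · rw [hk, e, one_smul]
    · exfalso
      have hn : ∀ n : ℕ, τ (u ^ n) w = ((-1 : ZMod 3) ^ n) • w := fun n => by
        induction n with
        | zero => rw [pow_zero, apply_one, pow_zero, one_smul]
        | succ n ih => rw [pow_succ', apply_mul, ih, map_smul, hk, e, smul_smul, pow_succ]
      have h0 := hn (orderOf u)
      rw [pow_orderOf_eq_one, apply_one, (hodd u hu).neg_one_pow] at h0
      have h2 : ((1 : ZMod 3) - -1) • w = 0 := by rw [sub_smul, one_smul, ← h0, sub_self]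
      exact hw0 ((smul_eq_zero.mp h2).resolve_left (by decide))
  refine H.toRank2.eq_one_of_fixed fun v => ?_
  let F : Submodule (ZMod 3) V :=
    { carrier := {v | ∀ u ∈ M, τ u v = v}
      zero_mem' := fun u _ => map_zero _
      add_mem' := fun {a c} ha hc u hu => by rw [map_add, ha u hu, hc u hu]
      smul_mem' := fun k a ha u hu => by rw [map_smul, ha u hu] }
  have hwF : w ∈ F := hfixw
  rcases H.irred F (fun g v hv u hu => by
    have h := hv (g⁻¹ * u * g) (by simpa using hM.conj_mem u hu g⁻¹)
    rw [← apply_mul, show u * g = g * (g⁻¹ * u * g) by group, apply_mul, h]) with h | h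
  · rw [h, Submodule.mem_bot] at hwF
    exact absurd hwF hw0
  · exact (show v ∈ F by rw [h]; trivial) m hm

end Scalar

end CfsgLib.Solvable.RankTwoUnipotent
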