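import Cfsg.Agent.Lib.Solvable.RankTwoUnipotent.Symplectic

/-!
The scalar case is impossible.
-/

set_option autoImplicit false
set_option linter.unusedSectionVars false

open scoped commutatorElement

namespace CfsgLib.Solvable.RankTwoUnipotent

/-- A square root of `-1` forces even dimension in characteristic three. -/
theorem even_finrank_of_sq_neg {W : Type*} [AddCommGroup W] [Module (ZMod 3) W] [Finite W]
    (f : W →ₗ[ZMod 3] W) (h : ∀ w, f (f w) = -w) : Even (Module.finrank (ZMod 3) W) := by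
  have h1 : f * f = (-1 : ZMod 3) • (1 : Module.End (ZMod 3) W) := by
    refine LinearMap.ext fun w => ?_
    show f (f w) = (-1 : ZMod 3) • w
    rw [h, neg_one_smul]
  have h2 := congrArg LinearMap.det h1
  rw [map_mul, LinearMap.det_smul, map_one, mul_one] at h2
  rcases Nat.even_or_odd (Module.finrank (ZMod 3) W) with he | ho
  · exact he
  · rw [ho.neg_one_pow] at h2
    exfalso
    revert h2
    generalize LinearMap.det f = x
    revert x
    decide

namespace Scalar

variable {L : Type*} [Group L] [Finite L] {V : Type*} [AddCommGroup V] [Module (ZMod 3) V] [Finite V]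
  {τ : Representation (ZMod 3) L V} {R : Subgroup L} {b : L} {Q : Subgroup L}
variable (H : Scalar τ R b Q)

include H

theorem exists_noncomm : ∃ f ∈ H.fs, ∃ g ∈ H.fs, f * g ≠ g * f := by
  by_contra hno
  push Not at hno
  obtain ⟨-, -, hR₀, hD⟩ := H.fs_props
  have hFz : H.fs ≤ H.zs := fun f hf => hD f (H.fs_le hf) fun g hg => hno f hf g hg
  refine H.not_le_zs fun r hr => hFz (hR₀ r hr fun f hf => ?_)
  rw [commutatorElement_eq_one_iff_mul_comm.mpr (H.zs_central (hFz hf) r)]
  exact H.zs.one_mem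

theorem anti_or_comm {f g : L} (hf : f ∈ H.fs) (hg : g ∈ H.fs) :
    f * g = g * f ∨ ∀ v, τ f (τ g v) = -τ g (τ f v) := by
  have h := H.fs_props.1 f hf g hg
  rcases h.2 with h' | h'
  · exact Or.inl (commutatorElement_eq_one_iff_mul_comm.mp (H.toRank2.eq_one_of_fixed h'))
  · refine Or.inr fun v => ?_
    have e : f * g = ⁅f, g⁆ * (g * f) := by rw [commutatorElement_def]; group
    rw [← apply_mul, e, apply_mul, h', apply_mul]

theorem exists_anti {f : L} (hf : f ∈ H.fs) (hfz : f ∉ H.zs) :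
    ∃ x ∈ H.fs, ∀ v, τ x (τ f v) = -τ f (τ x v) := by
  by_contra hno
  push Not at hno
  refine hfz (H.fs_props.2.2.2 f (H.fs_le hf) fun x hx => ?_)
  rcases H.anti_or_comm hx hf with h | h
  · exact h.symm
  · obtain ⟨v, hv⟩ := hno x hx
    exact absurd (h v) hv

theorem exists_noncomm_b : ∃ f ∈ H.fs, ⁅f, b⁆ ∉ H.zs := by
  by_contra hno
  push Not at hno
  obtain ⟨f, hf, g, hg, hne⟩ := H.exists_noncomm
  refine hne ?_
  have hb : ∀ a ∈ H.fs, b * a = a * b := by
    intro a ha
    set c := ⁅a, b⁆ with hc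
    have hcz := hno a ha
    have hcb : Commute c b := (H.zs_central hcz b).symm
    have e : a * b * a⁻¹ = c * b := by rw [hc, commutatorElement_def]; group
    have h3 : (c * b) ^ 3 = 1 := by
      rw [← e, show (a * b * a⁻¹) ^ 3 = a * b ^ 3 * a⁻¹ from conj_pow, H.b_cube]; group
    rw [hcb.mul_pow, H.b_cube, mul_one, pow_succ, pow_two, H.zs_sq hcz, one_mul] at h3
    rw [h3, one_mul] at e
    calc b * a = a * b * a⁻¹ * a := by rw [e]
      _ = a * b := by group
  haveI := H.fs_normal
  exact H.toRank2.central_of_comm hb hg f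

/-- The eigenspaces of a noncentral involution of `H.fs` are equivalent halves. -/
theorem halves {g : L} (hg : g ∈ H.fs) (hgz : g ∉ H.zs) (hg2 : g * g = 1) :
    2 * Module.finrank (ZMod 3) (LinearMap.ker (τ g - 1)) = Module.finrank (ZMod 3) V := by
  obtain ⟨x, hx, hanti⟩ := H.exists_anti hg hgz
  set P := LinearMap.ker (τ g - 1) with hP
  set M := LinearMap.ker (τ g + 1) with hM
  have hmemP : ∀ v, v ∈ P ↔ τ g v = v := fun v => by simp [hP, sub_eq_zero]
  have hmemM : ∀ v, v ∈ M ↔ τ g v = -v := fun v => by simp [hM, add_eq_zero_iff_eq_neg]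
  have hinj : ∀ a c : V, τ x a = τ x c → a = c := fun a c h => by
    have := congrArg (τ x⁻¹) h
    rwa [apply_inv, apply_inv] at this
  have hle1 : Module.finrank (ZMod 3) P ≤ Module.finrank (ZMod 3) M := by
    refine LinearMap.finrank_le_finrank_of_injective (f := ((τ x).domRestrict P).codRestrict M fun v => ?_) ?_
    · rw [hmemM]
      have h := hanti v
      rw [(hmemP v).mp v.2] at h
      show τ g (τ x v) = -τ x v
      rw [eq_comm, neg_eq_iff_eq_neg]
      exact h
    · intro a c h; exact Subtype.ext (hinj _ _ (congrArg Subtype.val h))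
  have hle2 : Module.finrank (ZMod 3) M ≤ Module.finrank (ZMod 3) P := by
    refine LinearMap.finrank_le_finrank_of_injective (f := ((τ x).domRestrict M).codRestrict P fun v => ?_) ?_
    · rw [hmemP]
      have h := hanti v
      rw [(hmemM v).mp v.2, map_neg, neg_inj] at h
      exact h.symm
    · intro a c h; exact Subtype.ext (hinj _ _ (congrArg Subtype.val h))
  have hgg : ∀ v, τ g (τ g v) = v := fun v => by rw [← apply_mul, hg2, apply_one]
  have hsup : P ⊔ M = ⊤ := by
    refine eq_top_iff.mpr fun v _ => ?_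
    rw [split v (τ g v)]
    refine Submodule.add_mem_sup (Submodule.neg_mem _ ((hmemP _).mpr ?_)) (Submodule.neg_mem _ ((hmemM _).mpr ?_))
    · rw [map_add, hgg, add_comm]
    · rw [map_sub, hgg, neg_sub]
  have hinf : P ⊓ M = ⊥ := by
    refine eq_bot_iff.mpr fun v ⟨h1, h2⟩ => ?_
    have h2' := (hmemM v).mp h2
    rw [(hmemP v).mp h1] at h2'
    rw [Submodule.mem_bot]
    have e := split v v
    rwa [sub_self, neg_zero, add_zero, show -(v + v) = -v + -v from neg_add v v, ← h2', ← sub_eq_zero,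
      show v - (v + v) = -v by abel, neg_eq_zero] at e
  have h := Submodule.finrank_sup_add_finrank_inf_eq P M
  rw [hsup, hinf, finrank_bot, finrank_top] at h
  omega

open Classical in
theorem card_fs_le {k₀ : L} {y : L} (hk₀ : k₀ ∈ H.fs) (hy : y ∈ H.fs) (hky : k₀ * y ≠ y * k₀)
    (hab : ∀ g ∈ H.fs, g * y = y * g → ∀ g' ∈ H.fs, g' * y = y * g' → g * g' = g' * g) :
    Nat.card H.fs ≤ 8 := by
  obtain ⟨-, -, -, hD⟩ := H.fs_props
  have hprod : ∀ a ∈ H.fs, ∀ c ∈ H.fs, ∀ w ∈ H.fs, a * w ≠ w * a → c * w ≠ w * c →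
      (a⁻¹ * c) * w = w * (a⁻¹ * c) := by
    intro a ha c hc w hw h1 h2
    refine H.toRank2.eq_of_apply fun v => ?_
    rcases H.anti_or_comm ha hw with h | h
    · exact absurd h h1
    rcases H.anti_or_comm hc hw with h' | h'
    · exact absurd h' h2
    have hi : ∀ u, τ a⁻¹ (τ w u) = -τ w (τ a⁻¹ u) := fun u => by
      have h0 := congrArg (τ a⁻¹) (h (τ a⁻¹ u))
      rw [apply_inv, apply_inv', map_neg] at h0
      rw [h0, neg_neg]
    rw [apply_mul, apply_mul, h', map_neg, hi, neg_neg, apply_mul, apply_mul]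
  let C : Set L := {g | g ∈ H.fs ∧ g * y = y * g}
  have h1 : Nat.card H.fs ≤ 2 * Nat.card C := by
    refine (Nat.card_le_card_of_injective (fun f : H.fs =>
      ((decide ((f : L) * y = y * f), if hh : (f : L) * y = y * f then (⟨f, f.2, hh⟩ : C)
        else ⟨k₀⁻¹ * f, H.fs.mul_mem (H.fs.inv_mem hk₀) f.2, hprod k₀ hk₀ f f.2 y hy hky hh⟩) : Bool × C)) ?_).trans ?_
    · intro f f' h
      simp only [Prod.mk.injEq, decide_eq_decide] at h
      obtain ⟨h, h'⟩ := h
      by_cases hh : (f : L) * y = y * f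
      · rw [dif_pos hh, dif_pos (h.mp hh)] at h'
        exact Subtype.ext (congrArg (fun z : C => (z : L)) h')
      · rw [dif_neg hh, dif_neg (fun e => hh (h.mpr e))] at h'
        exact Subtype.ext (mul_left_cancel (congrArg (fun z : C => (z : L)) h'))
    · rw [Nat.card_prod, Nat.card_eq_two_iff.mpr ⟨true, false, by decide, by ext b; cases b <;> simp⟩]
  have h2 : Nat.card C ≤ 2 * 2 := by
    have hcen : ∀ g : L, g ∈ H.fs → g * y = y * g → g * k₀ = k₀ * g → g ∈ H.zs := by
      intro g hg hgy hgk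
      refine hD g (H.fs_le hg) fun f hf => ?_
      by_cases hh : f * y = y * f
      · exact hab g hg hgy f hf hh
      · have h := hab g hg hgy (k₀⁻¹ * f) (H.fs.mul_mem (H.fs.inv_mem hk₀) hf) (hprod k₀ hk₀ f hf y hy hky hh)
        calc g * f = g * k₀ * (k₀⁻¹ * f) := by group
          _ = k₀ * (g * (k₀⁻¹ * f)) := by rw [hgk, mul_assoc]
          _ = f * g := by rw [h]; group
    by_cases hex : ∃ g₀ : C, (g₀ : L) * k₀ ≠ k₀ * g₀
    · obtain ⟨g₀, hg₀⟩ := hex
      refine (Nat.card_le_card_of_injective (fun g : C =>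
        ((decide ((g : L) * k₀ = k₀ * g), if hh : (g : L) * k₀ = k₀ * g then (⟨g, hcen g g.2.1 g.2.2 hh⟩ : H.zs)
          else ⟨(g₀ : L)⁻¹ * g, hcen _ (H.fs.mul_mem (H.fs.inv_mem g₀.2.1) g.2.1)
            ((show Commute (g₀ : L) y from g₀.2.2).inv_left.mul_left (show Commute (g : L) y from g.2.2)).eq
            (hprod g₀ g₀.2.1 g g.2.1 k₀ hk₀ hg₀ hh)⟩) : Bool × H.zs)) ?_).trans ?_
      · intro g g' h
        simp only [Prod.mk.injEq, decide_eq_decide] at h
        obtain ⟨h, h'⟩ := h
        by_cases hh : (g : L) * k₀ = k₀ * g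
        · rw [dif_pos hh, dif_pos (h.mp hh)] at h'
          exact Subtype.ext (congrArg (fun z : H.zs => (z : L)) h')
        · rw [dif_neg hh, dif_neg (fun e => hh (h.mpr e))] at h'
          exact Subtype.ext (mul_left_cancel (congrArg (fun z : H.zs => (z : L)) h'))
      · rw [Nat.card_prod, Nat.card_eq_two_iff.mpr ⟨true, false, by decide, by ext b; cases b <;> simp⟩]
        exact Nat.mul_le_mul_left 2 H.zs_card
    · push Not at hex
      refine (Nat.card_le_card_of_injective (fun g : C => (⟨g, hcen g g.2.1 g.2.2 (hex g)⟩ : H.zs))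
        fun g g' h => Subtype.ext (congrArg (fun z : H.zs => (z : L)) h)).trans (H.zs_card.trans (by norm_num))
  omega

theorem dim_four (hbig : 8 < Nat.card H.fs) : Module.finrank (ZMod 3) V = 4 := by
  classical
  obtain ⟨-, hsq, -, -⟩ := H.fs_props
  obtain ⟨f, hf, hyz⟩ := H.exists_noncomm_b
  set y := ⁅f, b⁆ with hy
  have hyF : y ∈ H.fs := by
    rw [hy, commutatorElement_def, show f * b * f⁻¹ * b⁻¹ = f * (b * f⁻¹ * b⁻¹) by group]
    exact H.fs.mul_mem hf (H.fs_normal.conj_mem _ (H.fs.inv_mem hf) b)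
  set d := Module.finrank (ZMod 3) V
  set K := LinearMap.ker (τ b - 1) with hK
  set K' := LinearMap.ker (τ (f * b * f⁻¹) - 1) with hK'
  have hmem : ∀ (g : L) (v : V), v ∈ LinearMap.ker (τ g - 1) ↔ τ g v = v := fun g v => by simp [sub_eq_zero]
  have hKd : d ≤ Module.finrank (ZMod 3) K + 2 := by
    have h : Module.finrank (ZMod 3) (LinearMap.range (τ b - 1)) + Module.finrank (ZMod 3) K = d :=
      LinearMap.finrank_range_add_finrank_ker (τ b - 1)
    have := H.rank
    omega
  have hK'd : Module.finrank (ZMod 3) K ≤ Module.finrank (ZMod 3) K' := by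
    refine LinearMap.finrank_le_finrank_of_injective (f := ((τ f).domRestrict K).codRestrict K' fun v => ?_) ?_
    · rw [hK', hmem]
      show τ (f * b * f⁻¹) (τ f v) = τ f v
      rw [← apply_mul, show f * b * f⁻¹ * f = f * b by group, apply_mul, (hmem b v).mp v.2]
    · intro a c h
      have h' := congrArg (τ f⁻¹) (show τ f a = τ f c from congrArg Subtype.val h)
      rw [apply_inv, apply_inv] at h'
      exact Subtype.ext h'
  have hI : d ≤ Module.finrank (ZMod 3) (K ⊓ K' : Submodule (ZMod 3) V) + 4 := by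
    have h := Submodule.finrank_sup_add_finrank_inf_eq K K'
    have := Submodule.finrank_le (K ⊔ K')
    omega
  have hyI : ∀ v ∈ (K ⊓ K' : Submodule (ZMod 3) V), τ y v = v ∧ τ b v = v := by
    rintro v ⟨hv, hv'⟩
    have hvb := (hmem b v).mp hv
    refine ⟨?_, hvb⟩
    rw [hy, commutatorElement_def, apply_mul, show τ b⁻¹ v = v by conv_lhs => rw [← hvb, apply_inv]]
    exact (hmem _ v).mp hv'
  have h3 := H.four.three_le_finrank
  rcases (hsq y hyF).2 with h | h
  swap
  · -- a square root of `-1`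
    have hI0 : (K ⊓ K' : Submodule (ZMod 3) V) = ⊥ := by
      refine eq_bot_iff.mpr fun v hv => (Submodule.mem_bot _).mpr ?_
      have h1 := (hyI v hv).1
      have e := h v
      rw [apply_mul, h1, h1] at e
      have e2 := split v v
      rwa [sub_self, neg_zero, add_zero, show -(v + v) = -v + -v from neg_add v v, ← e, ← sub_eq_zero,
        show v - (v + v) = -v by abel, neg_eq_zero] at e2
    rw [hI0, finrank_bot] at hI
    obtain ⟨j, hj⟩ : Even d := even_finrank_of_sq_neg (τ y) fun v => by rw [← apply_mul, h]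
    omega
  have hy2 : y * y = 1 := H.toRank2.eq_one_of_fixed h
  set P := LinearMap.ker (τ y - 1) with hP
  have hhalf := H.halves hyF hyz hy2
  rw [← hP] at hhalf
  obtain ⟨k₀, hk₀, hk₀y⟩ := H.exists_anti hyF hyz
  have hky : k₀ * y ≠ y * k₀ := by
    intro e
    have hne : ∀ v : V, v = 0 := fun v => by
      have h1 := hk₀y (τ y⁻¹ (τ k₀⁻¹ v))
      rw [← apply_mul k₀ y, e, apply_mul] at h1
      set w := τ y (τ k₀ (τ y⁻¹ (τ k₀⁻¹ v)))
      have hw : w = 0 := by
        have e2 := split w w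
        rwa [sub_self, neg_zero, add_zero, show -(w + w) = -w + -w from neg_add w w, ← h1, ← sub_eq_zero,
          show w - (w + w) = -w by abel, neg_eq_zero] at e2
      have := congrArg (fun u => τ k₀ (τ y (τ k₀⁻¹ (τ y⁻¹ u)))) hw
      simpa [w, apply_inv, apply_inv'] using this
    have : Subsingleton V := ⟨fun a c => (hne a).trans (hne c).symm⟩
    have := Module.finrank_zero_of_subsingleton (R := ZMod 3) (M := V)
    omega
  -- two anticommuting elements commuting with `y`
  obtain ⟨u, hu, huy, x, hx, hxy, hux⟩ : ∃ u ∈ H.fs, u * y = y * u ∧ ∃ x ∈ H.fs, x * y = y * x ∧ u * x ≠ x * u := by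
    by_contra hno
    push Not at hno
    exact absurd (H.card_fs_le hk₀ hyF hky fun g hg hgy g' hg' hgy' => hno g hg hgy g' hg' hgy') (by omega)
  obtain ⟨w, hwy, hw⟩ : ∃ w, w * y = y * w ∧ ∀ v, τ w (τ w v) = -v := by
    have hanti : ∀ v, τ u (τ x v) = -τ x (τ u v) := (H.anti_or_comm hu hx).resolve_left hux
    rcases (hsq u hu).2 with h1 | h1
    swap
    · exact ⟨u, huy, fun v => by rw [← apply_mul, h1]⟩
    rcases (hsq x hx).2 with h2 | h2
    swap
    · exact ⟨x, hxy, fun v => by rw [← apply_mul, h2]⟩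
    refine ⟨u * x, ((show Commute u y from huy).mul_left (show Commute x y from hxy)).eq, fun v => ?_⟩
    rw [apply_mul, apply_mul, hanti, ← apply_mul u u, h1, ← apply_mul x x, h2]
  have hwP : ∀ v ∈ P, τ w v ∈ P := fun v hv => by
    rw [hP, hmem] at hv ⊢
    rw [← apply_mul, ← hwy, apply_mul, hv]
  obtain ⟨j, hj⟩ := even_finrank_of_sq_neg (W := P) ((τ w).restrict hwP) fun v => Subtype.ext (hw v)
  have hIP : (K ⊓ K' : Submodule (ZMod 3) V) ≤ P := fun v hv => (hmem y v).mpr (hyI v hv).1
  have hle := Submodule.finrank_mono hIP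
  by_contra hd4
  have hP4 : Module.finrank (ZMod 3) P = 4 := by omega
  have hIeq : (K ⊓ K' : Submodule (ZMod 3) V) = P := Submodule.eq_of_le_of_finrank_le hIP (by omega)
  set y' := b * y * b⁻¹ with hy'
  have hy'F : y' ∈ H.fs := H.fs_normal.conj_mem _ hyF b
  have hy'z : y' ∉ H.zs := fun h' => hyz (by
    have := H.zs_normal.conj_mem _ h' b⁻¹
    simpa [hy', mul_assoc] using this)
  have hy'2 : y' * y' = 1 := by
    rw [hy', show b * y * b⁻¹ * (b * y * b⁻¹) = b * (y * y) * b⁻¹ by group, hy2]; group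
  have hfix : ∀ v ∈ P, τ y' v = v := by
    intro v hv
    rw [← hIeq] at hv
    obtain ⟨h1, h2⟩ := hyI v hv
    have h3' : τ b⁻¹ v = v := by conv_lhs => rw [← h2, apply_inv]
    rw [hy', apply_mul, apply_mul, h3', h1, h2]
  have hhalf' := H.halves hy'F hy'z hy'2
  have hPle' : P ≤ LinearMap.ker (τ y' - 1) := fun v hv => (hmem y' v).mpr (hfix v hv)
  have hP' : P = LinearMap.ker (τ y' - 1) := Submodule.eq_of_le_of_finrank_le hPle' (by omega)
  have hcomm : y' * y = y * y' := by
    rcases H.anti_or_comm hy'F hyF with h' | h'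
    · exact h'
    exfalso
    obtain ⟨v, hv, hv0⟩ := Submodule.exists_mem_ne_zero_of_ne_bot (p := P) (fun e => by
      rw [e, finrank_bot] at hP4; omega)
    have h1 := h' v
    rw [(hmem y v).mp hv, hfix v hv, (hmem y v).mp hv] at h1
    have e2 := split v v
    rw [sub_self, neg_zero, add_zero, show -(v + v) = -v + -v from neg_add v v, ← h1, ← sub_eq_zero,
      show v - (v + v) = -v by abel, neg_eq_zero] at e2
    exact hv0 e2
  have heq : y' = y := H.toRank2.eq_of_apply fun v => by
    have hyy : ∀ v, τ y (τ y v) = v := fun v => by rw [← apply_mul, hy2, apply_one]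
    rw [split v (τ y v), map_add, map_add]
    congr 1
    · have hp : -(v + τ y v) ∈ P := (hmem y _).mpr (by rw [map_neg, map_add, hyy, add_comm])
      rw [hfix _ hp, (hmem y _).mp hp]
    · set m := -(v - τ y v) with hm
      have hym : τ y m = -m := by rw [hm, map_neg, map_sub, hyy]; abel
      have hmem' : m + τ y' m ∈ P := by
        rw [hP', hmem, map_add, ← apply_mul, hy'2, apply_one, add_comm]
      have h2 : τ y (m + τ y' m) = -(m + τ y' m) := by
        rw [map_add, hym, ← apply_mul, ← hcomm, apply_mul, hym, map_neg, neg_add]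
      rw [(hmem y _).mp hmem'] at h2
      set s := m + τ y' m
      have e2 := split s s
      rw [sub_self, neg_zero, add_zero, show -(s + s) = -s + -s from neg_add s s, ← h2, ← sub_eq_zero,
        show s - (s + s) = -s by abel, neg_eq_zero] at e2
      rw [hym]
      exact eq_neg_of_add_eq_zero_right e2
  refine hyz ?_
  have hyb : Commute y b := by
    show y * b = b * y
    calc y * b = y' * b := by rw [heq]
      _ = b * y := by rw [hy']; group
  have h3' : (y * b) ^ 3 = 1 := by
    rw [show y * b = f * b * f⁻¹ by rw [hy, commutatorElement_def]; group,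
      show (f * b * f⁻¹) ^ 3 = f * b ^ 3 * f⁻¹ from conj_pow, H.b_cube]
    group
  rw [hyb.mul_pow, H.b_cube, mul_one, pow_succ, pow_two, hy2, one_mul] at h3'
  rw [h3']
  exact H.zs.one_mem

/-- The scalars of `H.fs`. -/
def fz (H : Scalar τ R b Q) : Subgroup H.fs := H.zs.subgroupOf H.fs

instance fz_normal (H : Scalar τ R b Q) : H.fz.Normal := by
  haveI := H.zs_normal
  exact Subgroup.Normal.subgroupOf inferInstance _

/-- The action on `H.fs` modulo scalars. -/
def act (H : Scalar τ R b Q) : L →* MulAut (H.fs ⧸ H.fz) :=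
  haveI := H.fs_normal
  have hmap : ∀ g : L, (H.fz).map (MulAut.conjNormal (H := H.fs) g).toMonoidHom = H.fz := fun g => by
    have key : ∀ (g : L) (x : H.fs), x ∈ H.fz → (MulAut.conjNormal (H := H.fs) g) x = x := fun g x hx =>
      Subtype.ext (by rw [MulAut.conjNormal_apply, H.zs_central (z := (x : L)) hx g, mul_inv_cancel_right])
    ext x
    rw [Subgroup.mem_map]
    exact ⟨fun ⟨y, hy, he⟩ => he ▸ (key g y hy).symm ▸ hy, fun hx => ⟨x, hx, key g x hx⟩⟩
  { toFun := fun g => QuotientGroup.congr H.fz H.fz (MulAut.conjNormal g) (hmap g)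
    map_one' := MulEquiv.ext fun q => by
      obtain ⟨x, rfl⟩ := QuotientGroup.mk_surjective q
      exact congrArg QuotientGroup.mk (Subtype.ext (by simp))
    map_mul' := fun g h => MulEquiv.ext fun q => by
      obtain ⟨x, rfl⟩ := QuotientGroup.mk_surjective q
      exact congrArg QuotientGroup.mk (Subtype.ext (by simp [mul_assoc])) }

theorem act_mk (g : L) (x : H.fs) :
    H.act g (QuotientGroup.mk x) =
      QuotientGroup.mk (⟨g * x * g⁻¹, H.fs_normal.conj_mem x x.2 g⟩ : H.fs) := by
  haveI := H.fs_normal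
  exact congrArg QuotientGroup.mk (Subtype.ext (MulAut.conjNormal_apply g x))

theorem mem_fs_iff {r : L} (hr : r ∈ R) : H.act r = 1 ↔ r ∈ H.fs := by
  obtain ⟨hF', -, hR₀, -⟩ := H.fs_props
  have key : ∀ g : L, ∀ x : H.fs,
      H.act g (QuotientGroup.mk x) = QuotientGroup.mk x ↔ ⁅g, (x : L)⁆ ∈ H.zs := by
    intro g x
    rw [H.act_mk, QuotientGroup.eq]
    change _ ∈ H.zs.subgroupOf H.fs ↔ _
    rw [Subgroup.mem_subgroupOf]
    have e : ((⟨g * x * g⁻¹, H.fs_normal.conj_mem x x.2 g⟩ : H.fs)⁻¹ * x : L) = (x : L)⁻¹ * ⁅g, (x : L)⁆⁻¹ * x := by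
      simp [commutatorElement_def, mul_assoc]
    rw [Subgroup.coe_mul] at *
    rw [e]
    refine ⟨fun h => ?_, fun h => ?_⟩
    · have := H.zs.inv_mem (H.zs_normal.conj_mem _ h (x : L))
      simpa [mul_assoc] using this
    · have := H.zs_normal.conj_mem _ (H.zs.inv_mem h) (x : L)⁻¹
      simpa [mul_assoc] using this
  refine ⟨fun h => hR₀ r hr fun f hf => (key r ⟨f, hf⟩).mp (by rw [h]; rfl), fun h => MulEquiv.ext fun q => ?_⟩
  obtain ⟨x, rfl⟩ := QuotientGroup.mk_surjective q
  exact (key r x).mpr (hF' r h x x.2)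

theorem card_quot_le : Nat.card (H.fs ⧸ H.fz) ≤ Module.finrank (ZMod 3) V * Module.finrank (ZMod 3) V := by
  classical
  let ρc : Representation (ZMod 3) L (Module.End (ZMod 3) V) :=
    { toFun := fun g =>
        { toFun := fun φ => τ g * φ * τ g⁻¹
          map_add' := fun φ ψ => by rw [mul_add, add_mul]
          map_smul' := fun k φ => by rw [Algebra.mul_smul_comm, Algebra.smul_mul_assoc]; rfl }
      map_one' := LinearMap.ext fun φ => by
        show τ 1 * φ * τ 1⁻¹ = φ
        rw [inv_one, map_one, one_mul, mul_one]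
      map_mul' := fun g h => LinearMap.ext fun φ => by
        show τ (g * h) * φ * τ (g * h)⁻¹ = τ g * (τ h * φ * τ h⁻¹) * τ g⁻¹
        rw [mul_inv_rev, map_mul, map_mul]
        simp only [mul_assoc] }
  set cw' : H.fs → (H.fs → ZMod 3) := fun f a => if (a : L) * f = f * a then 1 else -1
  have hwt : ∀ f : H.fs, τ (f : L) ∈ wt ρc H.fs (cw' f) := by
    intro f a
    show τ (a : L) * τ (f : L) * τ (a : L)⁻¹ = _
    rw [← map_mul, ← map_mul]
    by_cases h : (a : L) * f = f * a
    · simp only [cw', if_pos h, one_smul]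
      rw [h, mul_inv_cancel_right]
    · simp only [cw', if_neg h, neg_one_smul]
      refine LinearMap.ext fun v => ?_
      have hanti := (H.anti_or_comm a.2 f.2).resolve_left h
      rw [apply_mul, apply_mul, hanti, LinearMap.neg_apply, apply_inv']
  let ι := {c : H.fs → ZMod 3 // wt ρc H.fs c ≠ ⊥}
  have hne : ∀ f : H.fs, wt ρc H.fs (cw' f) ≠ ⊥ := fun f e => by
    have h := hwt f
    rw [e, Submodule.mem_bot] at h
    have h1 : τ (f : L) * τ (f : L)⁻¹ = 1 := by rw [← map_mul, mul_inv_cancel, map_one]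
    rw [h, zero_mul] at h1
    have : Subsingleton V := ⟨fun a c => by
      have ha := LinearMap.congr_fun h1 a
      have hc := LinearMap.congr_fun h1 c
      simp only [LinearMap.zero_apply, Module.End.one_apply] at ha hc
      rw [← ha, ← hc]⟩
    have := Module.finrank_zero_of_subsingleton (R := ZMod 3) (M := V)
    have := H.four.three_le_finrank
    omega
  have hinj : Function.Injective (fun q : H.fs ⧸ H.fz => (⟨cw' q.out, hne q.out⟩ : ι)) := by
    intro q q' h
    have h' : cw' q.out = cw' q'.out := congrArg Subtype.val h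
    rw [← QuotientGroup.out_eq' q, ← QuotientGroup.out_eq' q', QuotientGroup.eq]
    change _ ∈ H.zs.subgroupOf H.fs
    rw [Subgroup.mem_subgroupOf]
    refine H.fs_props.2.2.2 _ (H.fs_le (SetLike.coe_mem _)) fun a ha => ?_
    have ha' := congrFun h' ⟨a, ha⟩
    simp only [cw'] at ha'
    refine H.toRank2.eq_of_apply fun v => ?_
    set f : L := ((q.out : H.fs) : L)
    set g : L := ((q'.out : H.fs) : L)
    show τ (f⁻¹ * g * a) v = τ (a * (f⁻¹ * g)) v
    by_cases hf : a * f = f * a <;> by_cases hg : a * g = g * a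
    · rw [((show Commute a f from hf).inv_right.mul_right (show Commute a g from hg)).eq]
    · rw [if_pos hf, if_neg hg] at ha'; exact absurd ha' (by decide)
    · rw [if_neg hf, if_pos hg] at ha'; exact absurd ha' (by decide)
    · have hf' := (H.anti_or_comm ha q.out.2).resolve_left hf
      have hg' := (H.anti_or_comm ha q'.out.2).resolve_left hg
      have hi : ∀ u, τ a (τ f⁻¹ u) = -τ f⁻¹ (τ a u) := fun u => by
        have h0 := congrArg (τ f⁻¹) (hf' (τ f⁻¹ u))
        rw [apply_inv', map_neg, apply_inv] at h0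
        rw [h0, neg_neg]
      rw [apply_mul, apply_mul, apply_mul, apply_mul, hi, hg', map_neg, neg_neg]
  haveI : Fintype ι := Fintype.ofFinite ι
  choose v hv hv0 using fun c : ι => Submodule.exists_mem_ne_zero_of_ne_bot c.2
  have hli := (((iSupIndep_wt (τ := ρc) (A := H.fs)).comp
    (f := fun c : ι => c.1) Subtype.val_injective).linearIndependent _ hv hv0).fintype_card_le_finrank
  rw [Module.finrank_linearMap, ← Nat.card_eq_fintype_card] at hli
  exact (Nat.card_le_card_of_injective _ hinj).trans hli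

theorem fz_card : Nat.card H.fz = 2 := by
  obtain ⟨f, hf, g, hg, hne⟩ := H.exists_noncomm
  have hzF : ⁅f, g⁆ ∈ H.fs := by
    rw [commutatorElement_def]
    exact H.fs.mul_mem (H.fs.mul_mem (H.fs.mul_mem hf hg) (H.fs.inv_mem hf)) (H.fs.inv_mem hg)
  refine le_antisymm ((Nat.card_le_card_of_injective (fun x : H.fz => (⟨((x : H.fs) : L), x.2⟩ : H.zs))
    fun x x' h => Subtype.ext (Subtype.ext (congrArg (fun z : H.zs => (z : L)) h))).trans H.zs_card) ?_
  rw [Nat.succ_le_iff, Finite.one_lt_card_iff_nontrivial, Subgroup.nontrivial_iff_exists_ne_one]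
  exact ⟨⟨⁅f, g⁆, hzF⟩, H.fs_props.1 f hf g hg,
    fun e => hne (commutatorElement_eq_one_iff_mul_comm.mp (congrArg Subtype.val e))⟩

theorem le_fs_all : R ≤ H.fs := by
  classical
  haveI : Fact (Nat.Prime 2) := ⟨Nat.prime_two⟩
  have hXp : IsPGroup 2 (H.fs ⧸ H.fz) := H.fs_pgroup.to_quotient H.fz
  obtain ⟨n, hn⟩ := IsPGroup.iff_card.mp hXp
  have hFcard : Nat.card H.fs = 2 ^ n * 2 := by
    rw [Subgroup.card_eq_card_quotient_mul_card_subgroup H.fz, hn, H.fz_card]
  have hd : 3 ≤ n → Module.finrank (ZMod 3) V = 4 := fun h => H.dim_four (by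
    rw [hFcard]
    calc 8 < 2 ^ 3 * 2 := by norm_num
      _ ≤ 2 ^ n * 2 := Nat.mul_le_mul_right 2 (Nat.pow_le_pow_right (by norm_num) h))
  have hn4 : n ≤ 4 := by
    by_contra h
    have h16 := H.card_quot_le
    rw [hd (by omega), hn] at h16
    have : 2 ^ 5 ≤ 2 ^ n := Nat.pow_le_pow_right (by norm_num) (by omega)
    omega
  set G := R.map H.act with hG
  haveI := H.normal
  have hsol : Group.IsSolvable G := by
    haveI := H.solvable
    exact Group.isSolvable_of_surjective (f := H.act.subgroupMap R) (MonoidHom.subgroupMap_surjective _ _)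
  have h2 : ∀ N : Subgroup (MulAut (H.fs ⧸ H.fz)), N ≤ G →
      G ≤ Subgroup.normalizer (N : Set (MulAut (H.fs ⧸ H.fz))) → IsPGroup 2 N → N = ⊥ := by
    intro N hNG hGN hN2
    set N' : Subgroup R := (N.comap H.act).subgroupOf R with hN'
    haveI : N'.Normal := ⟨fun x hx g => by
      show H.act ((g : L) * x * (g : L)⁻¹) ∈ N
      rw [map_mul, map_mul, map_inv]
      exact (Subgroup.mem_normalizer_iff.mp (hGN (Subgroup.mem_map_of_mem _ g.2)) _).mp hx⟩
    have hN'2 : IsPGroup 2 N' := by
      intro x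
      obtain ⟨k, hk⟩ := hN2 ⟨H.act (x : R), x.2⟩
      have hxF : ((x : R) : L) ^ 2 ^ k ∈ H.fs := (H.mem_fs_iff (R.pow_mem (x : R).2 _)).mp (by
        rw [map_pow]; exact congrArg Subtype.val hk)
      obtain ⟨j, hj⟩ := H.fs_pgroup ⟨_, hxF⟩
      refine ⟨k + j, Subtype.ext (Subtype.ext ?_)⟩
      have := congrArg Subtype.val hj
      simp only [SubmonoidClass.coe_pow, OneMemClass.coe_one] at this ⊢
      rw [pow_add, pow_mul]; exact this
    haveI : (Cfsg.pCore 2 R).Characteristic := Subgroup.characteristic_iff_map_le.mpr fun φ => by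
      haveI : ((Cfsg.pCore 2 R).map φ.toMonoidHom).Normal :=
        Subgroup.Normal.map inferInstance _ φ.surjective
      exact CfsgLib.Solvable.Cores.le_pCore ((CfsgLib.Solvable.Cores.isPGroup_pCore 2).map _)
    set O := (Cfsg.pCore 2 R).map R.subtype
    have hOF : O ≤ H.fs := H.le_fs ConjAct.normal_of_characteristic_of_normal
      ((CfsgLib.Solvable.Cores.isPGroup_pCore 2).map _)
    rw [Subgroup.eq_bot_iff_forall]
    intro g hg
    obtain ⟨r, hr, rfl⟩ := hNG hg
    exact (H.mem_fs_iff hr).mpr (hOF ⟨⟨r, hr⟩, CfsgLib.Solvable.Cores.le_pCore hN'2 hg, rfl⟩)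
  have hp : ∀ q : ℕ, q.Prime → q ∣ Nat.card G → q = 2 ∨ q = 5 := by
    intro q hq hqG
    by_contra hq'
    push Not at hq'
    haveI := Fact.mk hq
    obtain ⟨⟨m, hm⟩, hmo⟩ := exists_prime_orderOf_dvd_card' q hqG
    obtain ⟨r, hr, rfl⟩ := hm
    rw [← Subgroup.orderOf_coe] at hmo
    have hqr : q ∣ orderOf r := hmo ▸ orderOf_map_dvd H.act r
    have ho := orderOf_pow_orderOf_div (orderOf_pos r).ne' hqr
    set r' := r ^ (orderOf r / q)
    have hq3 : q ≠ 3 := by
      rintro rfl
      have h3 : 3 ∣ Nat.gcd (Nat.card R) 3 := Nat.dvd_gcd (hqr.trans (Subgroup.orderOf_dvd_natCard R hr)) dvd_rfl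
      rw [H.coprime] at h3
      norm_num at h3
    have hq5 : 5 ≤ q := by
      by_contra hlt
      push Not at hlt
      interval_cases q <;>
        first | (exact absurd rfl hq'.1) | (exact absurd rfl hq3) | (exact absurd hq (by norm_num))
    have hmo' : orderOf (H.act r) = q := hmo
    obtain ⟨hn3, -, h57⟩ := prime_of_aut hq5 hn hn4 (H.act r) (hmo' ▸ pow_orderOf_eq_one _)
      (fun e => by rw [e, orderOf_one] at hmo'; exact hq.ne_one hmo'.symm)
    obtain ⟨-, h513⟩ := prime_of_linear hq5 (τ r') (by rw [← map_pow, ← ho, pow_orderOf_eq_one, map_one])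
      (fun e => by
        have : r' = 1 := H.faithful (by rw [e, map_one])
        rw [this, orderOf_one] at ho
        exact hq.ne_one ho.symm)
    rcases h57 with h | h <;> rcases h513 (hd hn3).le with h' | h' <;> omega
  have hβ3 : H.act b ^ 3 = 1 := by rw [← map_pow, H.b_cube, map_one]
  have hβ : H.act b ∈ Subgroup.normalizer (G : Set (MulAut (H.fs ⧸ H.fz))) := by
    rw [Subgroup.mem_normalizer_iff]
    refine fun x => ⟨?_, fun hx => ?_⟩
    · rintro ⟨r, hr, rfl⟩
      exact ⟨b * r * b⁻¹, H.normal.conj_mem r hr b, by rw [map_mul, map_mul, map_inv]⟩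
    · obtain ⟨r, hr, e⟩ := hx
      exact ⟨b⁻¹ * r * b, by simpa using H.normal.conj_mem r hr b⁻¹, by
        rw [map_mul, map_mul, e, map_inv]; group⟩
  have hcomm := commute_of_small hn hn4 G hsol h2 hp (H.act b) hβ3 hβ
  have hker : ⁅R, Subgroup.zpowers b⁆ ≤ R ⊓ (H.act).ker := by
    refine le_inf ?_ ?_
    · exact H.idem.le
    · rw [Subgroup.commutator_le]
      rintro r hr z hz
      obtain ⟨k, rfl⟩ := Subgroup.mem_zpowers_iff.mp hz
      rw [MonoidHom.mem_ker, map_commutatorElement, map_zpow, commutatorElement_eq_one_iff_mul_comm]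
      exact ((show Commute (H.act b) (H.act r) from hcomm _ (Subgroup.mem_map_of_mem _ hr)).zpow_left k).eq.symm
  rw [H.idem] at hker
  exact fun r hr => (H.mem_fs_iff hr).mp (hker hr).2

theorem false_of_scalar : False := by
  obtain ⟨hF', -, -, -⟩ := H.fs_props
  have hR := H.le_fs_all
  haveI := H.zs_normal
  set A := Q ⊔ H.zs with hA
  have hmem : ∀ a ∈ A, ∃ q ∈ Q, ∃ z ∈ H.zs, a = q * z := fun a ha => by
    obtain ⟨q, hq, z, hz, rfl⟩ := Subgroup.mem_sup_of_normal_right.mp ha
    exact ⟨q, hq, z, hz, rfl⟩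
  have hbn : ∀ g ∈ R, ∀ a ∈ A, g * a * g⁻¹ ∈ A := by
    intro g hg a ha
    obtain ⟨q, hq, z, hz, rfl⟩ := hmem a ha
    rw [show g * (q * z) * g⁻¹ = ⁅g, q⁆ * q * (g * z * g⁻¹) by rw [commutatorElement_def]; group]
    exact A.mul_mem (A.mul_mem (Subgroup.mem_sup_right (hF' g (hR hg) q (hR (H.leQ hq))))
      (Subgroup.mem_sup_left hq)) (Subgroup.mem_sup_right (H.zs_normal.conj_mem z hz g))
  have hAR : A ≤ R := sup_le H.leQ H.zs_le
  have hRn : R ≤ Subgroup.normalizer (A : Set L) := fun g hg => by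
    rw [Subgroup.mem_normalizer_iff]
    refine fun a => ⟨hbn g hg a, fun h => ?_⟩
    simpa [mul_assoc] using hbn g⁻¹ (R.inv_mem hg) _ h
  have hb : b ∈ Subgroup.normalizer (A : Set L) := by
    have key : ∀ g : L, g ∈ Subgroup.normalizer (Q : Set L) → ∀ a ∈ A, g * a * g⁻¹ ∈ A := by
      intro g hg a ha
      obtain ⟨q, hq, z, hz, rfl⟩ := hmem a ha
      rw [show g * (q * z) * g⁻¹ = g * q * g⁻¹ * (g * z * g⁻¹) by group]
      exact A.mul_mem (Subgroup.mem_sup_left ((Subgroup.mem_normalizer_iff.mp hg q).mp hq))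
        (Subgroup.mem_sup_right (H.zs_normal.conj_mem z hz g))
    rw [Subgroup.mem_normalizer_iff]
    refine fun a => ⟨key b H.four.norm a, fun h => ?_⟩
    simpa [mul_assoc] using key b⁻¹ ((Subgroup.normalizer (Q : Set L)).inv_mem H.four.norm) _ h
  have hAn : A.Normal := Subgroup.normalizer_eq_top_iff.mp (H.toRank2.eq_top_of_le hRn hb)
  have hAc : ∀ a ∈ A, ∀ c ∈ A, a * c = c * a ∧ a * a = 1 := by
    intro a ha c hc
    obtain ⟨q, hq, z, hz, rfl⟩ := hmem a ha
    obtain ⟨q', hq', z', hz', rfl⟩ := hmem c hc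
    have h1 : Commute q q' := congrArg Subtype.val (H.four.comm.is_comm.comm ⟨q, hq⟩ ⟨q', hq'⟩)
    have h2 : ∀ g, Commute g z := fun g => H.zs_central hz g
    have h3 : ∀ g, Commute g z' := fun g => H.zs_central hz' g
    refine ⟨((h1.mul_right (h3 q)).mul_left ((h2 q').symm.mul_right (h3 z))).eq, ?_⟩
    rw [← pow_two, (h2 q).mul_pow, H.four.sq q hq, one_mul, pow_two, H.zs_sq hz]
  obtain ⟨q, hq, hq1, -⟩ := H.four.exists_pair Q.one_mem
  refine hq1 (H.four.fpf q hq ?_)
  exact H.central A hAn hAR ⟨⟨fun a c => Subtype.ext (hAc a a.2 c c.2).1⟩⟩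
    (fun a ha => (pow_two a).trans (hAc a ha a ha).2) q (Subgroup.mem_sup_left hq)

end Scalar

end CfsgLib.Solvable.RankTwoUnipotent
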