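import Cfsg.Agent.Lib.Solvable.RankTwoUnipotent.MonomialEnd
import Cfsg.Agent.Lib.Solvable.RankTwoUnipotent.ScalarEnd
import Cfsg.Agent.Lib.ThreeTransp.Simplicity
import Cfsg.Agent.Lib.Components.PComponents

/-!
A solvable group in characteristic three with an element of order three having one Jordan block of size three,
normalizing a four-group: the structure of `[O_{3'}(S),B]` and of the module.
-/

set_option autoImplicit false
set_option linter.unusedSectionVars false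

open scoped commutatorElement

namespace CfsgLib.Solvable.RankTwoUnipotent

theorem concl_core {L : Type*} [Group L] [Finite L] {V : Type*} [AddCommGroup V] [Module (ZMod 3) V] [Finite V]
    {τ : Representation (ZMod 3) L V} {R Q : Subgroup L} {b : L} (H : Rank2 τ R b) (hL : Group.IsSolvable L)
    (D : Four τ Q b) (hQR : Q ≤ R) : Concl R := by
  by_cases h : ∀ A : Subgroup L, A.Normal → A ≤ R → IsMulCommutative A → (∀ a ∈ A, a ^ 2 = 1) →
      ∀ a ∈ A, b * a = a * b
  · exact (Scalar.false_of_scalar ⟨H, hL, D, hQR, h⟩).elim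
  · push Not at h
    obtain ⟨A, hn, hle, hc, hsq, hmv⟩ := h
    exact concl_of_mono (A := A) ⟨H, hL, hn, hle, hc, hsq, hmv⟩

theorem concl_map {L : Type*} [Group L] [Finite L] {S : Type*} [Group S] [Finite S] (f : L →* S)
    (hf : Function.Injective f) {R : Subgroup L} (h : Concl R) : Concl (R.map f) := by
  have helem : ∀ A : Subgroup L, Cfsg.IsElementaryAbelian 2 A → Cfsg.IsElementaryAbelian 2 (A.map f) := by
    rintro A ⟨hc, hsq⟩
    refine ⟨⟨⟨?_⟩⟩, ?_⟩
    · rintro ⟨_, a, ha, rfl⟩ ⟨_, a', ha', rfl⟩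
      exact Subtype.ext (by
        show f a * f a' = f a' * f a
        rw [← map_mul, ← map_mul]
        exact congrArg f (congrArg Subtype.val (hc.is_comm.comm ⟨a, ha⟩ ⟨a', ha'⟩)))
    · rintro _ ⟨a, ha, rfl⟩
      rw [← map_pow, hsq a ha, map_one]
  rcases h with ⟨h1, h2⟩ | ⟨h1, h2, A, hA, hA', h8⟩
  · exact Or.inl ⟨helem R h1, by rw [Subgroup.card_map_of_injective hf, h2]⟩
  · exact Or.inr ⟨CfsgLib.ThreeTransp.Simplicity.isExtraspecial_of_equiv (R.equivMapOfInjective f hf) h1,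
      by rw [Subgroup.card_map_of_injective hf, h2], A.map f, Subgroup.map_mono hA, helem A hA',
      by rw [Subgroup.card_map_of_injective hf, h8]⟩

section Ambient

variable {S : Type*} [Group S] {E : Type*} [AddCommGroup E] [Module (ZMod 3) E]

/-- The elements moving every vector inside `N`. -/
def mover (ρ : Representation (ZMod 3) S E) (N : Submodule (ZMod 3) E) : Subgroup S where
  carrier := {g | ∀ w, ρ g w - w ∈ N}
  one_mem' w := by rw [apply_one, sub_self]; exact N.zero_mem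
  mul_mem' := fun {g h} hg hh w => by
    rw [apply_mul, ← sub_add_sub_cancel (ρ g (ρ h w)) (ρ h w) w]
    exact N.add_mem (hg _) (hh w)
  inv_mem' := fun {g} hg w => by
    have := N.neg_mem (hg (ρ g⁻¹ w))
    rwa [apply_inv', neg_sub] at this

/-- The elements fixing `N` pointwise. -/
def fixer (ρ : Representation (ZMod 3) S E) (N : Submodule (ZMod 3) E) : Subgroup S where
  carrier := {g | ∀ w ∈ N, ρ g w = w}
  one_mem' w _ := apply_one w
  mul_mem' := fun {g h} hg hh w hw => by rw [apply_mul, hh w hw, hg w hw]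
  inv_mem' := fun {g} hg w hw => by
    conv_lhs => rw [← hg w hw]
    rw [apply_inv]

theorem commutator_le_mover (ρ : Representation (ZMod 3) S E) {N : Submodule (ZMod 3) E} {R B : Subgroup S}
    (hR : ∀ r ∈ R, ∀ v ∈ N, ρ r v ∈ N) (hB : B ≤ mover ρ N) : ⁅R, B⁆ ≤ mover ρ N := by
  rw [Subgroup.commutator_le]
  intro r hr x hx w
  rw [commutatorElement_def, apply_mul, apply_mul, apply_mul]
  generalize hu : ρ r⁻¹ (ρ x⁻¹ w) = u
  have h1 : ρ r u = ρ x⁻¹ w := by rw [← hu, apply_inv']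
  have h2 : ρ r (ρ x u) - w = ρ r (ρ x u - u) + (ρ x⁻¹ w - w) := by rw [map_sub, h1]; abel
  rw [h2]
  exact N.add_mem (hR r hr _ (hB hx u)) (hB (B.inv_mem hx) w)

theorem commutator_le_fixer (ρ : Representation (ZMod 3) S E) {N : Submodule (ZMod 3) E} {R B : Subgroup S}
    (hR : ∀ r ∈ R, ∀ v ∈ N, ρ r v ∈ N) (hB : B ≤ fixer ρ N) : ⁅R, B⁆ ≤ fixer ρ N := by
  rw [Subgroup.commutator_le]
  intro r hr x hx w hw
  rw [commutatorElement_def, apply_mul, apply_mul, apply_mul, hB (B.inv_mem hx) w hw,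
    hB hx _ (hR _ (R.inv_mem hr) w hw), apply_inv']

variable [Finite S] [Finite E]

/-- The four-group lies in `[O_{3'}(S),B]`. -/
theorem four_le_commutator [Group.IsSolvable S] {Q B : Subgroup S} {b : S} (hb : Subgroup.zpowers b = B)
    (hsq : ∀ q ∈ Q, q ^ 2 = 1) (hn : b ∈ Subgroup.normalizer (Q : Set S))
    (hfpf : ∀ q ∈ Q, b * q = q * b → q = 1) (P : Sylow 3 S)
    (hbP : ∃ z : (P : Subgroup S), z ∈ Subgroup.center ↥(P : Subgroup S) ∧ (z : S) = b) :
    Q ≤ ⁅Cfsg.pPrimeCore 3 S, B⁆ := by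
  haveI : Fact (Nat.Prime 3) := ⟨Nat.prime_three⟩
  set H := Cfsg.pPrimeCore 3 S with hH
  set π := QuotientGroup.mk' H with hπ
  set F := Cfsg.pCore 3 (S ⧸ H) with hF
  have hsurj : Function.Surjective π := QuotientGroup.mk'_surjective H
  have hcen : Subgroup.centralizer (F : Set (S ⧸ H)) ≤ F := by
    rw [hF, ← Cores.fittingSubgroup_eq_pCore 3 Components.pPrimeCore_quotient_eq_bot]
    exact Cores.centralizer_fittingSubgroup_le
  obtain ⟨z, hz, hzb⟩ := hbP
  have hbF : π b ∈ F := by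
    refine hcen (Subgroup.mem_centralizer_iff.mpr fun y hy => ?_)
    have hy' : y ∈ (P : Subgroup S).map π := Cores.pCore_le_sylow (P.mapSurjective hsurj) hy
    obtain ⟨p, hp, rfl⟩ := hy'
    rw [← map_mul, ← map_mul, ← hzb]
    exact congrArg π (congrArg Subtype.val (Subgroup.mem_center_iff.mp hz ⟨p, hp⟩))
  have hbq : ∀ q ∈ Q, b * q * b⁻¹ * q⁻¹ ∈ Q := fun q hq =>
    Q.mul_mem ((Subgroup.mem_normalizer_iff.mp hn q).mp hq) (Q.inv_mem hq)
  have hmem : ∀ q ∈ Q, b * q * b⁻¹ * q⁻¹ ∈ H := by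
    intro q hq
    rw [← QuotientGroup.eq_one_iff, ← QuotientGroup.mk'_apply, ← hπ]
    have hin : π (b * q * b⁻¹ * q⁻¹) ∈ F := by
      rw [show π (b * q * b⁻¹ * q⁻¹) = π b * (π q * (π b)⁻¹ * (π q)⁻¹) by simp [mul_assoc]]
      exact F.mul_mem hbF ((inferInstance : F.Normal).conj_mem _ (F.inv_mem hbF) _)
    have h2 : π (b * q * b⁻¹ * q⁻¹) ^ 2 = 1 := by rw [← map_pow, hsq _ (hbq q hq), map_one]
    obtain ⟨k, hk⟩ := Cores.isPGroup_pCore 3 (G := S ⧸ H) ⟨_, hin⟩
    have hk' : π (b * q * b⁻¹ * q⁻¹) ^ (3 ^ k) = 1 := congrArg Subtype.val hk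
    refine orderOf_eq_one_iff.mp (Nat.dvd_one.mp ?_)
    rw [← (Nat.Coprime.pow_right k (by norm_num : Nat.Coprime 2 3) : Nat.gcd 2 (3 ^ k) = 1)]
    exact Nat.dvd_gcd (orderOf_dvd_of_pow_eq_one h2) (orderOf_dvd_of_pow_eq_one hk')
  have hinj : Function.Injective (fun q : Q => (⟨b * q * b⁻¹ * (q : S)⁻¹, hbq q q.2⟩ : Q)) := by
    intro q q' h
    have h' : b * (q : S) * b⁻¹ * (q : S)⁻¹ = b * q' * b⁻¹ * (q' : S)⁻¹ := congrArg Subtype.val h
    have hfix : b * ((q' : S)⁻¹ * q) = (q' : S)⁻¹ * q * b := by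
      calc b * ((q' : S)⁻¹ * q) = (b * (q' : S) * b⁻¹ * (q' : S)⁻¹ * q')⁻¹ *
            (b * (q : S) * b⁻¹ * (q : S)⁻¹ * q) * b := by group
        _ = (b * (q' : S) * b⁻¹ * (q' : S)⁻¹ * q')⁻¹ * (b * q' * b⁻¹ * (q' : S)⁻¹ * q) * b := by rw [h']
        _ = (q' : S)⁻¹ * q * b := by group
    exact Subtype.ext (inv_mul_eq_one.mp (hfpf _ (Q.mul_mem (Q.inv_mem q'.2) q.2) hfix)).symm
  have hs := Finite.surjective_of_injective hinj
  have hQH : Q ≤ H := fun x hx => by
    obtain ⟨q, hq⟩ := hs ⟨x, hx⟩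
    have := hmem q q.2
    rwa [show b * (q : S) * b⁻¹ * (q : S)⁻¹ = x from congrArg Subtype.val hq] at this
  intro x hx
  obtain ⟨q, hq⟩ := hs ⟨x, hx⟩
  rw [← show b * (q : S) * b⁻¹ * (q : S)⁻¹ = x from congrArg Subtype.val hq, ← commutatorElement_def,
    Subgroup.commutator_comm]
  exact Subgroup.commutator_mem_commutator (hb ▸ Subgroup.mem_zpowers b) (hQH q.2)

/-- An element of order three normalizing but not centralizing a four-group fixes no involution in it. -/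
theorem fpf_of_four {Q : Subgroup S} {b : S} (hb3 : b ^ 3 = 1) (hsq : ∀ q ∈ Q, q ^ 2 = 1)
    (h4 : Nat.card Q = 4) (hn : b ∈ Subgroup.normalizer (Q : Set S))
    (hnc : b ∉ Subgroup.centralizer (Q : Set S)) : ∀ q ∈ Q, b * q = q * b → q = 1 := by
  classical
  haveI := Fintype.ofFinite Q
  intro q hq hbq
  by_contra hq1
  refine hnc (Subgroup.mem_centralizer_iff.mpr fun x hx => ?_)
  by_cases hx1 : x = 1
  · rw [hx1, one_mul, mul_one]
  by_cases hxq : x = q
  · rw [hxq, hbq]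
  have hqq : q * q = 1 := (pow_two q).symm.trans (hsq q hq)
  have h4' : ({1, ⟨q, hq⟩, ⟨x, hx⟩, ⟨q * x, Q.mul_mem hq hx⟩} : Finset Q) = Finset.univ := by
    refine Finset.eq_univ_of_card _ ?_
    rw [← Nat.card_eq_fintype_card, h4, Finset.card_insert_of_notMem, Finset.card_insert_of_notMem,
      Finset.card_pair]
    · simp only [ne_eq, Subtype.mk.injEq]
      exact fun e => hq1 (right_eq_mul.mp e)
    · simp only [Finset.mem_insert, Finset.mem_singleton, not_or, Subtype.mk.injEq]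
      exact ⟨Ne.symm hxq, fun e => hx1 (left_eq_mul.mp e)⟩
    · simp only [Finset.mem_insert, Finset.mem_singleton, not_or, Subtype.ext_iff, Subgroup.coe_one]
      refine ⟨Ne.symm hq1, Ne.symm hx1, fun e => hxq ?_⟩
      rw [← mul_one q, e, ← mul_assoc, hqq, one_mul]
  have hm := h4' ▸ Finset.mem_univ (⟨b * x * b⁻¹, (Subgroup.mem_normalizer_iff.mp hn x).mp hx⟩ : Q)
  simp only [Finset.mem_insert, Finset.mem_singleton, Subtype.ext_iff, Subgroup.coe_one] at hm
  rcases hm with e | e | e | e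
  · exact absurd (conj_eq_one_iff.mp e) hx1
  · refine absurd ?_ hxq
    calc x = b⁻¹ * (b * x * b⁻¹) * b := by group
      _ = b⁻¹ * (b * q) := by rw [e, hbq, mul_assoc]
      _ = q := by group
  · calc x * b = b * x * b⁻¹ * b := by rw [e]
      _ = b * x := by group
  · have hq' : b * q * b⁻¹ = q := by rw [hbq]; group
    have e2 : b * (b * x * b⁻¹) * b⁻¹ = x := by
      calc b * (b * x * b⁻¹) * b⁻¹ = b * (q * x) * b⁻¹ := by rw [e]
        _ = b * q * b⁻¹ * (b * x * b⁻¹) := by group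
        _ = x := by rw [hq', e, ← mul_assoc, hqq, one_mul]
    have e3 : x = b * x * b⁻¹ :=
      calc x = b ^ 3 * x * (b ^ 3)⁻¹ := by rw [hb3]; group
        _ = b * (b * (b * x * b⁻¹) * b⁻¹) * b⁻¹ := by rw [pow_succ, pow_two]; group
        _ = b * x * b⁻¹ := by rw [e2]
    calc x * b = b * x * b⁻¹ * b := by rw [← e3]
      _ = b * x := by group

/-- The displacement of a single Jordan block of size three. -/
theorem rank_le_two (ρ : Representation (ZMod 3) S E) {b : S} (hb3 : b ^ 3 = 1)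
    (E₀ E₁ : Submodule (ZMod 3) E) (hE01' : E₀ ⊔ E₁ = ⊤) (hE1 : ∀ v ∈ E₁, ρ b v = v)
    (hE0inv : ∀ v ∈ E₀, ρ b v ∈ E₀) (hE0 : Nat.card ↥E₀ = 27) :
    Module.finrank (ZMod 3) (LinearMap.range (ρ b - 1)) ≤ 2 := by
  haveI : Fact (Nat.Prime 3) := ⟨Nat.prime_three⟩
  have hfr : Module.finrank (ZMod 3) E₀ = 3 := by
    have h := Module.natCard_eq_pow_finrank (K := ZMod 3) (V := E₀)
    rw [hE0, Nat.card_zmod, show (27 : ℕ) = 3 ^ 3 by norm_num] at h
    exact (Nat.pow_right_injective (by norm_num) h).symm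
  have hinv : ∀ v ∈ E₀, (ρ b - 1) v ∈ E₀ := fun v hv => E₀.sub_mem (hE0inv v hv) hv
  set φ : E₀ →ₗ[ZMod 3] E₀ := (ρ b - 1).restrict hinv with hφ
  have hle : LinearMap.range (ρ b - 1) ≤ (LinearMap.range φ).map E₀.subtype := by
    rintro _ ⟨v, rfl⟩
    obtain ⟨v₀, h₀, v₁, h₁, rfl⟩ := Submodule.mem_sup.mp (hE01' ▸ (Submodule.mem_top : v ∈ (⊤ : Submodule (ZMod 3) E)))
    refine ⟨φ ⟨v₀, h₀⟩, ⟨_, rfl⟩, ?_⟩
    rw [map_add, show (ρ b - 1) v₁ = 0 from sub_eq_zero.mpr (hE1 v₁ h₁), add_zero]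
    rfl
  have hne : LinearMap.range φ ≠ ⊤ := by
    intro htop
    have hs : Function.Surjective φ := LinearMap.range_eq_top.mp htop
    have h3 : ∀ w : E, w + w + w = 0 := fun w => by
      have h : (3 : ZMod 3) • w = 0 := by rw [show (3 : ZMod 3) = 0 from rfl, zero_smul]
      rwa [show (3 : ZMod 3) = 1 + 1 + 1 from rfl, add_smul, add_smul, one_smul] at h
    have hz : ∀ x, φ (φ (φ x)) = 0 := fun x => by
      refine Subtype.ext ?_
      show ρ b (ρ b (ρ b (x : E) - x) - (ρ b x - x)) - (ρ b (ρ b (x : E) - x) - (ρ b x - x)) = 0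
      simp only [map_sub]
      have e : ρ b (ρ b (ρ b (x : E))) = x := by
        rw [← apply_mul, ← apply_mul, show b * b * b = b ^ 3 by rw [pow_succ, pow_two], hb3, apply_one]
      rw [e]
      calc _ = (ρ b (x : E) + ρ b x + ρ b x) -
            (ρ b (ρ b (x : E)) + ρ b (ρ b x) + ρ b (ρ b x)) := by abel
        _ = 0 := by rw [h3, h3, sub_zero]
    have : ∀ y : E₀, y = 0 := fun y => by
      obtain ⟨x, hx⟩ := (hs.comp (hs.comp hs)) y
      rw [← hx]; exact hz x
    haveI : Subsingleton E₀ := ⟨fun a a' => (this a).trans (this a').symm⟩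
    rw [Module.finrank_zero_of_subsingleton] at hfr
    omega
  have hlt := Submodule.finrank_lt hne
  calc Module.finrank (ZMod 3) (LinearMap.range (ρ b - 1))
      ≤ Module.finrank (ZMod 3) ((LinearMap.range φ).map E₀.subtype) := Submodule.finrank_mono hle
    _ = Module.finrank (ZMod 3) (LinearMap.range φ) := Submodule.finrank_map_subtype_eq _ _
    _ ≤ 2 := by omega

/-- The module and the structure of `R = [R,B]`. -/
theorem of_four [Group.IsSolvable S] (ρ : Representation (ZMod 3) S E) (hfaith : Function.Injective ρ)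
    {R B Q : Subgroup S} {b : S} (hb : Subgroup.zpowers b = B) (D : Four ρ Q b) (hQR : Q ≤ R)
    (hcop : (Nat.card R).Coprime 3) (hBR : B ≤ Subgroup.normalizer (R : Set S)) (hidem : ⁅R, B⁆ = R) :
    Concl R ∧ ∃ F₀ F₁ : Submodule (ZMod 3) E, F₀ ⊓ F₁ = ⊥ ∧ F₀ ⊔ F₁ = ⊤ ∧
      (∀ r ∈ R, ∀ v ∈ F₁, ρ r v = v) ∧ (∀ r ∈ R ⊔ B, ∀ v ∈ F₀, ρ r v ∈ F₀) ∧
      (∀ r ∈ R ⊔ B, (∀ v ∈ F₀, ρ r v = v) → r = 1) ∧
      (∀ N : Submodule (ZMod 3) E, N ≤ F₀ → (∀ r ∈ R ⊔ B, ∀ v ∈ N, ρ r v ∈ N) → N = ⊥ ∨ N = F₀) := by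
  classical
  haveI : Fact (Nat.Prime 3) := ⟨Nat.prime_three⟩
  haveI := Fintype.ofFinite R
  set c : ZMod 3 := (Nat.card R : ZMod 3) with hcdef
  have hc : c ≠ 0 := by
    rw [hcdef, Ne, ZMod.natCast_eq_zero_iff]
    exact fun h => by
      have := Nat.dvd_gcd h (dvd_refl 3)
      rw [hcop] at this
      norm_num at this
  set L := R ⊔ B with hL
  have hRL : R ≤ L := le_sup_left
  have hBL : B ≤ L := le_sup_right
  have hbB : b ∈ B := hb ▸ Subgroup.mem_zpowers b
  have hLn : L ≤ Subgroup.normalizer (R : Set S) := sup_le Subgroup.le_normalizer hBR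
  let σ : E →ₗ[ZMod 3] E := ∑ r : R, ρ (r : S)
  have hσ : ∀ v, σ v = ∑ r : R, ρ (r : S) v := fun v => LinearMap.sum_apply _ _ _
  set F₀ : Submodule (ZMod 3) E := LinearMap.ker σ with hF0
  set F₁ : Submodule (ZMod 3) E := ⨅ r : R, LinearMap.ker (ρ (r : S) - 1) with hF1
  have hmem1 : ∀ v, v ∈ F₁ ↔ ∀ r ∈ R, ρ r v = v := fun v => by
    simp [hF1, Submodule.mem_iInf, sub_eq_zero]
  have hσ1 : ∀ v, σ v ∈ F₁ := fun v => (hmem1 _).mpr fun s hs => by
    rw [hσ, map_sum]
    refine Fintype.sum_equiv (Equiv.mulLeft (⟨s, hs⟩ : R)) _ _ fun r => ?_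
    rw [← apply_mul]; rfl
  have hσfix : ∀ v ∈ F₁, σ v = c • v := fun v hv => by
    rw [hσ, Finset.sum_congr rfl fun (r : R) _ => (hmem1 v).mp hv (r : S) r.2, Finset.sum_const, Finset.card_univ,
      hcdef, Nat.card_eq_fintype_card, Nat.cast_smul_eq_nsmul]
  have hdis : F₀ ⊓ F₁ = ⊥ := by
    rw [eq_bot_iff]
    rintro v ⟨h0, h1⟩
    have h0' : σ v = 0 := h0
    rw [hσfix v h1, smul_eq_zero] at h0'
    exact h0'.resolve_left hc
  have hsup : F₀ ⊔ F₁ = ⊤ := by
    rw [eq_top_iff]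
    intro v _
    refine Submodule.mem_sup.mpr ⟨v - c⁻¹ • σ v, ?_, c⁻¹ • σ v, F₁.smul_mem _ (hσ1 v), sub_add_cancel _ _⟩
    show σ (v - c⁻¹ • σ v) = 0
    rw [map_sub, map_smul, hσfix _ (hσ1 v), inv_smul_smul₀ hc, sub_self]
  have hinv0 : ∀ g ∈ L, ∀ v ∈ F₀, ρ g v ∈ F₀ := by
    intro g hg v hv
    have hN := Subgroup.mem_normalizer_iff.mp (hLn hg)
    let e : R ≃ R :=
      { toFun := fun r => ⟨g⁻¹ * r * g, (hN _).mpr (by simpa [mul_assoc] using r.2)⟩
        invFun := fun r => ⟨g * r * g⁻¹, (hN r).mp r.2⟩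
        left_inv := fun r => Subtype.ext (show g * (g⁻¹ * r * g) * g⁻¹ = (r : S) by group)
        right_inv := fun r => Subtype.ext (show g⁻¹ * (g * r * g⁻¹) * g = (r : S) by group) }
    show σ (ρ g v) = 0
    have h0 : σ v = 0 := hv
    calc σ (ρ g v) = ∑ r : R, ρ g (ρ (r : S) v) := by
          rw [hσ]
          refine Fintype.sum_equiv e _ _ fun r => ?_
          rw [← apply_mul, ← apply_mul]
          exact congrArg (fun x => ρ x v) (show (r : S) * g = g * (g⁻¹ * r * g) by group)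
      _ = ρ g (σ v) := by rw [hσ, map_sum]
      _ = 0 := by rw [h0, map_zero]
  have hfix1 : L ≤ fixer ρ F₁ := sup_le (fun r hr v hv => (hmem1 v).mp hv r hr) (by
    rw [← hb, Subgroup.zpowers_le]
    exact fun v hv => D.b_fix fun q hq => (hmem1 v).mp hv q (hQR hq))
  have hfaith0 : ∀ g ∈ L, (∀ v ∈ F₀, ρ g v = v) → g = 1 := by
    intro g hg h
    refine hfaith (LinearMap.ext fun v => ?_)
    obtain ⟨v₀, h₀, v₁, h₁, rfl⟩ :=
      Submodule.mem_sup.mp (hsup ▸ (Submodule.mem_top : v ∈ (⊤ : Submodule (ZMod 3) E)))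
    rw [apply_one, map_add, h v₀ h₀, hfix1 hg v₁ h₁]
  have hirr : ∀ N : Submodule (ZMod 3) E, N ≤ F₀ → (∀ r ∈ L, ∀ v ∈ N, ρ r v ∈ N) → N = ⊥ ∨ N = F₀ := by
    intro N hN hinv
    have hRN : ∀ r ∈ R, ∀ v ∈ N, ρ r v ∈ N := fun r hr => hinv r (hRL hr)
    by_cases hmv : ∃ q ∈ Q, ∃ v ∈ N, ρ q v ≠ v
    · right
      have hr := D.range_le (fun a ha => hRN a (hQR ha)) (hinv b (hBL hbB)) hmv
      have hBm : B ≤ mover ρ N := by
        rw [← hb, Subgroup.zpowers_le]
        exact fun w => hr (sub_mem_range b w)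
      have hRm : R ≤ mover ρ N := hidem ▸ commutator_le_mover ρ hRN hBm
      refine le_antisymm hN fun v hv => ?_
      have h0 : σ v = 0 := hv
      have hcv : c • v = -∑ r : R, (ρ (r : S) v - v) := by
        rw [Finset.sum_sub_distrib, ← hσ, h0, Finset.sum_const, Finset.card_univ, zero_sub, neg_neg,
          hcdef, Nat.card_eq_fintype_card, Nat.cast_smul_eq_nsmul]
      rw [← inv_smul_smul₀ hc v, hcv]
      exact N.smul_mem _ (N.neg_mem (N.sum_mem fun r _ => hRm r.2 v))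
    · left
      push Not at hmv
      have hBf : B ≤ fixer ρ N := by
        rw [← hb, Subgroup.zpowers_le]
        exact fun v hv => D.b_fix fun q hq => hmv q hq v hv
      have hRf : R ≤ fixer ρ N := hidem ▸ commutator_le_fixer ρ hRN hBf
      rw [eq_bot_iff, ← hdis]
      exact fun v hv => ⟨hN hv, (hmem1 v).mpr fun r hr => hRf hr v hv⟩
  refine ⟨?_, F₀, F₁, hdis, hsup, fun r hr v hv => (hmem1 v).mp hv r hr, hinv0, hfaith0, hirr⟩
  let τ : Representation (ZMod 3) L F₀ :=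
    { toFun := fun g => (ρ (g : S)).restrict (hinv0 g g.2)
      map_one' := LinearMap.ext fun v => Subtype.ext (apply_one (τ := ρ) (v : E))
      map_mul' := fun g h => LinearMap.ext fun v => Subtype.ext (apply_mul (τ := ρ) (g : S) (h : S) (v : E)) }
  have hτ : ∀ (g : L) (v : F₀), ((τ g v : F₀) : E) = ρ (g : S) (v : E) := fun _ _ => rfl
  set b' : L := ⟨b, hBL hbB⟩ with hb'
  have hmapR : (R.subgroupOf L).map L.subtype = R := Subgroup.map_subgroupOf_eq_of_le hRL
  have hmapB : (Subgroup.zpowers b').map L.subtype = B := by rw [MonoidHom.map_zpowers, ← hb]; rfl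
  have hrank : Module.finrank (ZMod 3) (LinearMap.range (τ b' - 1)) ≤ 2 := by
    rw [← Submodule.finrank_map_subtype_eq F₀ (LinearMap.range (τ b' - 1))]
    refine (Submodule.finrank_mono ?_).trans D.rank
    rintro _ ⟨_, ⟨v, rfl⟩, rfl⟩
    exact ⟨(v : E), rfl⟩
  have hD : Four τ (Q.subgroupOf L) b' := by
    refine ⟨fun q _ h => ?_, ?_, fun q hq => Subtype.ext (D.sq q hq), ?_, Subtype.ext D.b_cube, ?_, ?_, hrank⟩
    · exact Subtype.ext (hfaith0 q q.2 fun v hv => congrArg Subtype.val (h ⟨v, hv⟩))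
    · refine ⟨⟨fun x y => ?_⟩⟩
      apply Subtype.ext
      apply Subtype.ext
      have h : (⟨((x : L) : S), x.2⟩ : Q) * ⟨((y : L) : S), y.2⟩ = ⟨((y : L) : S), y.2⟩ * ⟨((x : L) : S), x.2⟩ :=
        D.comm.is_comm.comm _ _
      simpa using congrArg Subtype.val h
    · rw [Nat.card_congr (Subgroup.subgroupOfEquivOfLe (hQR.trans hRL)).toEquiv, D.card]
    · rw [Subgroup.mem_normalizer_iff]
      exact fun x => Subgroup.mem_normalizer_iff.mp D.norm (x : S)
    · exact fun q hq h => Subtype.ext (D.fpf q hq (congrArg Subtype.val h))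
  have hR2 : Rank2 τ (R.subgroupOf L) b' := by
    refine ⟨?_, (Subgroup.normal_subgroupOf_iff_le_normalizer hRL).mpr hLn, ?_, Subtype.ext D.b_cube, ?_, ?_, hrank, ?_, ?_⟩
    · intro g h e
      have h1 : g⁻¹ * h = 1 := Subtype.ext (hfaith0 _ (g⁻¹ * h).2 fun v hv => by
        have := congrArg Subtype.val (DFunLike.congr_fun e ⟨v, hv⟩)
        rw [hτ, hτ] at this
        rw [Subgroup.coe_mul, Subgroup.coe_inv, apply_mul, ← this, apply_inv])
      exact inv_mul_eq_one.mp h1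
    · rwa [Nat.card_congr (Subgroup.subgroupOfEquivOfLe hRL).toEquiv]
    · refine Subgroup.map_injective L.subtype_injective ?_
      rw [Subgroup.map_sup, hmapR, hmapB, ← MonoidHom.range_eq_map, Subgroup.range_subtype]
    · refine Subgroup.map_injective L.subtype_injective ?_
      rw [Subgroup.map_commutator, hmapR, hmapB, hidem]
    · intro N hN
      rcases hirr (N.map F₀.subtype) (Submodule.map_subtype_le _ _) (by
        rintro r hr _ ⟨v, hv, rfl⟩
        exact ⟨τ ⟨r, hr⟩ v, hN _ v hv, rfl⟩) with h | h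
      · exact Or.inl (Submodule.map_injective_of_injective F₀.subtype_injective (by rw [h, Submodule.map_bot]))
      · exact Or.inr (Submodule.map_injective_of_injective F₀.subtype_injective (by
          rw [h, Submodule.map_top, Submodule.range_subtype]))
    · intro h
      have hle : Q ≤ ⊥ := by rw [← Subgroup.map_bot L.subtype, ← h, hmapR]; exact hQR
      have := Subgroup.card_le_of_le hle
      rw [D.card, Subgroup.card_bot] at this
      omega
  have := concl_map L.subtype L.subtype_injective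
    (concl_core hR2 inferInstance hD fun x hx => hQR hx)
  rwa [hmapR] at this

end Ambient

end CfsgLib.Solvable.RankTwoUnipotent
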