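import Mathlib

/-!
Small facts on three-cycles with small overlap and on even permutations of three or four points.
-/

set_option autoImplicit false

open scoped commutatorElement

namespace CfsgLib.Solvable.RankTwoUnipotent

variable {ι : Type*}

theorem commutator_cube_of_meet_one (s t : Equiv.Perm ι) {a b₁ b₂ d₁ d₂ : ι}
    (hs : s a = b₁ ∧ s b₁ = b₂ ∧ s b₂ = a) (ht : t a = d₁ ∧ t d₁ = d₂ ∧ t d₂ = a)
    (hsf : ∀ x, x ≠ a → x ≠ b₁ → x ≠ b₂ → s x = x) (htf : ∀ x, x ≠ a → x ≠ d₁ → x ≠ d₂ → t x = x)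
    (hne : a ≠ b₁ ∧ a ≠ b₂ ∧ a ≠ d₁ ∧ a ≠ d₂ ∧ b₁ ≠ b₂ ∧ b₁ ≠ d₁ ∧ b₁ ≠ d₂ ∧ b₂ ≠ d₁ ∧ b₂ ≠ d₂ ∧ d₁ ≠ d₂) :
    ⁅t, s⁆ ^ 3 = 1 ∧ ⁅t, s⁆ ≠ 1 := by
  obtain ⟨s1, s2, s3⟩ := hs
  obtain ⟨t1, t2, t3⟩ := ht
  obtain ⟨n1, n2, n3, n4, n5, n6, n7, n8, n9, n10⟩ := hne
  have si1 : s⁻¹ a = b₂ := by rw [Equiv.Perm.inv_eq_iff_eq]; exact s3.symm
  have si2 : s⁻¹ b₁ = a := by rw [Equiv.Perm.inv_eq_iff_eq]; exact s1.symm
  have si3 : s⁻¹ b₂ = b₁ := by rw [Equiv.Perm.inv_eq_iff_eq]; exact s2.symm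
  have ti1 : t⁻¹ a = d₂ := by rw [Equiv.Perm.inv_eq_iff_eq]; exact t3.symm
  have ti2 : t⁻¹ d₁ = a := by rw [Equiv.Perm.inv_eq_iff_eq]; exact t1.symm
  have ti3 : t⁻¹ d₂ = d₁ := by rw [Equiv.Perm.inv_eq_iff_eq]; exact t2.symm
  have sif : ∀ x, x ≠ a → x ≠ b₁ → x ≠ b₂ → s⁻¹ x = x := fun x h1 h2 h3 => by
    rw [Equiv.Perm.inv_eq_iff_eq, hsf x h1 h2 h3]
  have tif : ∀ x, x ≠ a → x ≠ d₁ → x ≠ d₂ → t⁻¹ x = x := fun x h1 h2 h3 => by
    rw [Equiv.Perm.inv_eq_iff_eq, htf x h1 h2 h3]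
  have hc : ∀ x, ⁅t, s⁆ x = t (s (t⁻¹ (s⁻¹ x))) := fun x => by
    simp [commutatorElement_def, Equiv.Perm.mul_apply]
  have ca : ⁅t, s⁆ a = d₁ := by rw [hc, si1, tif b₂ n2.symm n8 n9, s3, t1]
  have cd : ⁅t, s⁆ d₁ = b₁ := by
    rw [hc, sif d₁ n3.symm n6.symm n8.symm, ti2, s1, htf b₁ n1.symm n6 n7]
  have cb : ⁅t, s⁆ b₁ = a := by rw [hc, si2, ti1, hsf d₂ n4.symm n7.symm n9.symm, t3]
  have cf : ∀ x, x ≠ a → x ≠ b₁ → x ≠ d₁ → ⁅t, s⁆ x = x := by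
    intro x h1 h2 h3
    rw [hc]
    by_cases h4 : x = b₂
    · subst h4
      rw [si3, tif b₁ n1.symm n6 n7, s2, htf _ h1 n8 n9]
    · rw [sif x h1 h2 h4]
      by_cases h5 : x = d₂
      · subst h5
        rw [ti3, hsf d₁ n3.symm n6.symm n8.symm, t2]
      · rw [tif x h1 h3 h5, hsf x h1 h2 h4, htf x h1 h3 h5]
  refine ⟨?_, fun e => n3 ?_⟩
  · ext x
    simp only [pow_succ, pow_zero, one_mul, Equiv.Perm.mul_apply, Equiv.Perm.one_apply]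
    by_cases h1 : x = a
    · subst h1; rw [ca, cd, cb]
    by_cases h2 : x = b₁
    · subst h2; rw [cb, ca, cd]
    by_cases h3 : x = d₁
    · subst h3; rw [cd, cb, ca]
    rw [cf x h1 h2 h3, cf x h1 h2 h3, cf x h1 h2 h3]
  · rw [e] at ca
    exact ca

variable [Fintype ι] [DecidableEq ι]

theorem fin_three : ∀ x : Equiv.Perm (Fin 3), Equiv.Perm.sign x = 1 → x * (x * x) = 1 := by decide

theorem fin_four : ∀ x : Equiv.Perm (Fin 4), Equiv.Perm.sign x = 1 →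
    (x * x = 1 ∨ x * (x * x) = 1) ∧ (x * x = 1 → ∀ i, x i = i → x = 1) := by decide

theorem cube_of_card_three (h : Fintype.card ι = 3) (x : Equiv.Perm ι) (hx : Equiv.Perm.sign x = 1) :
    x ^ 3 = 1 := by
  obtain ⟨e⟩ : Nonempty (ι ≃ Fin 3) := ⟨Fintype.equivFinOfCardEq h⟩
  have h1 := fin_three (e.permCongr x) (by rw [Equiv.Perm.sign_permCongr, hx])
  refine e.permCongrHom.injective ?_
  rw [map_pow, map_one, pow_succ', pow_two]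
  exact h1

theorem sq_of_card_four (h : Fintype.card ι = 4) (x : Equiv.Perm ι) (hx : Equiv.Perm.sign x = 1)
    (h3 : x ^ 3 = 1 → x = 1) : x * x = 1 ∧ ∀ i, x i = i → x = 1 := by
  obtain ⟨e⟩ : Nonempty (ι ≃ Fin 4) := ⟨Fintype.equivFinOfCardEq h⟩
  obtain ⟨h1, h2⟩ := fin_four (e.permCongr x) (by rw [Equiv.Perm.sign_permCongr, hx])
  have hsq : x * x = 1 := by
    rcases h1 with h1 | h1
    · refine e.permCongrHom.injective ?_
      rw [map_mul, map_one]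
      exact h1
    · have : x = 1 := h3 (e.permCongrHom.injective (by rw [map_pow, map_one, pow_succ', pow_two]; exact h1))
      rw [this, mul_one]
  refine ⟨hsq, fun i hi => e.permCongrHom.injective ?_⟩
  rw [map_one]
  refine h2 (by
    have := congrArg e.permCongrHom hsq
    rw [map_mul, map_one] at this
    exact this) (e i) ?_
  simp [Equiv.permCongr_apply, hi]

end CfsgLib.Solvable.RankTwoUnipotent
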