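import Cfsg.Agent.Lib.Solvable.RankTwoUnipotent.Setting
import Cfsg.Agent.Lib.Solvable.RankTwoUnipotent.Perm

/-!
The monomial case: a normal elementary abelian `2`-subgroup of `R` not centralized by `b`.
-/

set_option autoImplicit false
set_option linter.unusedSectionVars false

open scoped commutatorElement

namespace CfsgLib.Solvable.RankTwoUnipotent

variable {L : Type*} [Group L] [Finite L] {V : Type*} [AddCommGroup V] [Module (ZMod 3) V] [Finite V]
  {τ : Representation (ZMod 3) L V} {R : Subgroup L} {b : L} {A : Subgroup L}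

/-- The conclusion for `R`. -/
def Concl (R : Subgroup L) : Prop :=
  (Cfsg.IsElementaryAbelian 2 R ∧ Nat.card R = 4) ∨
    (Cfsg.IsExtraspecial 2 R ∧ Nat.card R = 32 ∧
      ∃ A : Subgroup L, A ≤ R ∧ Cfsg.IsElementaryAbelian 2 A ∧ Nat.card A = 8)

variable (τ A) in
/-- The weights. -/
abbrev Wts := {c : A → ZMod 3 // wt τ A c ≠ ⊥}

variable (τ A) in
/-- The action on the weights. -/
def perm [A.Normal] : L →* Equiv.Perm (Wts τ A) where
  toFun g :=
    { toFun := fun c => ⟨cw g c.1, wt_cw_ne_bot g c.2⟩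
      invFun := fun c => ⟨cw g⁻¹ c.1, wt_cw_ne_bot g⁻¹ c.2⟩
      left_inv := fun c => Subtype.ext (show cw g⁻¹ (cw g c.1) = c.1 by rw [← cw_mul, inv_mul_cancel, cw_one])
      right_inv := fun c => Subtype.ext (show cw g (cw g⁻¹ c.1) = c.1 by rw [← cw_mul, mul_inv_cancel, cw_one]) }
  map_one' := Equiv.ext fun c => Subtype.ext (cw_one c.1)
  map_mul' g h := Equiv.ext fun c => Subtype.ext (cw_mul g h c.1)

theorem perm_val [A.Normal] (g : L) (c : Wts τ A) : (perm τ A g c).1 = cw g c.1 := rfl

theorem exists_ne_weight (c : Wts τ A) : ∃ v ∈ wt τ A c.1, v ≠ 0 := Submodule.exists_mem_ne_zero_of_ne_bot c.2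

/-- A weight of an element of order two. -/
theorem val_sq (h2 : ∀ a ∈ A, a ^ 2 = 1) (c : Wts τ A) (a : A) : c.1 a * c.1 a = 1 := by
  obtain ⟨v, hv, hv0⟩ := exists_ne_weight c
  rcases weight_sq hv hv0 (h2 _ a.2) with h | h <;> rw [h] <;> norm_num

theorem val_mul (c : Wts τ A) (a a' : A) : c.1 (a * a') = c.1 a * c.1 a' := by
  obtain ⟨v, hv, hv0⟩ := exists_ne_weight c
  refine smul_left_injective (ZMod 3) hv0 ?_
  show c.1 (a * a') • v = (c.1 a * c.1 a') • v
  rw [← hv, Subgroup.coe_mul, apply_mul, hv a', map_smul, hv a, smul_smul, mul_comm]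

theorem val_one (c : Wts τ A) : c.1 1 = 1 := by
  obtain ⟨v, hv, hv0⟩ := exists_ne_weight c
  refine smul_left_injective (ZMod 3) hv0 ?_
  show c.1 1 • v = (1 : ZMod 3) • v
  rw [← hv, Subgroup.coe_one, apply_one, one_smul]

/-- The data of the monomial case. -/
structure Mono (τ : Representation (ZMod 3) L V) (R : Subgroup L) (b : L) (A : Subgroup L) : Prop
    extends Rank2 τ R b where
  solvable : Group.IsSolvable L
  normalA : A.Normal
  leR : A ≤ R
  commA : IsMulCommutative A
  sqA : ∀ a ∈ A, a ^ 2 = 1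
  moved : ∃ a ∈ A, b * a ≠ a * b

namespace Mono

variable [hAn : A.Normal] (M : Mono τ R b A)

local notation "π" => perm τ A

include M

theorem spans : (⨆ c, wt τ A c) = ⊤ := iSup_wt_eq_top M.commA M.sqA

theorem transitive (c c' : Wts τ A) : ∃ g, π g c = c' := by
  rcases M.irred (⨆ g : L, wt τ A (cw g c.1)) (fun h v hv => by
    have hle : (⨆ g : L, wt τ A (cw g c.1)).map (τ h) ≤ ⨆ g : L, wt τ A (cw g c.1) := by
      rw [Submodule.map_iSup]
      refine iSup_le fun g => (map_wt_le h _).trans ?_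
      rw [← cw_mul]
      exact le_iSup (fun g => wt τ A (cw g c.1)) (h * g)
    exact hle (Submodule.mem_map_of_mem hv)) with hN | hN
  · refine absurd (le_bot_iff.mp (le_trans ?_ hN.le)) c.2
    exact le_iSup_of_le 1 (le_of_eq (by rw [cw_one]))
  · by_contra hno
    push Not at hno
    refine c'.2 ?_
    have hd := iSupIndep_def.mp (iSupIndep_wt (τ := τ) (A := A)) c'.1
    rw [disjoint_iff] at hd
    refine le_bot_iff.mp (le_trans ?_ hd.le)
    refine le_inf le_rfl (le_top.trans (hN.symm.le.trans (iSup_le fun g => ?_)))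
    exact le_iSup₂_of_le (cw g c.1) (fun e => hno g (Subtype.ext e)) le_rfl

theorem exists_moved : ∃ c : Wts τ A, π b c ≠ c := by
  by_contra hno
  push Not at hno
  obtain ⟨a, ha, hne⟩ := M.moved
  refine hne ?_
  have e : ((MulAut.conjNormal b).symm ⟨a, ha⟩ : A) = ⟨a, ha⟩ := by
    refine Subtype.ext (M.toRank2.eq_of_apply fun v => ?_)
    have hv : v ∈ ⨆ c, wt τ A c := by rw [M.spans]; trivial
    induction hv using Submodule.iSup_induction' with
    | mem c x hx =>
      by_cases hc : wt τ A c = ⊥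
      · rw [hc, Submodule.mem_bot] at hx
        rw [hx, map_zero, map_zero]
      · have h1 : cw b c = c := congrArg Subtype.val (hno ⟨c, hc⟩)
        rw [hx, hx]
        exact congrArg (· • x) (congrFun h1 ⟨a, ha⟩)
    | zero => simp
    | add x y _ _ hx hy => rw [map_add, map_add, hx, hy]
  have e' : b⁻¹ * a * b = a := by
    have := congrArg Subtype.val e
    rwa [MulAut.conjNormal_symm_apply] at this
  calc b * a = b * (b⁻¹ * a * b) := by rw [e']
    _ = a * b := by group

theorem cycle_data {p : Wts τ A} (hp : π b p ≠ p) :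
    Module.finrank (ZMod 3) (wt τ A p.1) = 1 ∧ π b (π b (π b p)) = p ∧ π b (π b p) ≠ p ∧
      π b (π b p) ≠ π b p ∧ ∀ x, π b x ≠ x → x = p ∨ x = π b p ∨ x = π b (π b p) := by
  obtain ⟨h1, h2, h3, h4, -, h6⟩ := cycle (τ := τ) M.b_cube M.rank p.2 (fun e => hp (Subtype.ext e))
  refine ⟨h1, Subtype.ext h2, fun e => h3 (congrArg Subtype.val e), fun e => h4 (congrArg Subtype.val e),
    fun x hx => ?_⟩
  rcases h6 x.1 x.2 (fun e => hx (Subtype.ext e)) with h | h | h
  · exact Or.inl (Subtype.ext h)
  · exact Or.inr (Or.inl (Subtype.ext h))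
  · exact Or.inr (Or.inr (Subtype.ext h))

theorem finrank_one (x : Wts τ A) : Module.finrank (ZMod 3) (wt τ A x.1) = 1 := by
  obtain ⟨p, hp⟩ := M.exists_moved
  obtain ⟨g, rfl⟩ := M.transitive p x
  rw [perm_val, finrank_wt_cw, (M.cycle_data hp).1]

theorem sign_eq_one [Fintype (Wts τ A)] [DecidableEq (Wts τ A)] {r : L} (hr : r ∈ R) :
    Equiv.Perm.sign (π r) = 1 :=
  MonoidHom.mem_ker.mp (M.toRank2.le_of_comm ((Equiv.Perm.sign).comp π) hr)

theorem b_zpow (k : ℤ) : b ^ k = 1 ∨ b ^ k = b ∨ b ^ k = b * b := by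
  have h : b ^ k = b ^ (k % 3) := by
    conv_lhs => rw [← Int.emod_add_mul_ediv k 3, zpow_add, zpow_mul]
    rw [show b ^ (3 : ℤ) = 1 by rw [show (3 : ℤ) = ((3 : ℕ) : ℤ) from rfl, zpow_natCast, M.b_cube], one_zpow,
      mul_one]
  have h1 := Int.emod_nonneg k (show (3 : ℤ) ≠ 0 by norm_num)
  have h2 := Int.emod_lt_of_pos k (show (0 : ℤ) < 3 by norm_num)
  rw [h]
  interval_cases h' : k % 3
  · exact Or.inl (zpow_zero b)
  · exact Or.inr (Or.inl (zpow_one b))
  · exact Or.inr (Or.inr (by rw [zpow_two]))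

/-- At most one weight is fixed by `b`. -/
theorem structure_weights [Fintype (Wts τ A)] [DecidableEq (Wts τ A)] {p : Wts τ A} (hp : π b p ≠ p) :
    (∀ x, π b x = x → ∀ y, π b y = y → x = y) ∧
      ∀ x, π b x = x → ∃ r ∈ R, π r x ≠ x ∧ π b (π r x) ≠ π r x := by
  classical
  obtain ⟨-, h3, hn1, hn2, huniq⟩ := M.cycle_data hp
  set s := π b with hs
  set T : Finset (Wts τ A) := {p, s p, s (s p)} with hT
  have hmem : ∀ x, x ∈ T ↔ s x ≠ x := by
    intro x
    refine ⟨fun hx => ?_, fun hx => ?_⟩
    · simp only [hT, Finset.mem_insert, Finset.mem_singleton] at hx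
      rcases hx with rfl | rfl | rfl
      · exact hp
      · exact hn2
      · rw [h3]; exact hn1.symm
    · simp only [hT, Finset.mem_insert, Finset.mem_singleton]
      exact huniq x hx
  have hsT : ∀ x, x ∈ T → s x ∈ T := fun x hx => by
    rw [hmem] at hx ⊢
    exact fun e => hx (s.injective e)
  have hss : ∀ x, x ∈ T → s (s (s x)) = x ∧ s (s x) ≠ x ∧ s (s x) ≠ s x := by
    intro x hx
    have := M.cycle_data ((hmem x).mp hx)
    exact ⟨this.2.1, this.2.2.1, this.2.2.2.1⟩
  let S : L → Finset (Wts τ A) := fun r => T.image (π r)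
  have hcardT : T.card = 3 := by
    rw [hT, Finset.card_insert_of_notMem (by
      simp only [Finset.mem_insert, Finset.mem_singleton, not_or]; exact ⟨hp.symm, hn1.symm⟩),
      Finset.card_pair hn2.symm]
  have hcardS : ∀ r, (S r).card = 3 := fun r => by
    simp only [S, Finset.card_image_of_injective _ (π r).injective, hcardT]
  have hSmem : ∀ r x, x ∈ S r ↔ π r⁻¹ x ∈ T := by
    intro r x
    simp only [S, Finset.mem_image]
    refine ⟨?_, fun h => ⟨_, h, by rw [← Equiv.Perm.mul_apply, ← map_mul, mul_inv_cancel, map_one]; rfl⟩⟩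
    rintro ⟨t, ht, rfl⟩
    rwa [← Equiv.Perm.mul_apply, ← map_mul, inv_mul_cancel, map_one, Equiv.Perm.one_apply]
  have hconj : ∀ r x, π (r * b * r⁻¹) x = π r (s (π r⁻¹ x)) := fun r x => by
    rw [map_mul, map_mul]; rfl
  have hfix : ∀ r x, x ∉ S r → π (r * b * r⁻¹) x = x := by
    intro r x hx
    rw [hSmem, hmem, not_not] at hx
    rw [hconj, hx, ← Equiv.Perm.mul_apply, ← map_mul, mul_inv_cancel, map_one]; rfl
  haveI := M.normal
  have hcomm : ∀ r : L, r ∈ R → ⁅r * b * r⁻¹, b⁆ ∈ R := by
    intro r hr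
    rw [← QuotientGroup.eq_one_iff, ← QuotientGroup.mk'_apply, map_commutatorElement, map_mul, map_mul, map_inv,
      (show QuotientGroup.mk' R r = 1 from (QuotientGroup.eq_one_iff r).mpr hr), one_mul, inv_one, mul_one,
      commutatorElement_self]
  have hbase : ∀ r ∈ R, 2 ≤ (T ∩ S r).card := by
    intro r hr
    set t := π (r * b * r⁻¹) with ht
    -- a common point exists
    have hex : ∃ a, a ∈ T ∧ a ∈ S r := by
      by_contra hno
      push Not at hno
      have hd : t.Disjoint s := by
        intro x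
        by_cases hx : x ∈ T
        · exact Or.inl (hfix r x (hno x hx))
        · exact Or.inr (by rwa [hmem, not_not] at hx)
      have hc := hd.commute
      have hR' : r * b * r⁻¹ * b⁻¹ ∈ R := by
        have : r * b * r⁻¹ * b⁻¹ = r * (b * r⁻¹ * b⁻¹) := by group
        rw [this]
        exact R.mul_mem hr (M.normal.conj_mem _ (R.inv_mem hr) b)
      have hone := M.toRank2.map_eq_one π hR' (by
        rw [map_mul, map_inv, ← ht, ← hs, hc.inv_right.mul_pow, inv_pow, hs, ht, ← map_pow, ← map_pow,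
          show (r * b * r⁻¹) ^ 3 = r * b ^ 3 * r⁻¹ from conj_pow, M.b_cube, mul_one, mul_inv_cancel, map_one,
          inv_one, mul_one])
      rw [map_mul, map_inv, ← ht, ← hs, mul_inv_eq_one] at hone
      have hpT : p ∈ T := (hmem p).mpr hp
      exact hp (by rw [← hone]; exact hfix r p (hno p hpT))
    obtain ⟨a, haT, haS⟩ := hex
    have hor : s a ∈ S r ∨ s (s a) ∈ S r := by
      by_contra hno
      push Not at hno
      obtain ⟨a3, a1, a2⟩ := hss a haT
      obtain ⟨u, hu, rfl⟩ := Finset.mem_image.mp haS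
      obtain ⟨u3, u1, u2⟩ := hss u hu
      have htu : ∀ y, t (π r y) = π r (s y) := fun y => by
        rw [ht, hconj, map_inv, Equiv.Perm.inv_def, Equiv.symm_apply_apply]
      have hin : ∀ y, y ∈ T → π r y ∈ S r := fun y hy => Finset.mem_image_of_mem _ hy
      have hsu := hsT u hu
      obtain ⟨hcube, hne1⟩ := commutator_cube_of_meet_one s t (a := π r u) (b₁ := s (π r u))
        (b₂ := s (s (π r u))) (d₁ := π r (s u)) (d₂ := π r (s (s u)))
        ⟨rfl, rfl, a3⟩ ⟨htu u, htu _, by rw [htu, u3]⟩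
        (fun x h1 h2 h3 => by
          by_contra hx
          have hx' := (hmem x).mpr hx
          obtain ⟨-, -, -, -, huq⟩ := M.cycle_data ((hmem _).mp haT)
          rcases huq x hx with h | h | h
          exacts [h1 h, h2 h, h3 h])
        (fun x h1 h2 h3 => by
          by_contra hx
          have hxS : x ∈ S r := by
            by_contra hxS
            exact hx (hfix r x hxS)
          obtain ⟨y, hy, rfl⟩ := Finset.mem_image.mp hxS
          obtain ⟨-, -, -, -, huq⟩ := M.cycle_data ((hmem _).mp hu)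
          rcases huq y ((hmem y).mp hy) with h | h | h
          exacts [h1 (by rw [h]), h2 (by rw [h]), h3 (by rw [h])])
        ⟨fun e => ((hmem _).mp haT) e.symm, a1.symm,
          fun e => (hmem u).mp hu ((π r).injective e).symm, fun e => u1 ((π r).injective e).symm,
          a2.symm, fun e => hno.1 (e ▸ hin _ hsu), fun e => hno.1 (e ▸ hin _ (hsT _ hsu)),
          fun e => hno.2 (e ▸ hin _ hsu), fun e => hno.2 (e ▸ hin _ (hsT _ hsu)),
          fun e => u2 ((π r).injective e).symm⟩
      refine hne1 ?_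
      rw [ht, hs, ← map_commutatorElement]
      refine M.toRank2.map_eq_one π (hcomm r hr) ?_
      rw [map_commutatorElement, ← ht, ← hs]
      exact hcube
    obtain ⟨-, b1, -⟩ := hss a haT
    rcases hor with h | h
    · rw [← Finset.card_pair ((hmem a).mp haT)]
      exact Finset.card_le_card (by
        intro x hx
        simp only [Finset.mem_insert, Finset.mem_singleton] at hx
        rw [Finset.mem_inter]
        rcases hx with rfl | rfl
        exacts [⟨hsT a haT, h⟩, ⟨haT, haS⟩])
    · rw [← Finset.card_pair b1]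
      exact Finset.card_le_card (by
        intro x hx
        simp only [Finset.mem_insert, Finset.mem_singleton] at hx
        rw [Finset.mem_inter]
        rcases hx with rfl | rfl
        exacts [⟨hsT _ (hsT a haT), h⟩, ⟨haT, haS⟩])
  have hpair : ∀ r ∈ R, ∀ r' ∈ R, 2 ≤ (S r ∩ S r').card := by
    intro r hr r' hr'
    have e : S r' = (S (r⁻¹ * r')).image (π r) := by
      simp only [S, Finset.image_image]
      refine Finset.image_congr fun x _ => ?_
      show π r' x = π r (π (r⁻¹ * r') x)
      rw [← Equiv.Perm.mul_apply, ← map_mul, mul_inv_cancel_left]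
    rw [e, show S r = T.image (π r) from rfl, ← Finset.image_inter _ _ (π r).injective,
      Finset.card_image_of_injective _ (π r).injective]
    exact hbase _ (R.mul_mem (R.inv_mem hr) hr')
  have hcover : ∀ x, ∃ r ∈ R, x ∈ S r := by
    intro x
    obtain ⟨g, rfl⟩ := M.transitive p x
    obtain ⟨r, hr, k, rfl⟩ := M.toRank2.exists_decomp g
    refine ⟨r, hr, ?_⟩
    rw [map_mul, Equiv.Perm.mul_apply]
    refine Finset.mem_image_of_mem _ ?_
    have hpT : p ∈ T := (hmem p).mpr hp
    rcases M.b_zpow k with e | e | e <;> rw [e]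
    · rwa [map_one, Equiv.Perm.one_apply]
    · exact hsT p hpT
    · rw [map_mul, Equiv.Perm.mul_apply]; exact hsT _ (hsT p hpT)
  refine ⟨?_, ?_⟩
  · intro x hx y hy
    by_contra hxy
    have hxT : x ∉ T := fun h => (hmem x).mp h hx
    have hyT : y ∉ T := fun h => (hmem y).mp h hy
    obtain ⟨r, hr, hxr⟩ := hcover x
    obtain ⟨r', hr', hyr'⟩ := hcover y
    -- sections through an outside point
    have hsec : ∀ r ∈ R, ∀ z, z ∉ T → z ∈ S r → S r = insert z (T ∩ S r) ∧ (T ∩ S r).card = 2 := by
      intro r hr z hz hzr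
      have hsub : insert z (T ∩ S r) ⊆ S r :=
        Finset.insert_subset_iff.mpr ⟨hzr, Finset.inter_subset_right⟩
      have hni : z ∉ T ∩ S r := fun h => hz (Finset.mem_inter.mp h).1
      have h1 := Finset.card_le_card hsub
      rw [Finset.card_insert_of_notMem hni, hcardS] at h1
      have h2 := hbase r hr
      refine ⟨(Finset.eq_of_subset_of_card_le hsub ?_).symm, by omega⟩
      rw [Finset.card_insert_of_notMem hni, hcardS]
      omega
    obtain ⟨e1, c1⟩ := hsec r hr x hxT hxr
    have hkey : ∀ r' ∈ R, y ∈ S r' → T ∩ S r' = T ∩ S r := by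
      intro r' hr' hyr'
      obtain ⟨e2, c2⟩ := hsec r' hr' y hyT hyr'
      have hsub : S r ∩ S r' ⊆ (T ∩ S r) ∩ (T ∩ S r') := by
        intro z hz
        obtain ⟨z1, z2⟩ := Finset.mem_inter.mp hz
        rw [e1, Finset.mem_insert] at z1
        rw [e2, Finset.mem_insert] at z2
        rcases z1 with rfl | z1
        · rcases z2 with z2 | z2
          · exact absurd z2 hxy
          · exact absurd (Finset.mem_inter.mp z2).1 hxT
        · rcases z2 with rfl | z2
          · exact absurd (Finset.mem_inter.mp z1).1 hyT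
          · exact Finset.mem_inter.mpr ⟨z1, z2⟩
      have hc := (hpair r hr r' hr').trans (Finset.card_le_card hsub)
      have h1 : (T ∩ S r) ∩ (T ∩ S r') = T ∩ S r := Finset.eq_of_subset_of_card_le Finset.inter_subset_left (by omega)
      have h2 : (T ∩ S r) ∩ (T ∩ S r') = T ∩ S r' := Finset.eq_of_subset_of_card_le Finset.inter_subset_right (by omega)
      exact h2.symm.trans h1
    have p1 := hkey r' hr' hyr'
    have p2 := hkey (b * r' * b⁻¹) (M.normal.conj_mem r' hr' b) (by
      rw [hSmem, show (b * r' * b⁻¹)⁻¹ = b * r'⁻¹ * b⁻¹ by group, map_mul, map_mul, Equiv.Perm.mul_apply,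
        Equiv.Perm.mul_apply]
      have : π b⁻¹ y = y := by rw [map_inv, Equiv.Perm.inv_eq_iff_eq]; exact hy.symm
      rw [this]
      exact hsT _ ((hSmem r' y).mp hyr'))
    have hclosed : ∀ a ∈ T ∩ S r, s a ∈ T ∩ S r := by
      intro a ha
      rw [← p1] at ha
      obtain ⟨haT, haS⟩ := Finset.mem_inter.mp ha
      rw [← p2, Finset.mem_inter]
      refine ⟨hsT a haT, ?_⟩
      rw [hSmem, show (b * r' * b⁻¹)⁻¹ = b * r'⁻¹ * b⁻¹ by group, map_mul, map_mul, Equiv.Perm.mul_apply,
        Equiv.Perm.mul_apply]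
      have : π b⁻¹ (s a) = a := by rw [map_inv, Equiv.Perm.inv_eq_iff_eq]
      rw [this]
      exact hsT _ ((hSmem r' a).mp haS)
    obtain ⟨a, ha⟩ := Finset.card_pos.mp (by omega : 0 < (T ∩ S r).card)
    have haT := (Finset.mem_inter.mp ha).1
    obtain ⟨-, a1, a2⟩ := hss a haT
    have : ({a, s a, s (s a)} : Finset _).card ≤ (T ∩ S r).card := Finset.card_le_card (by
      intro z hz
      simp only [Finset.mem_insert, Finset.mem_singleton] at hz
      rcases hz with rfl | rfl | rfl
      exacts [ha, hclosed _ ha, hclosed _ (hclosed _ ha)])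
    rw [Finset.card_insert_of_notMem (by
      simp only [Finset.mem_insert, Finset.mem_singleton, not_or]
      exact ⟨((hmem a).mp haT).symm, a1.symm⟩), Finset.card_pair a2.symm, c1] at this
    omega
  · intro x hx
    obtain ⟨r, hr, hxr⟩ := hcover x
    rw [hSmem] at hxr
    exact ⟨r⁻¹, R.inv_mem hr, fun e => (hmem x).mp (e ▸ hxr) hx, (hmem _).mp hxr⟩

end Mono

end CfsgLib.Solvable.RankTwoUnipotent
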