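import Cfsg.Agent.Lib.Solvable.RankTwoUnipotent.Monomial

/-!
The monomial case gives a four-group or an extraspecial group of order `32`.
-/

set_option autoImplicit false
set_option linter.unusedSectionVars false

open scoped commutatorElement

namespace CfsgLib.Solvable.RankTwoUnipotent

theorem zmod_sq_cases {x : ZMod 3} (h : x * x = 1) : x = 1 ∨ x = -1 := by
  revert x; decide

theorem zmod_pair {a b c d : ZMod 3} (ha : a * a = 1) (hb : b * b = 1) (hc : c * c = 1) (hd : d * d = 1)
    (h : a * b * c * d = 1) : a * b = c * d := by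
  calc a * b = (a * b * c * d) * (c * d) := by linear_combination (-(a * b) * d * d) * hc - (a * b) * hd
    _ = c * d := by rw [h, one_mul]

namespace Mono

variable {L : Type*} [Group L] [Finite L] {V : Type*} [AddCommGroup V] [Module (ZMod 3) V] [Finite V]
  {τ : Representation (ZMod 3) L V} {R : Subgroup L} {b : L} {A : Subgroup L}
variable [hAn : A.Normal] (M : Mono τ R b A)

local notation "π" => perm τ A

include M

theorem exists_monomial : ∃ (B : Module.Basis (Wts τ A) (ZMod 3) V) (α : L → Wts τ A → ZMod 3),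
    (∀ x, B x ∈ wt τ A x.1) ∧ ∀ g x, τ g (B x) = α g x • B (π g x) := by
  classical
  have : Fintype (Wts τ A) := Fintype.ofFinite _
  choose v hv hv0 using fun x : Wts τ A => exists_ne_weight x
  have hind : iSupIndep fun x : Wts τ A => wt τ A x.1 := (iSupIndep_wt (τ := τ) (A := A)).comp Subtype.val_injective
  have hli : LinearIndependent (ZMod 3) v := hind.linearIndependent _ hv hv0
  have hsp : ⊤ ≤ Submodule.span (ZMod 3) (Set.range v) := by
    rw [← M.spans]
    refine iSup_le fun c => ?_
    by_cases hc : wt τ A c = ⊥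
    · rw [hc]; exact bot_le
    intro w hw
    obtain ⟨k, rfl⟩ := eq_smul_of_finrank_one (M.finrank_one ⟨c, hc⟩) (hv ⟨c, hc⟩) (hv0 _) hw
    exact Submodule.smul_mem _ _ (Submodule.subset_span ⟨_, rfl⟩)
  refine ⟨Module.Basis.mk hli hsp, ?_⟩
  choose α hα using fun (g : L) (x : Wts τ A) =>
    eq_smul_of_finrank_one (M.finrank_one (π g x)) (hv _) (hv0 _)
      (show τ g (v x) ∈ wt τ A (π g x).1 from apply_mem_wt g (hv x))
  exact ⟨α, fun x => by rw [Module.Basis.mk_apply]; exact hv x,
    fun g x => by rw [Module.Basis.mk_apply, Module.Basis.mk_apply]; exact hα g x⟩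

variable [Fintype (Wts τ A)] [DecidableEq (Wts τ A)]
variable {B : Module.Basis (Wts τ A) (ZMod 3) V} {α : L → Wts τ A → ZMod 3}
  (hB : ∀ x : Wts τ A, B x ∈ wt τ A x.1)
  (hα : ∀ (g : L) (x : Wts τ A), τ g (B x) = α g x • B (perm τ A g x))

include hB hα

omit hB in
theorem prod_sign {r : L} (hr : r ∈ R) : ∏ x, α r x = 1 := by
  have h1 := M.toRank2.det_eq_one hr
  rw [← LinearMap.det_toMatrix B] at h1
  have hM : LinearMap.toMatrix B B (τ r) =
      (Matrix.diagonal fun j => α r ((π r)⁻¹ j)).submatrix id (π r) := by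
    ext j i
    rw [LinearMap.toMatrix_apply, hα, map_smul, Module.Basis.repr_self, Matrix.submatrix_apply,
      Matrix.diagonal_apply, id_eq, Finsupp.smul_apply, Finsupp.single_apply]
    by_cases h : π r i = j
    · subst h
      simp
    · rw [if_neg h, if_neg (fun e => h e.symm), smul_zero]
  rw [hM, Matrix.det_permute', M.sign_eq_one hr, Matrix.det_diagonal] at h1
  rw [← h1, Units.val_one, Int.cast_one, one_mul]
  exact (Equiv.prod_comp (π r)⁻¹ (fun j => α r j)).symm

omit hB in
theorem sign_mul (g h : L) (x : Wts τ A) : α (g * h) x = α h x * α g (π h x) := by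
  refine smul_left_injective (ZMod 3) (B.ne_zero (π (g * h) x)) ?_
  show α (g * h) x • B (π (g * h) x) = (α h x * α g (π h x)) • B (π (g * h) x)
  rw [← hα, apply_mul, hα, map_smul, hα, smul_smul, map_mul, Equiv.Perm.mul_apply]

omit hB in
theorem sign_one (x : Wts τ A) : α 1 x = 1 := by
  refine smul_left_injective (ZMod 3) (B.ne_zero (π 1 x)) ?_
  show α 1 x • B (π 1 x) = (1 : ZMod 3) • B (π 1 x)
  rw [← hα, apply_one, one_smul, map_one, Equiv.Perm.one_apply]

omit hB in
theorem sign_ne_zero (g : L) (x : Wts τ A) : α g x ≠ 0 := fun h => by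
  have := M.sign_mul hα g⁻¹ g x
  rw [inv_mul_cancel, M.sign_one hα, h, zero_mul] at this
  exact one_ne_zero this

omit hB in
theorem sign_sq (g : L) (x : Wts τ A) : α g x * α g x = 1 := by
  rcases zmod_three_cases (α g x) with h | h | h
  · exact absurd h (M.sign_ne_zero hα g x)
  · rw [h, one_mul]
  · rw [h]; norm_num

omit hB in
theorem ext_of_sign {g h : L} (hπ : π g = π h) (hs : ∀ x, α g x = α h x) : g = h := by
  refine M.faithful (B.ext fun x => ?_)
  rw [hα, hα, hπ, hs]

theorem perm_of_memA {a : L} (ha : a ∈ A) : π a = 1 := by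
  refine Equiv.ext fun x => Subtype.ext ?_
  funext z
  show x.1 ((MulAut.conjNormal a).symm z) = x.1 z
  refine congrArg x.1 (Subtype.ext ?_)
  rw [MulAut.conjNormal_symm_apply, mul_assoc,
    show (z : L) * a = a * z from congrArg Subtype.val (M.commA.is_comm.comm z ⟨a, ha⟩), inv_mul_cancel_left]

theorem sign_of_memA {a : L} (ha : a ∈ A) (x : Wts τ A) : α a x = x.1 ⟨a, ha⟩ := by
  refine smul_left_injective (ZMod 3) (B.ne_zero x) ?_
  show α a x • B x = x.1 ⟨a, ha⟩ • B x
  rw [← hB x ⟨a, ha⟩]
  show α a x • B x = τ a (B x)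
  rw [hα, M.perm_of_memA hB hα ha, Equiv.Perm.one_apply]

omit hB in
theorem sq_eq_one_of_perm {r : L} (h : π r = 1) : r * r = 1 :=
  M.ext_of_sign hα (by rw [map_mul, h, one_mul, map_one]) fun x => by
    rw [M.sign_mul hα, h, Equiv.Perm.one_apply, M.sign_sq hα, M.sign_one hα]

omit hB in
/-- An element of `R` fixing all weights is determined by all signs but one. -/
theorem ext_but_one {r r' : L} (hr : r ∈ R) (hr' : r' ∈ R) (hπ : π r = 1) (hπ' : π r' = 1) (u : Wts τ A)
    (h : ∀ x, x ≠ u → α r x = α r' x) : r = r' := by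
  refine M.ext_of_sign hα (hπ.trans hπ'.symm) fun x => ?_
  by_cases hx : x = u
  · subst hx
    have h1 := (M.prod_sign hα hr).trans (M.prod_sign hα hr').symm
    rw [← Finset.mul_prod_erase _ _ (Finset.mem_univ x), ← Finset.mul_prod_erase _ (α r') (Finset.mem_univ x),
      Finset.prod_congr rfl (g := α r') (fun y hy => h y (Finset.ne_of_mem_erase hy))] at h1
    exact mul_right_cancel₀ (Finset.prod_ne_zero_iff.mpr fun y _ => M.sign_ne_zero hα r' y) h1
  · exact h x hx

set_option maxHeartbeats 1600000 in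
theorem concl : Concl R := by
  classical
  obtain ⟨p, hp⟩ := M.exists_moved
  obtain ⟨-, h3, hn1, hn2, huniq⟩ := M.cycle_data hp
  obtain ⟨hone, hreach⟩ := M.structure_weights hp
  have hmoved : ∀ x, π b x ≠ x ↔ (x = p ∨ x = π b p ∨ x = π b (π b p)) := by
    refine fun x => ⟨huniq x, ?_⟩
    rintro (rfl | rfl | rfl)
    exacts [hp, hn2, by rw [h3]; exact hn1.symm]
  have hR2 : ∀ r ∈ R, π r ^ 3 = 1 → π r = 1 := fun r hr => M.toRank2.map_eq_one π hr
  by_cases hex : ∃ u, π b u = u
  swap
  · -- three weights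
    push Not at hex
    have huniv : (Finset.univ : Finset (Wts τ A)) = {p, π b p, π b (π b p)} := by
      ext x
      simp only [Finset.mem_univ, Finset.mem_insert, Finset.mem_singleton, true_iff]
      exact huniq x (hex x)
    have hcard : Fintype.card (Wts τ A) = 3 := by
      rw [← Finset.card_univ, huniv, Finset.card_insert_of_notMem (by
        simp only [Finset.mem_insert, Finset.mem_singleton, not_or]; exact ⟨hp.symm, hn1.symm⟩),
        Finset.card_pair hn2.symm]
    have hker : ∀ r ∈ R, π r = 1 := fun r hr => hR2 r hr (cube_of_card_three hcard _ (M.sign_eq_one hr))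
    have hsq : ∀ r ∈ R, r * r = 1 := fun r hr => M.sq_eq_one_of_perm hα (hker r hr)
    have hle : Nat.card R ≤ 4 := by
      let f : R → Bool × Bool := fun r => (decide (α r p = 1), decide (α r (π b p) = 1))
      have hf : Function.Injective f := by
        intro r r' h
        simp only [f, Prod.mk.injEq, decide_eq_decide] at h
        have heq : ∀ x, (α r x = 1 ↔ α r' x = 1) → α r x = α r' x := fun x hx => by
          rcases zmod_sq_cases (M.sign_sq hα r x) with e | e <;>
            rcases zmod_sq_cases (M.sign_sq hα r' x) with e' | e' <;> rw [e, e'] at hx ⊢ <;> revert hx <;> decide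
        refine Subtype.ext (M.ext_but_one hα r.2 r'.2 (hker _ r.2) (hker _ r'.2) (π b (π b p)) fun x hx => ?_)
        rcases huniq x (hex x) with rfl | rfl | rfl
        exacts [heq _ h.1, heq _ h.2, absurd rfl hx]
      exact (Nat.card_le_card_of_injective f hf).trans (by simp)
    have h2R : IsPGroup 2 R := fun r => ⟨1, Subtype.ext (by
      rw [pow_one, pow_two]; exact hsq r r.2)⟩
    haveI : Fact (Nat.Prime 2) := ⟨Nat.prime_two⟩
    refine Or.inl ⟨⟨⟨⟨fun x y => Subtype.ext ?_⟩⟩, fun r hr => by rw [pow_two]; exact hsq r hr⟩, ?_⟩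
    · show (x : L) * y = y * x
      have h1 := inv_eq_of_mul_eq_one_right (hsq _ x.2)
      have h2 := inv_eq_of_mul_eq_one_right (hsq _ y.2)
      have h3 := inv_eq_of_mul_eq_one_right (hsq _ (R.mul_mem x.2 y.2))
      rw [mul_inv_rev, h1, h2] at h3
      exact h3.symm
    · obtain ⟨a, ha, hne⟩ := M.moved
      have h3' : 3 ≤ Nat.card R := by
        have hb : b * a * b⁻¹ ∈ R := M.leR (hAn.conj_mem a ha b)
        have hsub : ({⟨1, R.one_mem⟩, ⟨a, M.leR ha⟩, ⟨b * a * b⁻¹, hb⟩} : Finset R).card = 3 := by
          rw [Finset.card_insert_of_notMem, Finset.card_pair]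
          · intro e
            exact hne (by
              have e' : a = b * a * b⁻¹ := congrArg Subtype.val e
              calc b * a = b * a * b⁻¹ * b := by group
                _ = a * b := by rw [← e'])
          · simp only [Finset.mem_insert, Finset.mem_singleton, not_or, Subtype.mk.injEq]
            refine ⟨fun e => hne (by rw [← e, mul_one, one_mul]), fun e => hne ?_⟩
            have : a = 1 := by
              have := congrArg (fun g => b⁻¹ * g * b) e.symm
              simpa [mul_assoc] using this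
            rw [this, mul_one, one_mul]
        letI := Fintype.ofFinite R
        rw [← hsub, Nat.card_eq_fintype_card]
        exact Finset.card_le_univ _
      obtain ⟨k, hk⟩ := IsPGroup.iff_card.mp h2R
      rw [hk] at hle h3' ⊢
      have : k ≤ 2 := Nat.le_of_not_lt fun h => by
        have := Nat.pow_le_pow_right (show 0 < 2 by norm_num) h; omega
      interval_cases k <;> omega
  -- four weights
  obtain ⟨u, hu⟩ := hex
  have huall : ∀ x, x = u ∨ x = p ∨ x = π b p ∨ x = π b (π b p) := by
    intro x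
    by_cases hx : π b x = x
    · exact Or.inl (hone x hx u hu)
    · exact Or.inr (huniq x hx)
  have huT : u ≠ p ∧ u ≠ π b p ∧ u ≠ π b (π b p) := by
    refine ⟨?_, ?_, ?_⟩ <;> intro e <;> refine absurd hu ((hmoved u).mpr ?_)
    exacts [Or.inl e, Or.inr (Or.inl e), Or.inr (Or.inr e)]
  have hcard : Fintype.card (Wts τ A) = 4 := by
    have huniv : (Finset.univ : Finset (Wts τ A)) = {u, p, π b p, π b (π b p)} := by
      ext x
      simp only [Finset.mem_univ, Finset.mem_insert, Finset.mem_singleton, true_iff]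
      exact huall x
    rw [← Finset.card_univ, huniv, Finset.card_insert_of_notMem (by
      simp only [Finset.mem_insert, Finset.mem_singleton, not_or]; exact huT), Finset.card_insert_of_notMem (by
      simp only [Finset.mem_insert, Finset.mem_singleton, not_or]; exact ⟨hp.symm, hn1.symm⟩),
      Finset.card_pair hn2.symm]
  have hperm : ∀ r ∈ R, π r * π r = 1 ∧ ∀ i, π r i = i → π r = 1 := fun r hr =>
    sq_of_card_four hcard _ (M.sign_eq_one hr) (hR2 r hr)
  obtain ⟨r₀, hr₀, -, hr₀T⟩ := hreach u hu
  have hTstep : ∀ x, π b x ≠ x → π b (π b x) ≠ π b x := fun x hx e => hx ((π b).injective e)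
  have hbr : ∀ r ∈ R, b * r * b⁻¹ ∈ R ∧ π (b * r * b⁻¹) u = π b (π r u) := fun r hr => by
    haveI := M.normal
    refine ⟨M.normal.conj_mem r hr b, ?_⟩
    rw [map_mul, map_mul, Equiv.Perm.mul_apply, Equiv.Perm.mul_apply]
    congr 2
    rw [map_inv, Equiv.Perm.inv_eq_iff_eq, hu]
  have hall : ∀ x, ∃ r ∈ R, π r u = x := by
    intro x
    obtain ⟨hr1, e1⟩ := hbr r₀ hr₀
    obtain ⟨hr2, e2⟩ := hbr _ hr1
    rw [e1] at e2
    set t := π r₀ u with ht
    obtain ⟨-, t3, -, -, tq⟩ := M.cycle_data hr₀T
    rcases huall x with rfl | hx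
    · exact ⟨1, R.one_mem, by rw [map_one, Equiv.Perm.one_apply]⟩
    rcases tq x ((hmoved x).mpr hx) with rfl | rfl | rfl
    exacts [⟨r₀, hr₀, rfl⟩, ⟨_, hr1, e1⟩, ⟨_, hr2, e2⟩]
  let f : R →* Equiv.Perm (Wts τ A) := (π).comp R.subtype
  have hfr : Nat.card f.range = 4 := by
    rw [← hcard, ← Nat.card_eq_fintype_card]
    refine Nat.card_congr (Equiv.ofBijective (fun x : f.range => x.1 u) ⟨?_, fun x => ?_⟩)
    · rintro ⟨_, r, rfl⟩ ⟨_, r', rfl⟩ h
      refine Subtype.ext ?_
      show π (r : L) = π (r' : L)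
      have h' : π ((r' : L)⁻¹ * r) u = u := by
        rw [map_mul, Equiv.Perm.mul_apply, show π (r : L) u = π (r' : L) u from h, map_inv,
          Equiv.Perm.inv_def, Equiv.symm_apply_apply]
      have := (hperm _ (R.mul_mem (R.inv_mem r'.2) r.2)).2 u h'
      rwa [map_mul, map_inv, inv_mul_eq_one, eq_comm] at this
    · obtain ⟨r, hr, rfl⟩ := hall x
      exact ⟨⟨_, ⟨r, hr⟩, rfl⟩, rfl⟩
  have hkerle : Nat.card f.ker ≤ 8 := by
    let g : f.ker → Bool × Bool × Bool := fun r =>
      (decide (α (r : R) p = 1), decide (α (r : R) (π b p) = 1), decide (α (r : R) (π b (π b p)) = 1))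
    have hg : Function.Injective g := by
      intro r r' h
      simp only [g, Prod.mk.injEq, decide_eq_decide] at h
      have heq : ∀ x, (α (r : R) x = 1 ↔ α (r' : R) x = 1) → α (r : R) x = α (r' : R) x := fun x hx => by
        rcases zmod_sq_cases (M.sign_sq hα (r : R) x) with e | e <;>
          rcases zmod_sq_cases (M.sign_sq hα (r' : R) x) with e' | e' <;> rw [e, e'] at hx ⊢ <;> revert hx <;> decide
      refine Subtype.ext (Subtype.ext (M.ext_but_one hα (r : R).2 (r' : R).2 r.2 r'.2 u fun x hx => ?_))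
      rcases huall x with rfl | rfl | rfl | rfl
      exacts [absurd rfl hx, heq _ h.1, heq _ h.2.1, heq _ h.2.2]
    exact (Nat.card_le_card_of_injective g hg).trans (by simp)
  haveI : Fact (Nat.Prime 2) := ⟨Nat.prime_two⟩
  have hA2 : IsPGroup 2 A := fun a => ⟨1, Subtype.ext (M.sqA _ a.2)⟩
  have hAker : Nat.card A ≤ Nat.card f.ker := Nat.card_le_card_of_injective
    (fun a : A => (⟨⟨a, M.leR a.2⟩, M.perm_of_memA hB hα a.2⟩ : f.ker))
    (fun a a' h => Subtype.ext (congrArg (fun x : f.ker => ((x : R) : L)) h))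
  -- the four-group at `u` and one element moving `u`
  have hA5 : 5 ≤ Nat.card A := by
    obtain ⟨a, ha, hne⟩ := M.moved
    let cb : A → A := fun x => ⟨b * x * b⁻¹, hAn.conj_mem _ x.2 b⟩
    have hucb : ∀ x : A, u.1 (cb x) = u.1 x := fun x => by
      have h := congrFun (congrArg Subtype.val hu) (cb x)
      rw [perm_val] at h
      refine h.symm.trans (congrArg u.1 (Subtype.ext ?_))
      rw [MulAut.conjNormal_symm_apply]
      show b⁻¹ * (b * (x : L) * b⁻¹) * b = x
      group
    have hinv : ∀ x : A, x * x = 1 := fun x => Subtype.ext (by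
      rw [Subgroup.coe_mul, ← pow_two]; exact M.sqA _ x.2)
    set d : A := ⟨a, ha⟩ * cb ⟨a, ha⟩ with hd
    have hud : u.1 d = 1 := by rw [hd, val_mul, hucb, val_sq M.sqA]
    have hd1 : d ≠ 1 := by
      intro e
      refine hne ?_
      have e1 : (⟨a, ha⟩ : A) = cb ⟨a, ha⟩ := by
        rw [← inv_eq_of_mul_eq_one_right e]
        exact (inv_eq_of_mul_eq_one_right (hinv _)).symm
      have e' : a = b * a * b⁻¹ := congrArg Subtype.val e1
      calc b * a = b * a * b⁻¹ * b := by group
        _ = a * b := by rw [← e']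
    have hsd : ∀ x, α (d : L) x = x.1 d := fun x => M.sign_of_memA hB hα d.2 x
    have hcbd : cb d ≠ d := by
      intro e
      have hk : ∀ x : Wts τ A, x.1 d = (π b x).1 d := fun x => by
        rw [perm_val]
        refine congrArg x.1 (Subtype.ext ?_)
        rw [MulAut.conjNormal_symm_apply]
        have e' : b * (d : L) * b⁻¹ = d := congrArg Subtype.val e
        calc (d : L) = b⁻¹ * (b * (d : L) * b⁻¹) * b := by group
          _ = b⁻¹ * (d : L) * b := by rw [e']
      have hprod := M.prod_sign hα (M.leR d.2)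
      rw [← Finset.mul_prod_erase _ _ (Finset.mem_univ u), hsd, hud, one_mul,
        Finset.prod_congr rfl (g := fun _ => p.1 d) (fun x hx => ?_), Finset.prod_const,
        Finset.card_erase_of_mem (Finset.mem_univ u), Finset.card_univ, hcard] at hprod
      · have hp1 : p.1 d = 1 := by
          rw [← hprod, show 4 - 1 = 3 from rfl, pow_succ, pow_two, val_sq M.sqA, one_mul]
        refine hd1 (Subtype.ext (M.ext_of_sign hα ?_ fun x => ?_))
        · rw [M.perm_of_memA hB hα d.2, Subgroup.coe_one, map_one]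
        · rw [Subgroup.coe_one, M.sign_one hα, hsd]
          rcases huall x with rfl | rfl | rfl | rfl
          exacts [hud, hp1, (hk p).symm.trans hp1, (hk _).symm.trans ((hk p).symm.trans hp1)]
      · rcases huall x with rfl | rfl | rfl | rfl
        · exact absurd rfl (Finset.ne_of_mem_erase hx)
        · exact hsd _
        · rw [hsd, ← hk]
        · rw [hsd, ← hk, ← hk]
    obtain ⟨t', ht'⟩ : ∃ t : Wts τ A, t.1 d ≠ 1 := by
      by_contra hno
      push Not at hno
      refine hd1 (Subtype.ext (M.ext_of_sign hα ?_ fun x => ?_))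
      · rw [M.perm_of_memA hB hα d.2, Subgroup.coe_one, map_one]
      · rw [Subgroup.coe_one, M.sign_one hα, hsd]; exact hno x
    obtain ⟨r₁, -, hr₁⟩ := hall t'
    set e : A := ⟨r₁⁻¹ * d * r₁, by simpa using hAn.conj_mem _ d.2 r₁⁻¹⟩ with he
    have hue : u.1 e ≠ 1 := by
      intro h
      refine ht' ?_
      rw [← hr₁, perm_val]
      refine Eq.trans (congrArg u.1 (Subtype.ext ?_)) h
      rw [MulAut.conjNormal_symm_apply]
    have h1 : u.1 (cb d) = 1 := (hucb d).trans hud
    have h2 : u.1 (d * cb d) = 1 := by rw [val_mul, hud, h1, one_mul]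
    have n1 : cb d ≠ 1 := fun h => hd1 (Subtype.ext (by
      have h' : b * (d : L) * b⁻¹ = 1 := congrArg Subtype.val h
      calc (d : L) = b⁻¹ * (b * (d : L) * b⁻¹) * b := by group
        _ = 1 := by rw [h']; group))
    have hs5 : ({1, d, cb d, d * cb d, e} : Finset A).card = 5 := by
      rw [Finset.card_insert_of_notMem, Finset.card_insert_of_notMem, Finset.card_insert_of_notMem,
        Finset.card_pair]
      · exact fun h => hue (h ▸ h2)
      · simp only [Finset.mem_insert, Finset.mem_singleton, not_or]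
        exact ⟨fun h => hd1 (right_eq_mul.mp (h.trans rfl)), fun h => hue (h ▸ h1)⟩
      · simp only [Finset.mem_insert, Finset.mem_singleton, not_or]
        exact ⟨hcbd.symm, fun h => n1 (left_eq_mul.mp h), fun h => hue (h ▸ hud)⟩
      · simp only [Finset.mem_insert, Finset.mem_singleton, not_or]
        refine ⟨hd1.symm, n1.symm, fun h => hcbd ?_, fun h => hue (h ▸ val_one u)⟩
        rw [← inv_eq_of_mul_eq_one_right h.symm]
        exact inv_eq_of_mul_eq_one_right (hinv d)
    letI := Fintype.ofFinite A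
    rw [← hs5, Nat.card_eq_fintype_card]
    exact Finset.card_le_univ _
  have hA8 : Nat.card A = 8 := by
    obtain ⟨k, hk⟩ := IsPGroup.iff_card.mp hA2
    have hle := hAker.trans hkerle
    rw [hk] at hA5 hle ⊢
    have : k ≤ 3 := Nat.le_of_not_lt fun h => by
      have := Nat.pow_le_pow_right (show 0 < 2 by norm_num) h; omega
    interval_cases k <;> omega
  have hR32 : Nat.card R = 32 := by
    have h := f.ker.card_mul_index
    rw [Subgroup.index_ker, hfr, show Nat.card f.ker = 8 by omega] at h
    omega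
  have hR2g : IsPGroup 2 R := IsPGroup.of_card (n := 5) hR32
  -- the squares are scalar
  have hscalar : ∀ r ∈ R, π (r * r) = 1 ∧ ∀ x, α (r * r) x = α (r * r) u := by
    intro r hr
    obtain ⟨hsq, hfix⟩ := hperm r hr
    have hπ2 : π (r * r) = 1 := by rw [map_mul, hsq]
    refine ⟨hπ2, fun x => ?_⟩
    rw [M.sign_mul hα, M.sign_mul hα]
    by_cases h1 : π r = 1
    · rw [h1, Equiv.Perm.one_apply, Equiv.Perm.one_apply, M.sign_sq hα, M.sign_sq hα]
    have hnf : ∀ i, π r i ≠ i := fun i hi => h1 (hfix i hi)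
    have hinvol : ∀ i, π r (π r i) = i := fun i => by rw [← Equiv.Perm.mul_apply, hsq]; rfl
    by_cases hxu : x = u
    · rw [hxu]
    by_cases hxu' : x = π r u
    · rw [hxu', hinvol, mul_comm]
    have hne' : π r x ≠ u ∧ π r x ≠ π r u :=
      ⟨fun e => hxu' (by rw [← e, hinvol]), fun e => hxu ((π r).injective e)⟩
    have huniv : ({u, π r u, x, π r x} : Finset _) = Finset.univ := by
      refine Finset.eq_univ_of_card _ ?_
      rw [hcard, Finset.card_insert_of_notMem (by
        simp only [Finset.mem_insert, Finset.mem_singleton, not_or]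
        exact ⟨(hnf u).symm, fun e => hxu e.symm, fun e => hne'.1 e.symm⟩), Finset.card_insert_of_notMem (by
        simp only [Finset.mem_insert, Finset.mem_singleton, not_or]
        exact ⟨fun e => hxu' e.symm, fun e => hne'.2 e.symm⟩), Finset.card_pair (hnf x).symm]
    have hprod := M.prod_sign hα hr
    rw [← huniv, Finset.prod_insert (by
        simp only [Finset.mem_insert, Finset.mem_singleton, not_or]
        exact ⟨(hnf u).symm, fun e => hxu e.symm, fun e => hne'.1 e.symm⟩), Finset.prod_insert (by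
        simp only [Finset.mem_insert, Finset.mem_singleton, not_or]
        exact ⟨fun e => hxu' e.symm, fun e => hne'.2 e.symm⟩), Finset.prod_pair (hnf x).symm] at hprod
    exact zmod_pair (M.sign_sq hα r x) (M.sign_sq hα r _) (M.sign_sq hα r u) (M.sign_sq hα r _)
      (by rw [← hprod]; ring)
  refine Or.inr ⟨isExtraspecial_of_squares hR2g ?_ (fun r => ?_) ?_, hR32, A, M.leR, ⟨M.commA, M.sqA⟩, hA8⟩
  · -- centre
    have hz : ∀ z : Subgroup.center R, π ((z : R) : L) = 1 ∧ ∀ x, α ((z : R) : L) x = α ((z : R) : L) u := by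
      intro z
      have hzc : ∀ r ∈ R, r * ((z : R) : L) = (z : R) * r := fun r hr =>
        congrArg Subtype.val (Subgroup.mem_center_iff.mp z.2 ⟨r, hr⟩)
      have h1 : π ((z : R) : L) = 1 := by
        refine Equiv.ext fun x => Subtype.ext ?_
        funext c
        show x.1 ((MulAut.conjNormal ((z : R) : L)).symm c) = x.1 c
        refine congrArg x.1 (Subtype.ext ?_)
        rw [MulAut.conjNormal_symm_apply, mul_assoc, hzc c (M.leR c.2), inv_mul_cancel_left]
      refine ⟨h1, fun x => ?_⟩
      obtain ⟨r, hr, rfl⟩ := hall x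
      have := congrArg (fun g => α g u) (hzc r hr)
      rw [M.sign_mul hα, M.sign_mul hα, h1, Equiv.Perm.one_apply, mul_comm (α r u)] at this
      exact (mul_right_cancel₀ (M.sign_ne_zero hα r u) this).symm
    refine le_trans (Nat.card_le_card_of_injective
      (fun z : Subgroup.center R => decide (α ((z : R) : L) u = 1)) ?_) (by simp)
    intro z z' h
    simp only [decide_eq_decide] at h
    refine Subtype.ext (Subtype.ext (M.ext_of_sign hα ((hz z).1.trans (hz z').1.symm) fun x => ?_))
    rw [(hz z).2, (hz z').2]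
    rcases zmod_sq_cases (M.sign_sq hα ((z : R) : L) u) with e | e <;>
      rcases zmod_sq_cases (M.sign_sq hα ((z' : R) : L) u) with e' | e' <;> rw [e, e'] at h ⊢ <;> revert h <;> decide
  · rw [Subgroup.mem_center_iff]
    intro q
    refine Subtype.ext (M.ext_of_sign hα ?_ fun x => ?_)
    · simp only [Subgroup.coe_mul, map_mul, pow_two]
      rw [← map_mul _ (r : L) (r : L), (hscalar r r.2).1, mul_one, one_mul]
    · simp only [Subgroup.coe_mul, pow_two]
      rw [M.sign_mul hα (q : L) ((r : L) * r), M.sign_mul hα ((r : L) * r) (q : L), (hscalar r r.2).1,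
        Equiv.Perm.one_apply, (hscalar r r.2).2 x,
        (hscalar r r.2).2 (π q x), mul_comm]
  · obtain ⟨a, ha, hne⟩ := M.moved
    by_contra hcom
    push Not at hcom
    have hAc : A ≤ Subgroup.centralizer (R : Set L) := fun x hx => Subgroup.mem_centralizer_iff.mpr fun r hr =>
      congrArg Subtype.val (hcom ⟨r, hr⟩ ⟨x, M.leR hx⟩)
    obtain ⟨c, hc⟩ : ∃ c : A, u.1 c ≠ p.1 c := Function.ne_iff.mp fun e => huT.1 (Subtype.ext e)
    obtain ⟨r, hr, hru⟩ := hall p
    refine hc ?_
    rw [← hru, perm_val]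
    refine congrArg u.1 (Subtype.ext ?_)
    rw [MulAut.conjNormal_symm_apply, mul_assoc, ← Subgroup.mem_centralizer_iff.mp (hAc c.2) r hr,
      inv_mul_cancel_left]

end Mono

theorem concl_of_mono {L : Type*} [Group L] [Finite L] {V : Type*} [AddCommGroup V] [Module (ZMod 3) V]
    [Finite V] {τ : Representation (ZMod 3) L V} {R : Subgroup L} {b : L} {A : Subgroup L}
    (M : Mono τ R b A) : Concl R := by
  classical
  haveI := M.normalA
  haveI : Fintype (Wts τ A) := Fintype.ofFinite _
  obtain ⟨B, α, hB, hα⟩ := M.exists_monomial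
  exact M.concl hB hα

end CfsgLib.Solvable.RankTwoUnipotent
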