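import Cfsg.Agent.Lib.Solvable.RankTwoUnipotent.Cores

/-!
The scalar case: the structure of `F = O₂`.
-/

set_option autoImplicit false
set_option linter.unusedSectionVars false

open scoped commutatorElement

namespace CfsgLib.Solvable.RankTwoUnipotent

namespace Scalar

variable {L : Type*} [Group L] [Finite L] {V : Type*} [AddCommGroup V] [Module (ZMod 3) V] [Finite V]
  {τ : Representation (ZMod 3) L V} {R : Subgroup L} {b : L} {Q : Subgroup L}
variable (H : Scalar τ R b Q)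

include H

theorem isPGroup_of_nilpotent {N : Subgroup L} (hN : N.Normal) (hNR : N ≤ R) (hnil : Group.IsNilpotent N) :
    IsPGroup 2 N := by
  haveI := hN
  rw [IsPGroup.iff_orderOf]
  intro x
  refine ⟨(orderOf x).primeFactorsList.length, Nat.eq_prime_pow_of_unique_prime_dvd (orderOf_pos x).ne' fun {q} hq hqx => ?_⟩
  by_contra hq2
  haveI := Fact.mk hq
  obtain ⟨P⟩ : Nonempty (Sylow q N) := inferInstance
  haveI := hnil
  haveI : (P : Subgroup N).Normal := inferInstance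
  haveI : (P : Subgroup N).Characteristic := P.characteristic_of_normal inferInstance
  have hPne : (P : Subgroup N) ≠ ⊥ :=
    P.ne_bot_of_dvd_card (hqx.trans (orderOf_dvd_natCard x))
  haveI : Nontrivial (P : Subgroup N) := (Subgroup.nontrivial_iff_ne_bot _).mpr hPne
  haveI := P.2.center_nontrivial
  obtain ⟨⟨z, hz⟩, hz1⟩ := exists_ne (1 : Subgroup.center (P : Subgroup N))
  set P' : Subgroup L := (P : Subgroup N).map N.subtype with hP'
  haveI : P'.Normal := ConjAct.normal_of_characteristic_of_normal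
  set Z' : Subgroup L := P' ⊓ Subgroup.centralizer (P' : Set L) with hZ'
  have hcomm : IsMulCommutative Z' := ⟨⟨fun a c => Subtype.ext (Subgroup.mem_centralizer_iff.mp c.2.2 a a.2.1)⟩⟩
  have hodd : ∀ m ∈ Z', Odd (orderOf m) := by
    rintro m ⟨⟨y, hy, rfl⟩, -⟩
    obtain ⟨k, hk⟩ := (IsPGroup.iff_orderOf.mp P.2) ⟨y, hy⟩
    rw [Subgroup.subtype_apply, Subgroup.orderOf_coe, ← Subgroup.orderOf_mk y hy, hk]
    exact (hq.odd_of_ne_two hq2).pow
  have hZ'n : Z'.Normal := inferInstance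
  have hmem : ((z : N) : L) ∈ Z' := by
    refine ⟨⟨z, z.2, rfl⟩, Subgroup.mem_centralizer_iff.mpr ?_⟩
    rintro _ ⟨y, hy, rfl⟩
    exact congrArg (fun t : (P : Subgroup N) => ((t : N) : L)) (Subgroup.mem_center_iff.mp hz ⟨y, hy⟩)
  have h1 := H.odd_abelian_eq_one hZ'n ((inf_le_left.trans (Subgroup.map_subtype_le _)).trans hNR) hcomm hodd hmem
  exact hz1 (Subtype.ext (Subtype.ext (Subtype.ext h1)))

theorem abelian_le_zs {A : Subgroup L} (hA : A.Normal) (hAR : A ≤ R) (hc : IsMulCommutative A) : A ≤ H.zs := by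
  haveI := hA
  haveI := hc
  have h2 := H.isPGroup_of_nilpotent hA hAR
    (by letI : CommGroup A := { (inferInstance : Group A) with mul_comm := fun x y => hc.is_comm.comm x y }
        exact CommGroup.isNilpotent)
  have hmm : ∀ a ∈ A, ∀ c ∈ A, a * c = c * a := fun a ha c hc' =>
    congrArg Subtype.val (hc.is_comm.comm ⟨a, ha⟩ ⟨c, hc'⟩)
  have hinvol : ∀ a ∈ A, a * a = 1 → a ∈ H.zs := by
    intro a ha h
    let A₂ : Subgroup L :=
      { carrier := {x | x ∈ A ∧ x * x = 1}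
        one_mem' := ⟨A.one_mem, one_mul 1⟩
        mul_mem' := fun {x y} hx hy => ⟨A.mul_mem hx.1 hy.1, by
          rw [mul_assoc, ← mul_assoc y, hmm y hy.1 x hx.1, mul_assoc, ← mul_assoc x, hy.2, mul_one, hx.2]⟩
        inv_mem' := fun {x} hx => ⟨A.inv_mem hx.1, by rw [← mul_inv_rev, hx.2, inv_one]⟩ }
    have hA₂ : A₂.Normal := ⟨fun x hx g => ⟨hA.conj_mem x hx.1 g, by
      rw [show g * x * g⁻¹ * (g * x * g⁻¹) = g * (x * x) * g⁻¹ by group, hx.2, mul_one, mul_inv_cancel]⟩⟩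
    haveI := hA₂
    exact H.mem_zs (hAR ha) fun g => H.toRank2.central_of_comm
      (H.central A₂ hA₂ (fun x hx => hAR hx.1)
        ⟨⟨fun x y => Subtype.ext (hmm x x.2.1 y y.2.1)⟩⟩ (fun x hx => (pow_two x).trans hx.2))
      (a := a) ⟨ha, h⟩ g
  have hstep : ∀ a ∈ A, a * a ∈ H.zs → a ∈ H.zs := by
    intro a ha h
    let A₄ : Subgroup L :=
      { carrier := {x | x ∈ A ∧ x * x ∈ H.zs}
        one_mem' := ⟨A.one_mem, by rw [one_mul]; exact H.zs.one_mem⟩
        mul_mem' := fun {x y} hx hy => ⟨A.mul_mem hx.1 hy.1, by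
          rw [show x * y * (x * y) = x * x * (y * y) by
            rw [mul_assoc, ← mul_assoc y, hmm y hy.1 x hx.1]; group]
          exact H.zs.mul_mem hx.2 hy.2⟩
        inv_mem' := fun {x} hx => ⟨A.inv_mem hx.1, by rw [← mul_inv_rev]; exact H.zs.inv_mem hx.2⟩ }
    haveI hA₄ : A₄.Normal := ⟨fun x hx g => ⟨hA.conj_mem x hx.1 g, by
      rw [show g * x * g⁻¹ * (g * x * g⁻¹) = g * (x * x) * g⁻¹ by group]
      exact H.zs_normal.conj_mem _ hx.2 g⟩⟩
    refine H.mem_zs (hAR ha) fun g => H.toRank2.central_of_comm (A := A₄) (fun x hx => ?_) ⟨ha, h⟩ g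
    set c := b * x * b⁻¹ * x⁻¹ with hc'
    have hxA := hx.1
    have hbx : b * x * b⁻¹ ∈ A := hA.conj_mem x hxA b
    have hcA : c ∈ A := A.mul_mem hbx (A.inv_mem hxA)
    have hc2 : c * c = 1 := by
      calc c * c = b * x * b⁻¹ * (x⁻¹ * (b * x * b⁻¹)) * x⁻¹ := by rw [hc']; group
        _ = b * x * b⁻¹ * ((b * x * b⁻¹) * x⁻¹) * x⁻¹ := by rw [hmm _ (A.inv_mem hxA) _ hbx]
        _ = b * (x * x) * b⁻¹ * (x * x)⁻¹ := by group
        _ = 1 := by rw [H.zs_central hx.2 b, mul_inv_cancel_right, mul_inv_cancel]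
    have hcz := hinvol c hcA hc2
    have hcb : Commute b c := H.zs_central hcz b
    have e : b * x * b⁻¹ = c * x := by rw [hc']; group
    have hbl : ∀ u, b * (c * u) = c * (b * u) := fun u => hcb.left_comm u
    have h3 : c * c * c * x = x := by
      calc c * c * c * x = c * c * (b * x * b⁻¹) := by rw [e]; group
        _ = b * (c * (c * x)) * b⁻¹ := by rw [hbl, hbl]; group
        _ = b * (c * (b * x * b⁻¹)) * b⁻¹ := by rw [e]
        _ = b * (b * (c * x) * b⁻¹) * b⁻¹ := by rw [hbl x]; group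
        _ = b * (b * (b * x * b⁻¹) * b⁻¹) * b⁻¹ := by rw [e]
        _ = b ^ 3 * x * (b ^ 3)⁻¹ := by rw [pow_succ, pow_two]; group
        _ = x := by rw [H.b_cube]; group
    rw [hc2, one_mul, mul_eq_right] at h3
    rw [h3, one_mul] at e
    calc b * x = b * x * b⁻¹ * b := by group
      _ = x * b := by rw [e]
  intro a ha
  obtain ⟨k, hk⟩ := h2 ⟨a, ha⟩
  have hk' : a ^ 2 ^ k = 1 := congrArg Subtype.val hk
  clear hk
  induction k generalizing a with
  | zero => rw [pow_zero, pow_one] at hk'; rw [hk']; exact H.zs.one_mem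
  | succ k ih =>
    refine hstep a ha (ih (A.mul_mem ha ha) ?_)
    rw [← pow_two, ← pow_mul, ← pow_succ']; exact hk'

omit H in
/-- `O₂`. -/
def fs (_ : Scalar τ R b Q) : Subgroup L := Cfsg.pCore 2 L

theorem fs_normal : H.fs.Normal := CfsgLib.Solvable.Cores.pCore_normal 2

theorem fs_pgroup : IsPGroup 2 H.fs := CfsgLib.Solvable.Cores.isPGroup_pCore 2

theorem fs_le : H.fs ≤ R := by
  intro x hx
  obtain ⟨k, hk⟩ := H.fs_pgroup ⟨x, hx⟩
  have hk' : x ^ 2 ^ k = 1 := congrArg Subtype.val hk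
  haveI := H.normal
  rw [← QuotientGroup.eq_one_iff]
  have h3 : (QuotientGroup.mk' R x) ^ 3 = 1 := by
    obtain ⟨r, hr, j, rfl⟩ := H.toRank2.exists_decomp x
    rw [map_mul, show QuotientGroup.mk' R r = 1 from (QuotientGroup.eq_one_iff r).mpr hr, one_mul, ← map_pow,
      ← zpow_natCast, ← zpow_mul, mul_comm, zpow_mul, zpow_natCast, H.b_cube, one_zpow, map_one]
  have h2 : (QuotientGroup.mk' R x) ^ 2 ^ k = 1 := by rw [← map_pow, hk', map_one]
  have := Nat.dvd_gcd (orderOf_dvd_of_pow_eq_one h3) (orderOf_dvd_of_pow_eq_one h2)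
  rw [Nat.Coprime.gcd_eq_one (Nat.Coprime.pow_right k (by norm_num)), Nat.dvd_one, orderOf_eq_one_iff] at this
  exact this

theorem le_fs {N : Subgroup L} (hN : N.Normal) (h : IsPGroup 2 N) : N ≤ H.fs := by
  haveI := hN
  exact CfsgLib.Solvable.Cores.le_pCore h

theorem not_le_zs : ¬ R ≤ H.zs := by
  intro h
  refine H.nontriv ?_
  rw [← H.idem, Subgroup.commutator_eq_bot_iff_le_centralizer]
  exact fun x hx => Subgroup.mem_centralizer_iff.mpr fun y _ => H.zs_central (h hx) y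

/-- The elements of `H.fs` central in it modulo scalars. -/
def ks (H : Scalar τ R b Q) : Subgroup L where
  carrier := {k | k ∈ H.fs ∧ ∀ f ∈ H.fs, ⁅k, f⁆ ∈ H.zs}
  one_mem' := ⟨H.fs.one_mem, fun f _ => by rw [commutatorElement_one_left]; exact H.zs.one_mem⟩
  mul_mem' := by
    rintro k k' ⟨hk, hk1⟩ ⟨hk', hk1'⟩
    refine ⟨H.fs.mul_mem hk hk', fun f hf => ?_⟩
    rw [show ⁅k * k', f⁆ = k * ⁅k', f⁆ * k⁻¹ * ⁅k, f⁆ by simp only [commutatorElement_def]; group]
    exact H.zs.mul_mem (H.zs_normal.conj_mem _ (hk1' f hf) k) (hk1 f hf)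
  inv_mem' := by
    rintro k ⟨hk, hk1⟩
    refine ⟨H.fs.inv_mem hk, fun f hf => ?_⟩
    rw [show ⁅k⁻¹, f⁆ = k⁻¹ * ⁅k, f⁆⁻¹ * k⁻¹⁻¹ by simp only [commutatorElement_def]; group]
    exact H.zs_normal.conj_mem _ (H.zs.inv_mem (hk1 f hf)) k⁻¹

theorem ks_normal : H.ks.Normal := ⟨fun k hk g => ⟨H.fs_normal.conj_mem k hk.1 g, fun f hf => by
  rw [show ⁅g * k * g⁻¹, f⁆ = g * ⁅k, g⁻¹ * f * g⁆ * g⁻¹ by simp only [commutatorElement_def]; group]
  exact H.zs_normal.conj_mem _ (hk.2 _ (by simpa using H.fs_normal.conj_mem f hf g⁻¹)) g⟩⟩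

theorem centralizer_ks : R ⊓ Subgroup.centralizer (H.ks : Set L) ≤ H.zs := by
  classical
  haveI := H.ks_normal
  haveI := H.normal
  haveI := H.fs_normal
  haveI := H.zs_normal
  set D := R ⊓ Subgroup.centralizer (H.ks : Set L) with hD
  haveI hDn : D.Normal := inferInstance
  have hDF : D ⊓ H.fs ≤ H.zs := by
    by_contra hno
    -- a fixed point of `H.fs` on the image in `L ⧸ zs`
    set π := QuotientGroup.mk' H.zs
    set Dq := (D ⊓ H.fs).map π with hDq
    haveI : Dq.Normal := Subgroup.Normal.map inferInstance π (QuotientGroup.mk'_surjective _)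
    have hp : IsPGroup 2 Dq := (H.fs_pgroup.to_le inf_le_right).map π
    have hne : Dq ≠ ⊥ := fun e => hno (by
      intro x hx
      have : π x ∈ Dq := Subgroup.mem_map_of_mem π hx
      rwa [e, Subgroup.mem_bot, QuotientGroup.mk'_apply, QuotientGroup.eq_one_iff] at this)
    haveI : Nontrivial Dq := (Subgroup.nontrivial_iff_ne_bot _).mpr hne
    haveI : Fact (Nat.Prime 2) := ⟨Nat.prime_two⟩
    have hd : 2 ∣ Nat.card Dq := by
      obtain ⟨n, hn0, hn⟩ := hp.nontrivial_iff_card.mp inferInstance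
      rw [hn]; exact dvd_pow_self 2 hn0.ne'
    letI : MulAction H.fs Dq := MulAction.compHom Dq
      ((MulAut.conjNormal (H := Dq)).comp (π.comp H.fs.subtype))
    obtain ⟨y, hy, hy1⟩ := H.fs_pgroup.exists_fixed_point_of_prime_dvd_card_of_fixed_point Dq hd (a := 1)
      (fun f => map_one ((MulAut.conjNormal (H := Dq)) (π f)))
    obtain ⟨d, ⟨hdD, hdF⟩, hdy⟩ := y.2
    have hdK : d ∈ H.ks := by
      refine ⟨hdF, fun f hf => ?_⟩
      rw [← QuotientGroup.eq_one_iff]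
      show π ⁅d, f⁆ = 1
      rw [map_commutatorElement, commutatorElement_eq_one_iff_mul_comm]
      have h := congrArg Subtype.val (hy ⟨f, hf⟩)
      change π f * (y : L ⧸ H.zs) * (π f)⁻¹ = y at h
      rw [← hdy] at h
      calc π d * π f = π f * π d * (π f)⁻¹ * π f := by rw [h]
        _ = π f * π d := by group
    let Y := H.ks ⊓ D
    have hY := H.abelian_le_zs (A := Y) inferInstance (inf_le_right.trans inf_le_left)
      ⟨⟨fun u v => Subtype.ext (Subgroup.mem_centralizer_iff.mp v.2.2.2 u u.2.1)⟩⟩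
    refine hy1 (Subtype.ext ?_)
    rw [Subgroup.coe_one, ← hdy]
    exact ((QuotientGroup.eq_one_iff d).mpr (hY ⟨hdK, hdD⟩)).symm
  by_contra hno
  obtain ⟨i, hi⟩ := (Group.isSolvable_def (G := D)).mp (by haveI := H.solvable; infer_instance)
  let N : ℕ → Subgroup L := fun k => (derivedSeries D k).map D.subtype
  have hN0 : ¬ N 0 ≤ H.zs := by
    intro h
    refine hno fun x hx => h ⟨⟨x, hx⟩, ?_, rfl⟩
    rw [derivedSeries_zero]; trivial
  have hNi : N i ≤ H.zs := by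
    simp only [N, hi, Subgroup.map_bot]; exact bot_le
  obtain ⟨k, hk, hk'⟩ : ∃ k, ¬ N k ≤ H.zs ∧ N (k + 1) ≤ H.zs := by
    by_contra h
    push Not at h
    have : ∀ k, ¬ N k ≤ H.zs := fun k => by
      induction k with
      | zero => exact hN0
      | succ k ih => exact h k ih
    exact this i hNi
  haveI : (derivedSeries D k).Characteristic := derivedSeries_characteristic D k
  haveI hNn : (N k).Normal := ConjAct.normal_of_characteristic_of_normal
  have hNR : N k ≤ R := (Subgroup.map_subtype_le _).trans inf_le_left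
  refine hk (le_trans (le_inf (Subgroup.map_subtype_le _) (H.le_fs hNn (H.isPGroup_of_nilpotent hNn hNR ?_))) hDF)
  have hcent : (Abelianization.of : N k →* Abelianization (N k)).ker ≤ Subgroup.center (N k) := by
    rw [Abelianization.ker_of]
    intro u hu
    have hu' : (u : L) ∈ H.zs := by
      refine hk' ?_
      have h1 : (u : L) ∈ ⁅N k, N k⁆ := by
        rw [← Subgroup.map_subtype_commutator]; exact ⟨u, hu, rfl⟩
      simp only [N, ← Subgroup.map_commutator, ← derivedSeries_succ] at h1 ⊢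
      exact h1
    rw [Subgroup.mem_center_iff]
    exact fun g => Subtype.ext (H.zs_central hu' g)
  exact isNilpotent_of_ker_le_center _ hcent

theorem fs_props : (∀ f ∈ H.fs, ∀ g ∈ H.fs, ⁅f, g⁆ ∈ H.zs) ∧ (∀ f ∈ H.fs, f * f ∈ H.zs) ∧
    (∀ r ∈ R, (∀ f ∈ H.fs, ⁅r, f⁆ ∈ H.zs) → r ∈ H.fs) ∧
    ∀ r ∈ R, (∀ f ∈ H.fs, r * f = f * r) → r ∈ H.zs := by
  have hsq : ∀ r, (∀ k ∈ H.ks, ⁅r, k⁆ ∈ H.zs) → ∀ k ∈ H.ks, Commute k (r * r) := by
    intro r hr k hk
    set z := ⁅r, k⁆ with hz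
    have hzc : Commute r z := H.zs_central (hr k hk) r
    have e : r * k = z * k * r := by rw [hz, commutatorElement_def]; group
    show k * (r * r) = r * r * k
    calc k * (r * r) = z * z * (k * (r * r)) := by rw [H.zs_sq (hr k hk), one_mul]
      _ = z * (z * k * r) * r := by group
      _ = z * r * k * r := by rw [← e]; group
      _ = r * (z * k * r) := by rw [← hzc.eq]; group
      _ = r * (r * k) := by rw [e]
      _ = r * r * k := by rw [mul_assoc]
  have hfK : ∀ f ∈ H.fs, ∀ k ∈ H.ks, ⁅f, k⁆ ∈ H.zs := fun f hf k hk => by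
    rw [← commutatorElement_inv k f]; exact H.zs.inv_mem (hk.2 f hf)
  let R₀ : Subgroup L :=
    { carrier := {r | r ∈ R ∧ ∀ k ∈ H.ks, ⁅r, k⁆ ∈ H.zs}
      one_mem' := ⟨R.one_mem, fun k _ => by rw [commutatorElement_one_left]; exact H.zs.one_mem⟩
      mul_mem' := fun {r r'} hr hr' => ⟨R.mul_mem hr.1 hr'.1, fun k hk => by
        rw [show ⁅r * r', k⁆ = r * ⁅r', k⁆ * r⁻¹ * ⁅r, k⁆ by simp only [commutatorElement_def]; group]
        exact H.zs.mul_mem (H.zs_normal.conj_mem _ (hr'.2 k hk) r) (hr.2 k hk)⟩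
      inv_mem' := fun {r} hr => ⟨R.inv_mem hr.1, fun k hk => by
        rw [show ⁅r⁻¹, k⁆ = r⁻¹ * ⁅r, k⁆⁻¹ * r⁻¹⁻¹ by simp only [commutatorElement_def]; group]
        exact H.zs_normal.conj_mem _ (H.zs.inv_mem (hr.2 k hk)) r⁻¹⟩ }
  have hR₀n : R₀.Normal := ⟨fun r hr g => ⟨H.normal.conj_mem r hr.1 g, fun k hk => by
    rw [show ⁅g * r * g⁻¹, k⁆ = g * ⁅r, g⁻¹ * k * g⁆ * g⁻¹ by simp only [commutatorElement_def]; group]
    exact H.zs_normal.conj_mem _ (hr.2 _ (by simpa using H.ks_normal.conj_mem k hk g⁻¹)) g⟩⟩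
  have hsq₀ : ∀ r, r ∈ R → (∀ k ∈ H.ks, ⁅r, k⁆ ∈ H.zs) → r * r ∈ H.zs := fun r hr h =>
    H.centralizer_ks ⟨R.mul_mem hr hr, Subgroup.mem_centralizer_iff.mpr fun k hk => hsq r h k hk⟩
  have hR₀2 : IsPGroup 2 R₀ := fun r => ⟨2, Subtype.ext (by
    show (r : L) ^ 2 ^ 2 = 1
    rw [show (r : L) ^ 2 ^ 2 = ((r : L) * r) * ((r : L) * r) by norm_num [pow_succ, mul_assoc]]
    exact H.zs_sq (hsq₀ r r.2.1 r.2.2))⟩
  have hR₀F : R₀ ≤ H.fs := H.le_fs hR₀n hR₀2
  -- commutators of `H.fs` centralize `H.ks`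
  have hF' : ∀ f ∈ H.fs, ∀ g ∈ H.fs, ⁅f, g⁆ ∈ H.zs := by
    intro f hf g hg
    refine H.centralizer_ks ⟨H.fs_le ?_, Subgroup.mem_centralizer_iff.mpr fun k hk => ?_⟩
    · rw [commutatorElement_def]
      exact H.fs.mul_mem (H.fs.mul_mem (H.fs.mul_mem hf hg) (H.fs.inv_mem hf)) (H.fs.inv_mem hg)
    · have hcj : ∀ u ∈ H.fs, ∃ z ∈ H.zs, u * k * u⁻¹ = z * k := fun u hu =>
        ⟨⁅u, k⁆, hfK u hu k hk, by rw [commutatorElement_def]; group⟩
      obtain ⟨z, hz, ez⟩ := hcj f hf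
      obtain ⟨w, hw, ew⟩ := hcj g hg
      have hgi : g⁻¹ * k * g = w⁻¹ * k := by
        have := H.zs_central (H.zs.inv_mem hw) g⁻¹
        calc g⁻¹ * k * g = g⁻¹ * (w⁻¹ * (g * k * g⁻¹)) * g := by rw [ew]; group
          _ = g⁻¹ * w⁻¹ * g * k := by group
          _ = w⁻¹ * k := by rw [this]; group
      have hfi : f⁻¹ * k * f = z⁻¹ * k := by
        have := H.zs_central (H.zs.inv_mem hz) f⁻¹
        calc f⁻¹ * k * f = f⁻¹ * (z⁻¹ * (f * k * f⁻¹)) * f := by rw [ez]; group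
          _ = f⁻¹ * z⁻¹ * f * k := by group
          _ = z⁻¹ * k := by rw [this]; group
      have hmain : (f * g * f⁻¹ * g⁻¹) * k * (f * g * f⁻¹ * g⁻¹)⁻¹ = k := by
        calc (f * g * f⁻¹ * g⁻¹) * k * (f * g * f⁻¹ * g⁻¹)⁻¹ = f * (g * (f⁻¹ * (g⁻¹ * k * g) * f) * g⁻¹) * f⁻¹ := by group
          _ = f * (g * (w⁻¹ * (f⁻¹ * k * f)) * g⁻¹) * f⁻¹ := by
              rw [hgi, ← mul_assoc f⁻¹, H.zs_central (H.zs.inv_mem hw) f⁻¹]; group
          _ = f * (g * (w⁻¹ * z⁻¹ * k) * g⁻¹) * f⁻¹ := by rw [hfi]; group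
          _ = f * (w⁻¹ * z⁻¹ * (g * k * g⁻¹)) * f⁻¹ := by
              rw [← mul_assoc g, H.zs_central (H.zs.mul_mem (H.zs.inv_mem hw) (H.zs.inv_mem hz)) g]; group
          _ = f * (z⁻¹ * k) * f⁻¹ := by
              rw [ew, show w⁻¹ * z⁻¹ * (w * k) = (w⁻¹ * z⁻¹) * w * k by group,
                ← H.zs_central (H.zs.mul_mem (H.zs.inv_mem hw) (H.zs.inv_mem hz)) w]
              group
          _ = z⁻¹ * (f * k * f⁻¹) := by rw [← mul_assoc f, H.zs_central (H.zs.inv_mem hz) f]; group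
          _ = k := by rw [ez, inv_mul_cancel_left]
      rw [commutatorElement_def]
      calc k * (f * g * f⁻¹ * g⁻¹) = (f * g * f⁻¹ * g⁻¹) * k * (f * g * f⁻¹ * g⁻¹)⁻¹ * (f * g * f⁻¹ * g⁻¹) := by
            rw [hmain]
        _ = f * g * f⁻¹ * g⁻¹ * k := by group
  have hFK : ∀ f ∈ H.fs, f ∈ H.ks := fun f hf => ⟨hf, fun g hg => hF' f hf g hg⟩
  refine ⟨hF', fun f hf => hsq₀ f (H.fs_le hf) fun k hk => hfK f hf k hk, fun r hr h => ?_, fun r hr h => ?_⟩
  · exact hR₀F ⟨hr, fun k hk => h k hk.1⟩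
  · exact H.centralizer_ks ⟨hr, Subgroup.mem_centralizer_iff.mpr fun k hk => (h k hk.1).symm⟩

end Scalar

end CfsgLib.Solvable.RankTwoUnipotent
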