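import Mathlib

/-!
Weight spaces of an elementary abelian 2-group of operators in characteristic three, and the bound on their
dimensions coming from an operator with small displacement that moves them.
-/

set_option autoImplicit false

namespace CfsgLib.Solvable.RankTwoUnipotent

variable {L : Type*} [Group L] {V : Type*} [AddCommGroup V] [Module (ZMod 3) V]
variable (τ : Representation (ZMod 3) L V) (A : Subgroup L)

/-- The weight space of `c` on `A`. -/
def wt (c : A → ZMod 3) : Submodule (ZMod 3) V where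
  carrier := {v | ∀ a : A, τ a v = c a • v}
  zero_mem' a := by simp
  add_mem' hv hw a := by rw [map_add, hv a, hw a, smul_add]
  smul_mem' k v hv a := by rw [map_smul, hv a, smul_comm]

variable {τ A}

theorem mem_wt {c : A → ZMod 3} {v : V} : v ∈ wt τ A c ↔ ∀ a : A, τ a v = c a • v := Iff.rfl

theorem zmod_three_cases (x : ZMod 3) : x = 0 ∨ x = 1 ∨ x = -1 := by
  revert x; decide

theorem split (v w : V) : v = -(v + w) + -(v - w) := by
  have h : (3 : ZMod 3) • v = 0 := by rw [show (3 : ZMod 3) = 0 from rfl, zero_smul]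
  have h' : v + v + v = 0 := by
    rw [← h, show (3 : ZMod 3) = 1 + 1 + 1 from rfl, add_smul, add_smul, one_smul]
  calc v = v - (v + v + v) := by rw [h', sub_zero]
    _ = -(v + w) + -(v - w) := by abel

theorem apply_mul (g h : L) (v : V) : τ (g * h) v = τ g (τ h v) := by rw [map_mul]; rfl

theorem apply_one (v : V) : τ 1 v = v := by rw [map_one]; rfl

theorem apply_inv (g : L) (v : V) : τ g⁻¹ (τ g v) = v := by rw [← apply_mul, inv_mul_cancel, apply_one]

theorem apply_inv' (g : L) (v : V) : τ g (τ g⁻¹ v) = v := by rw [← apply_mul, mul_inv_cancel, apply_one]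

/-- Two weights with a common nonzero vector coincide. -/
theorem weight_eq {c c' : A → ZMod 3} {v : V} (hv : v ∈ wt τ A c) (hv' : v ∈ wt τ A c') (h0 : v ≠ 0) :
    c = c' := by
  funext a
  exact smul_left_injective (ZMod 3) h0 ((hv a).symm.trans (hv' a))

theorem sum_wt_eq_zero (s : Finset (A → ZMod 3)) :
    ∀ (f : (A → ZMod 3) → V), (∀ c ∈ s, f c ∈ wt τ A c) → ∑ c ∈ s, f c = 0 → ∀ c ∈ s, f c = 0 := by
  classical
  induction s using Finset.induction_on with
  | empty => simp
  | @insert c0 s hc0 ih =>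
    intro f hf hsum
    rw [Finset.sum_insert hc0] at hsum
    have hs : ∀ c ∈ s, f c = 0 := by
      intro c hc
      obtain ⟨a, ha⟩ := Function.ne_iff.mp (show c ≠ c0 from fun e => hc0 (e ▸ hc))
      have h1 := congrArg (fun v => τ a v - c0 a • v) hsum
      simp only [map_add, map_sum, smul_add, map_zero, smul_zero, sub_zero] at h1
      rw [hf c0 (Finset.mem_insert_self _ _) a, add_sub_add_left_eq_sub, Finset.smul_sum,
        ← Finset.sum_sub_distrib] at h1
      have h2 := ih (fun d => (d a - c0 a) • f d)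
        (fun d hd => (wt τ A d).smul_mem _ (hf d (Finset.mem_insert_of_mem hd))) (by
          rw [← h1]
          exact Finset.sum_congr rfl fun d hd => by rw [sub_smul, hf d (Finset.mem_insert_of_mem hd) a]) c hc
      exact (smul_eq_zero.mp h2).resolve_left (sub_ne_zero.mpr ha)
    rw [Finset.sum_eq_zero hs, add_zero] at hsum
    intro c hc
    rcases Finset.mem_insert.mp hc with rfl | hc
    · exact hsum
    · exact hs c hc

theorem iSupIndep_wt : iSupIndep (wt τ A) := by
  classical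
  rw [iSupIndep_iff_finsetSum_eq_zero_imp_eq_zero]
  intro s f hf hsum c hc
  exact sum_wt_eq_zero s f hf hsum c hc

section Elementary

variable (hA : IsMulCommutative A) (h2 : ∀ a ∈ A, a ^ 2 = 1)

include hA h2

theorem exists_wt (N : Submodule (ZMod 3) V) (hN : ∀ a ∈ A, ∀ v ∈ N, τ a v ∈ N) (s : Set A) (hs : s.Finite)
    {v : V} (hv : v ∈ N) :
    v ∈ Submodule.span (ZMod 3) {w | w ∈ N ∧ ∀ a ∈ s, ∃ e : ZMod 3, τ (a : L) w = e • w} := by
  induction s, hs using Set.Finite.induction_on with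
  | empty => exact Submodule.subset_span ⟨hv, by simp⟩
  | @insert a s _ _ ih =>
    revert ih
    suffices h : ∀ w, w ∈ N → (∀ x ∈ s, ∃ e : ZMod 3, τ (x : L) w = e • w) →
        w ∈ Submodule.span (ZMod 3) {w | w ∈ N ∧ ∀ x ∈ insert a s, ∃ e : ZMod 3, τ (x : L) w = e • w} from
      fun ih => Submodule.span_le.mpr (fun w hw => h w hw.1 hw.2) ih
    intro w hwN hw
    have haa : τ (a : L) (τ (a : L) w) = w := by
      rw [← apply_mul, ← pow_two, h2 _ a.2, apply_one]
    have hcomm : ∀ x ∈ s, ∃ e : ZMod 3, τ (x : L) w = e • w ∧ τ (x : L) (τ (a : L) w) = e • τ (a : L) w := by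
      intro x hx
      obtain ⟨e, he⟩ := hw x hx
      refine ⟨e, he, ?_⟩
      have hxa : (x : L) * a = a * x := congrArg Subtype.val (hA.is_comm.comm x a)
      rw [← apply_mul, hxa, apply_mul, he, map_smul]
    rw [split w (τ (a : L) w)]
    refine Submodule.add_mem _ (Submodule.neg_mem _ (Submodule.subset_span ⟨N.add_mem hwN (hN _ a.2 _ hwN), ?_⟩))
      (Submodule.neg_mem _ (Submodule.subset_span ⟨N.sub_mem hwN (hN _ a.2 _ hwN), ?_⟩))
    · intro x hx
      rcases Set.mem_insert_iff.mp hx with rfl | hx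
      · exact ⟨1, by rw [map_add, haa, one_smul, add_comm]⟩
      · obtain ⟨e, h1, h2'⟩ := hcomm x hx
        exact ⟨e, by rw [map_add, h1, h2', smul_add]⟩
    · intro x hx
      rcases Set.mem_insert_iff.mp hx with rfl | hx
      · exact ⟨-1, by rw [map_sub, haa, neg_smul, one_smul, neg_sub]⟩
      · obtain ⟨e, h1, h2'⟩ := hcomm x hx
        exact ⟨e, by rw [map_sub, h1, h2', smul_sub]⟩

theorem le_iSup_wt [Finite A] (N : Submodule (ZMod 3) V) (hN : ∀ a ∈ A, ∀ v ∈ N, τ a v ∈ N) :
    N ≤ ⨆ c, N ⊓ wt τ A c := by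
  intro v hv
  refine Submodule.span_le.mpr ?_ (exists_wt hA h2 N hN Set.univ Set.finite_univ hv)
  rintro w ⟨hwN, hw⟩
  choose e he using fun a => hw a (Set.mem_univ a)
  exact Submodule.mem_iSup_of_mem e ⟨hwN, he⟩

theorem iSup_wt_eq_top [Finite A] : (⨆ c, wt τ A c) = ⊤ :=
  top_le_iff.mp ((le_iSup_wt (τ := τ) hA h2 ⊤ fun _ _ _ _ => trivial).trans (iSup_mono fun _ => inf_le_right))

end Elementary

/-- A weight of a nonzero vector takes the values `±1`. -/
theorem weight_sq {c : A → ZMod 3} {v : V} (hv : v ∈ wt τ A c) (h0 : v ≠ 0) {a : A} (ha : (a : L) ^ 2 = 1) :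
    c a = 1 ∨ c a = -1 := by
  rcases zmod_three_cases (c a) with h | h | h
  · refine absurd ?_ h0
    have h1 := hv a
    rw [h, zero_smul] at h1
    rw [← apply_one (τ := τ) v, ← ha, pow_two, apply_mul, h1, map_zero]
  · exact Or.inl h
  · exact Or.inr h

section Displacement

variable [Finite V]

omit [Finite V] in
theorem sub_mem_range (g : L) (v : V) : τ g v - v ∈ LinearMap.range (τ g - 1) :=
  ⟨v, by simp⟩

/-- If `g` maps three distinct weight spaces along, the first two give displacements. -/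
theorem finrank_add_le {c₁ c₂ c₃ : A → ZMod 3} (h12 : c₁ ≠ c₂) (h13 : c₁ ≠ c₃)
    (h23 : c₂ ≠ c₃) (g : L)
    (hm1 : ∀ v ∈ wt τ A c₁, τ g v ∈ wt τ A c₂) (hm2 : ∀ v ∈ wt τ A c₂, τ g v ∈ wt τ A c₃) :
    Module.finrank (ZMod 3) (wt τ A c₁) + Module.finrank (ZMod 3) (wt τ A c₂) ≤
      Module.finrank (ZMod 3) ((wt τ A c₁ ⊔ wt τ A c₂).map (τ g - 1)) := by
  classical
  rw [← Module.finrank_prod]
  refine LinearMap.finrank_le_finrank_of_injective
    (f := ((τ g - 1).comp ((wt τ A c₁).subtype.coprod (wt τ A c₂).subtype)).codRestrict _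
      (fun x => Submodule.mem_map_of_mem (by
        simpa [LinearMap.coprod_apply] using Submodule.add_mem_sup x.1.2 x.2.2))) ?_
  rw [← LinearMap.ker_eq_bot, LinearMap.ker_eq_bot']
  rintro ⟨⟨v, hv⟩, ⟨w, hw⟩⟩ h
  have h' : (τ g v - v) + (τ g w - w) = 0 := by
    have h'' : (τ g - 1) (((wt τ A c₁).subtype.coprod (wt τ A c₂).subtype) (⟨v, hv⟩, ⟨w, hw⟩)) = 0 :=
      congrArg Subtype.val h
    simpa [LinearMap.coprod_apply, add_sub_add_comm] using h''
  have hv0 : v = 0 := by
    have h1 := (iSupIndep_def.mp (iSupIndep_wt (τ := τ) (A := A))) c₁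
    rw [Submodule.disjoint_def] at h1
    refine h1 v hv ?_
    have e : v = (τ g v - w) + τ g w := by
      rw [← sub_eq_zero]
      rw [← neg_eq_zero, ← h']
      abel
    rw [e]
    refine Submodule.add_mem _ (Submodule.sub_mem _ ?_ ?_) ?_
    · exact Submodule.mem_iSup_of_mem c₂ (Submodule.mem_iSup_of_mem h12.symm (hm1 v hv))
    · exact Submodule.mem_iSup_of_mem c₂ (Submodule.mem_iSup_of_mem h12.symm hw)
    · exact Submodule.mem_iSup_of_mem c₃ (Submodule.mem_iSup_of_mem h13.symm (hm2 w hw))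
  subst hv0
  have hw0 : τ g w = w := by simpa [sub_eq_zero] using h'
  have hw00 : w = 0 := by
    by_contra hne
    exact h23 (weight_eq hw (hw0 ▸ hm2 w hw) hne)
  subst hw00
  rfl

end Displacement

/-- The transported weight `c ∘ (a ↦ g⁻¹ a g)`. -/
def cw [A.Normal] (g : L) (c : A → ZMod 3) : A → ZMod 3 := fun a => c ((MulAut.conjNormal g).symm a)

theorem cw_mul [A.Normal] (g h : L) (c : A → ZMod 3) : cw (g * h) c = cw g (cw h c) := by
  funext a
  simp only [cw]
  congr 1
  apply Subtype.ext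
  rw [MulAut.conjNormal_symm_apply, MulAut.conjNormal_symm_apply, MulAut.conjNormal_symm_apply]
  group

theorem cw_one [A.Normal] (c : A → ZMod 3) : cw 1 c = c := by
  funext a
  simp only [cw]
  congr 1
  apply Subtype.ext
  rw [MulAut.conjNormal_symm_apply]
  group

theorem apply_mem_wt [A.Normal] (g : L) {c : A → ZMod 3} {v : V} (hv : v ∈ wt τ A c) :
    τ g v ∈ wt τ A (cw g c) := by
  intro a
  have h := hv ((MulAut.conjNormal g).symm a)
  rw [MulAut.conjNormal_symm_apply] at h
  rw [← apply_mul, show (a : L) * g = g * (g⁻¹ * a * g) by group, apply_mul, h, map_smul]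
  rfl

section Cycle

variable [A.Normal] [Finite V]

theorem map_wt_le (g : L) (c : A → ZMod 3) : (wt τ A c).map (τ g) ≤ wt τ A (cw g c) := by
  rintro _ ⟨v, hv, rfl⟩
  exact apply_mem_wt g hv

theorem finrank_wt_cw (g : L) (c : A → ZMod 3) :
    Module.finrank (ZMod 3) (wt τ A (cw g c)) = Module.finrank (ZMod 3) (wt τ A c) := by
  have h : ∀ (g : L) (c : A → ZMod 3),
      Module.finrank (ZMod 3) (wt τ A c) ≤ Module.finrank (ZMod 3) (wt τ A (cw g c)) := fun g c => by
    refine LinearMap.finrank_le_finrank_of_injective (f := ((τ g).domRestrict _).codRestrict _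
      fun v => apply_mem_wt g v.2) ?_
    intro u v huv
    have h2 : τ g u = τ g v := congrArg Subtype.val huv
    have h3 := congrArg (τ g⁻¹) h2
    rw [apply_inv, apply_inv] at h3
    exact Subtype.ext h3
  refine le_antisymm ?_ (h g c)
  have := h g⁻¹ (cw g c)
  rwa [← cw_mul, inv_mul_cancel, cw_one] at this

theorem wt_cw_ne_bot (g : L) {c : A → ZMod 3} (h : wt τ A c ≠ ⊥) : wt τ A (cw g c) ≠ ⊥ := by
  rwa [Ne, ← Submodule.finrank_eq_zero (R := ZMod 3), finrank_wt_cw, Submodule.finrank_eq_zero]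

/-- The consequences of rank two for a weight moved by an element of order three. -/
theorem cycle {b : L} (hb3 : b ^ 3 = 1) (hrank : Module.finrank (ZMod 3) (LinearMap.range (τ b - 1)) ≤ 2)
    {c : A → ZMod 3} (hc : wt τ A c ≠ ⊥) (hmove : cw b c ≠ c) :
    Module.finrank (ZMod 3) (wt τ A c) = 1 ∧ cw b (cw b (cw b c)) = c ∧ cw b (cw b c) ≠ c ∧
      cw b (cw b c) ≠ cw b c ∧
      LinearMap.range (τ b - 1) ≤ wt τ A c ⊔ wt τ A (cw b c) ⊔ wt τ A (cw b (cw b c)) ∧
      ∀ c' : A → ZMod 3, wt τ A c' ≠ ⊥ → cw b c' ≠ c' → c' = c ∨ c' = cw b c ∨ c' = cw b (cw b c) := by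
  have h3 : ∀ d : A → ZMod 3, cw b (cw b (cw b d)) = d := fun d => by
    rw [← cw_mul, ← cw_mul, show b * b * b = b ^ 3 by rw [pow_succ, pow_two], hb3, cw_one]
  have key : ∀ d : A → ZMod 3, cw b d ≠ d → cw b (cw b d) ≠ d ∧ cw b (cw b d) ≠ cw b d ∧
      2 * Module.finrank (ZMod 3) (wt τ A d) ≤
        Module.finrank (ZMod 3) ((wt τ A d ⊔ wt τ A (cw b d)).map (τ b - 1)) ∧
      (wt τ A d ⊔ wt τ A (cw b d)).map (τ b - 1) ≤ wt τ A d ⊔ wt τ A (cw b d) ⊔ wt τ A (cw b (cw b d)) := by
    intro d hd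
    have h1 : cw b (cw b d) ≠ d := fun e => hd (by
      conv_rhs => rw [← h3 d, e])
    have h2 : cw b (cw b d) ≠ cw b d := fun e => h1 (by
      calc cw b (cw b d) = cw b (cw b (cw b d)) := by rw [e, e]
        _ = d := h3 d)
    refine ⟨h1, h2, ?_, ?_⟩
    · have := finrank_add_le (τ := τ) hd.symm h1.symm h2.symm b
        (fun v hv => apply_mem_wt b hv) (fun v hv => apply_mem_wt b hv)
      rw [finrank_wt_cw] at this
      omega
    · rw [Submodule.map_sup, sup_le_iff]
      refine ⟨?_, ?_⟩ <;> rintro _ ⟨v, hv, rfl⟩ <;>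
        simp only [LinearMap.sub_apply, Module.End.one_apply]
      · exact Submodule.sub_mem _ (Submodule.mem_sup_left (Submodule.mem_sup_right (apply_mem_wt b hv)))
          (Submodule.mem_sup_left (Submodule.mem_sup_left hv))
      · exact Submodule.sub_mem _ (Submodule.mem_sup_right (apply_mem_wt b hv))
          (Submodule.mem_sup_left (Submodule.mem_sup_right hv))
  obtain ⟨hn1, hn2, hr1, hr2⟩ := key c hmove
  have hpos : 0 < Module.finrank (ZMod 3) (wt τ A c) :=
    Nat.pos_of_ne_zero fun e => hc (Submodule.finrank_eq_zero.mp e)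
  have hsub : (wt τ A c ⊔ wt τ A (cw b c)).map (τ b - 1) ≤ LinearMap.range (τ b - 1) := LinearMap.map_le_range
  have hle2 := (Submodule.finrank_mono hsub).trans hrank
  have hUeq := Submodule.eq_of_le_of_finrank_le hsub (by omega)
  refine ⟨by omega, h3 c, hn1, hn2, hUeq ▸ hr2, fun c' hc' hm' => ?_⟩
  obtain ⟨-, -, hr1', hr2'⟩ := key c' hm'
  by_contra hno
  push Not at hno
  have hsub' : (wt τ A c' ⊔ wt τ A (cw b c')).map (τ b - 1) ≤ LinearMap.range (τ b - 1) := LinearMap.map_le_range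
  have hpos' : 0 < Module.finrank (ZMod 3) (wt τ A c') :=
    Nat.pos_of_ne_zero fun e => hc' (Submodule.finrank_eq_zero.mp e)
  have hdisj : ∀ x : A → ZMod 3, (x = c' ∨ x = cw b c' ∨ x = cw b (cw b c')) →
      x ≠ c ∧ x ≠ cw b c ∧ x ≠ cw b (cw b c) := by
    have inv : ∀ x y : A → ZMod 3, cw b x = y → x = cw b (cw b y) := fun x y e => by rw [← e, h3]
    rintro x (rfl | rfl | rfl)
    · exact hno
    · refine ⟨fun e => hno.2.2 (inv _ _ e), fun e => hno.1 ?_, fun e => hno.2.1 ?_⟩
      · rw [inv _ _ e, h3]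
      · rw [inv _ _ e, h3]
    · refine ⟨fun e => hno.2.1 ?_, fun e => hno.2.2 ?_, fun e => hno.1 ?_⟩
      · rw [← h3 c', e]
      · rw [← h3 c', e]
      · rw [← h3 c', e, h3]
  have hd := (iSupIndep_wt (τ := τ) (A := A)).disjoint_biSup_biSup
    (s := {c, cw b c, cw b (cw b c)}) (t := {c', cw b c', cw b (cw b c')})
    (Set.disjoint_left.mpr fun x hx hx' => by
      obtain ⟨a1, a2, a3⟩ := hdisj x (by simpa using hx')
      simp only [Set.mem_insert_iff, Set.mem_singleton_iff] at hx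
      tauto)
  simp only [iSup_insert, iSup_singleton, ← sup_assoc] at hd
  have hd' := hd.mono hr2 hr2'
  have hsum := Submodule.finrank_sup_add_finrank_inf_eq ((wt τ A c ⊔ wt τ A (cw b c)).map (τ b - 1))
    ((wt τ A c' ⊔ wt τ A (cw b c')).map (τ b - 1))
  rw [hd'.eq_bot, finrank_bot] at hsum
  have := (Submodule.finrank_mono (sup_le hsub hsub')).trans hrank
  omega

theorem eq_smul_of_finrank_one {W : Submodule (ZMod 3) V} (h : Module.finrank (ZMod 3) W = 1) {v w : V}
    (hv : v ∈ W) (hv0 : v ≠ 0) (hw : w ∈ W) : ∃ k : ZMod 3, w = k • v := by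
  obtain ⟨k, hk⟩ := exists_smul_eq_of_finrank_eq_one h (x := (⟨v, hv⟩ : W))
    (fun e => hv0 (congrArg Subtype.val e)) ⟨w, hw⟩
  exact ⟨k, (congrArg Subtype.val hk).symm⟩

end Cycle

end CfsgLib.Solvable.RankTwoUnipotent
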